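import Groth.Agent.CycA.ProdDim
import Groth.Agent.AbSch.K449.Basic
import Groth.Agent.Flat2B.SmoothGeom
import Groth.Prelude.Def_AgPol
import Mathlib.CategoryTheory.Monoidal.Cartesian.Mon
import Mathlib.AlgebraicGeometry.Geometrically.Integral

/-!
# Products of abelian schemes
-/

set_option autoImplicit false
universe u

open CategoryTheory Limits MonoidalCategory CartesianMonoidalCategory AlgebraicGeometry
open scoped MonObj

namespace K451.Prod

variable {S : Scheme.{u}}

theorem geometricallyConnected_of_integral {X Y : Scheme.{u}} (f : X ⟶ Y) [GeometricallyIntegral f] :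
    GeometricallyConnected f := ⟨fun K _ y Z a b h => by
    have := GeometricallyIntegral.geometrically_isIntegral (f := f) y a b h
    infer_instance⟩

/-- A geometrically connected smooth proper group scheme is geometrically integral. -/
theorem geometricallyIntegral_of_isAbSch {A : Over S} [GrpObj A] {g : ℕ} (hA : AgPol.IsAbSch A g) :
    GeometricallyIntegral A.hom := by
  have := hA.smooth
  have := hA.geomConnected
  have := Groth.Agent.Flat2B.SmoothGeom.geometricallyReduced_of_smooth A.hom
  exact K449.Basic.geometricallyIntegral A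

theorem dim_tensor {K : Type u} [Field K] (X Y : Over (Spec (CommRingCat.of K)))
    [LocallyOfFiniteType X.hom] [LocallyOfFiniteType Y.hom] [GeometricallyIntegral X.hom]
    [GeometricallyIntegral Y.hom] {g g' : ℕ} (hX : topologicalKrullDim X.left = g)
    (hY : topologicalKrullDim Y.left = g') : topologicalKrullDim (X ⊗ Y).left = ((g + g' : ℕ) : WithBot ℕ∞) := by
  have h1 : IsIntegral X.left := GeometricallyIntegral.isIntegral_of_subsingleton X.hom
  have h2 : IsIntegral Y.left := GeometricallyIntegral.isIntegral_of_subsingleton Y.hom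
  have h3 : IsLocallyNoetherian Y.left := LocallyOfFiniteType.isLocallyNoetherian Y.hom
  have h4 : IsIntegral (pullback X.hom Y.hom) := inferInstance
  obtain ⟨n, m, e1, e2, e3⟩ := Groth.Agent.CycA.ProdDim.exists_dim_pullback X.hom Y.hom
  rw [hX] at e1
  rw [hY] at e2
  have e4 : g = n := by exact_mod_cast e1
  have e5 : g' = m := by exact_mod_cast e2
  subst e4 e5
  exact e3

/-- Products of abelian schemes are abelian schemes. -/
theorem isAbSch_tensor {A B : Over S} [GrpObj A] [GrpObj B] {g g' : ℕ} (hA : AgPol.IsAbSch A g)
    (hB : AgPol.IsAbSch B g') : AgPol.IsAbSch (A ⊗ B) (g + g') := by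
  have := hA.smooth
  have := hA.geomConnected
  have := hA.proper
  have := hB.smooth
  have := hB.geomConnected
  have := hB.proper
  have := geometricallyIntegral_of_isAbSch hA
  have := geometricallyIntegral_of_isAbSch hB
  have hhom : (A ⊗ B).hom = pullback.fst A.hom B.hom ≫ A.hom := rfl
  refine ⟨?_, ?_, ?_, ?_⟩
  · rw [hhom]; infer_instance
  · rw [hhom]; infer_instance
  · rw [hhom]
    have : UniversallyOpen A.hom := inferInstance
    exact GeometricallyConnected.comp _ _
  · intro s
    let F := Over.pullback (S.fromSpecResidueField s)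
    let e : F.obj A ⊗ F.obj B ≅ F.obj (A ⊗ B) := Functor.Monoidal.μIso F A B
    have h1 : topologicalKrullDim (F.obj A ⊗ F.obj B).left = ((g + g' : ℕ) : WithBot ℕ∞) := by
      have := hA.smooth
      have := hB.smooth
      have i1 : LocallyOfFiniteType (F.obj A).hom := inferInstanceAs (LocallyOfFiniteType (pullback.snd A.hom _))
      have i2 : LocallyOfFiniteType (F.obj B).hom := inferInstanceAs (LocallyOfFiniteType (pullback.snd B.hom _))
      have i3 : GeometricallyIntegral (F.obj A).hom := inferInstanceAs (GeometricallyIntegral (pullback.snd A.hom _))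
      have i4 : GeometricallyIntegral (F.obj B).hom := inferInstanceAs (GeometricallyIntegral (pullback.snd B.hom _))
      exact @dim_tensor (S.residueField s) _ (F.obj A) (F.obj B) i1 i2 i3 i4 _ _ (hA.fibreDim s) (hB.fibreDim s)
    rw [← h1]
    have e2 : (F.obj A ⊗ F.obj B).left ≅ (F.obj (A ⊗ B)).left := (Over.forget _).mapIso e
    exact (IsHomeomorph.topologicalKrullDim_eq _ (Scheme.homeoOfIso e2).isHomeomorph).symm

end K451.Prod
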