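import Groth.Agent.AbSch.K451.DetMat
import Groth.Agent.Dual.H366.ExtQCoh
import Groth.Agent.PerfA.QCohEpi

/-!
# The determinant of a finite locally free module, in the Picard group
-/

set_option autoImplicit false
universe u

open CategoryTheory CategoryTheory.Limits AlgebraicGeometry Opposite TopologicalSpace
open scoped TensorProduct Kronecker
open Groth.Agent.Sga67 Groth.Agent.Sga67.Sec Groth.Agent.Sga67.LocBasis Groth.Agent.Dual.H376.GlueGen
open Groth.Agent.Grpsch Groth.Agent.Sga67.TensorOps Groth.Agent.Sga67.ExtSheaf Groth.Agent.Dual.H376.DetSec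

namespace K451.DetPic

open K451.Coc K451.DetMat

variable {X : Scheme.{u}}

theorem isFinLocFree_of_rank {r : ℕ} {E : X.Modules} (hE : FlatMod.IsFinLocFreeOfRank r E) :
    FlatMod.IsFinLocFree E := fun x => by
  obtain ⟨U, hx, h⟩ := hE x
  exact ⟨U, r, hx, h⟩

theorem isQCoh_of_rank {r : ℕ} {E : X.Modules} (hE : FlatMod.IsFinLocFreeOfRank r E) : Coh.IsQCoh E :=
  Groth.Agent.PerfA.QCohEpi.isQCoh_of_isFinLocFree (isFinLocFree_of_rank hE)

theorem rank_iff {r : ℕ} {E : X.Modules} : FlatMod.IsFinLocFreeOfRank r E ↔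
    ∀ x : X, ∃ (U : X.Opens) (κ : Type) (_ : Fintype κ) (b : κ → Sec E U), x ∈ U ∧ IsLocBasis b ∧ Fintype.card κ = r := by
  constructor
  · intro h x
    obtain ⟨V, -, b, hx, hb⟩ := exists_affine_basis h (U := ⊤) (x := x) trivial
    exact ⟨V.1, Fin r, inferInstance, b, hx, hb, Fintype.card_fin r⟩
  · intro h x
    obtain ⟨U, κ, _, b, hx, hb, rfl⟩ := h x
    exact ⟨U, hx, nonempty_restrict_iso_iff.mpr ⟨_, hb.reindex (Fintype.equivFin κ).symm⟩⟩

theorem rank_of_iso {r : ℕ} {E E' : X.Modules} (e : E ≅ E') (hE : FlatMod.IsFinLocFreeOfRank r E) :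
    FlatMod.IsFinLocFreeOfRank r E' := by
  rw [rank_iff] at hE ⊢
  intro x
  obtain ⟨U, κ, _, b, hx, hb, h⟩ := hE x
  exact ⟨U, κ, _, _, hx, hb.of_iso e, h⟩

theorem rank_tensor {r s : ℕ} {E F : X.Modules} (hE : FlatMod.IsFinLocFreeOfRank r E)
    (hF : FlatMod.IsFinLocFreeOfRank s F) : FlatMod.IsFinLocFreeOfRank (r * s) (CohB1.tensorMod E F) := by
  rw [rank_iff]
  intro x
  obtain ⟨V, -, b, hxV, hb⟩ := exists_affine_basis hE (U := ⊤) (x := x) trivial
  obtain ⟨W, hW, c, hxW, hc⟩ := exists_affine_basis hF (U := V.1) (x := x) hxV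
  exact ⟨W.1, Fin r × Fin s, inferInstance, _, hxW, isLocBasis_tensor (hb.restrict hW) hc, by simp⟩

theorem rank_extension {r s : ℕ} {C : ShortComplex X.Modules} (hC : C.ShortExact)
    (hE : FlatMod.IsFinLocFreeOfRank r C.X₁) (hF : FlatMod.IsFinLocFreeOfRank s C.X₃) :
    FlatMod.IsFinLocFreeOfRank (r + s) C.X₂ := by
  have := hC.epi_g
  rw [rank_iff]
  intro x
  obtain ⟨V, -, b, hxV, hb⟩ := exists_affine_basis hE (U := ⊤) (x := x) trivial
  obtain ⟨W, hW, c, hxW, hc⟩ := exists_affine_basis hF (U := V.1) (x := x) hxV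
  obtain ⟨W', hW', hxW', m, hm⟩ := exists_lifts C.g c hxW
  exact ⟨W', Fin r ⊕ Fin s, inferInstance, _, hxW', isLocBasis_extension hC
    (hb.restrict (hW'.trans hW)) (hc.restrict hW') m hm, by simp⟩

theorem rank_one_iff {E : X.Modules} : FlatMod.IsFinLocFreeOfRank 1 E ↔ PicF.IsInvertible E := by
  constructor
  · intro h
    exact isInvertible_of_isExtPow h (isExtPow_one E)
  · intro h x
    obtain ⟨U, hx, ⟨e⟩⟩ := h x
    have h2 : ∃ b : Fin 1 → Sec (Coh.structureModule (U : Scheme.{u})) ⊤, IsLocBasis b := ⟨_, isLocBasis_one⟩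
    obtain ⟨b, hb⟩ := h2
    obtain ⟨e'⟩ := nonempty_iso_free hb
    exact ⟨U, hx, ⟨e ≪≫ e'⟩⟩

/-- The determinant class. -/
noncomputable def det (r : ℕ) (E : X.Modules) (hE : FlatMod.IsFinLocFreeOfRank r E) : PicGrp.Pic X :=
  PicGrp.mk (Groth.Agent.Krr.H495.ExtPre.ext r E)
    (isInvertible_of_isExtPow hE (Groth.Agent.Dual.H366.ExtQCoh.isExtPow_ext (isQCoh_of_rank hE) r))

theorem mk_eq_det {r : ℕ} {E D : X.Modules} (hE : FlatMod.IsFinLocFreeOfRank r E)
    (hD : ExtPow.IsExtPow r E D) (hDi : PicF.IsInvertible D) : PicGrp.mk D hDi = det r E hE :=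
  (PicGrp.mk_eq_iff _ _).mpr (nonempty_iso_of_isExtPow (Iso.refl E) hD
    (Groth.Agent.Dual.H366.ExtQCoh.isExtPow_ext (isQCoh_of_rank hE) r))

theorem det_congr {r r' : ℕ} {E E' : X.Modules} (hE : FlatMod.IsFinLocFreeOfRank r E)
    (hE' : FlatMod.IsFinLocFreeOfRank r' E') (h : r = r') (e : E ≅ E') : det r E hE = det r' E' hE' := by
  subst h
  exact (PicGrp.mk_eq_iff _ _).mpr (nonempty_iso_of_isExtPow e
    (Groth.Agent.Dual.H366.ExtQCoh.isExtPow_ext (isQCoh_of_rank hE) r)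
    (Groth.Agent.Dual.H366.ExtQCoh.isExtPow_ext (isQCoh_of_rank hE') r))

theorem det_tensor {r s : ℕ} {E F : X.Modules} (hE : FlatMod.IsFinLocFreeOfRank r E)
    (hF : FlatMod.IsFinLocFreeOfRank s F) :
    det (r * s) (CohB1.tensorMod E F) (rank_tensor hE hF) = det r E hE ^ s * det s F hF ^ r :=
  mk_det_tensor hE hF (Groth.Agent.Dual.H366.ExtQCoh.isExtPow_ext (isQCoh_of_rank hE) r)
    (Groth.Agent.Dual.H366.ExtQCoh.isExtPow_ext (isQCoh_of_rank hF) s)
    (Groth.Agent.Dual.H366.ExtQCoh.isExtPow_ext (isQCoh_of_rank (rank_tensor hE hF)) (r * s)) _ _ _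

theorem det_extension {r s : ℕ} {C : ShortComplex X.Modules} (hC : C.ShortExact)
    (hE : FlatMod.IsFinLocFreeOfRank r C.X₁) (hF : FlatMod.IsFinLocFreeOfRank s C.X₃) :
    det (r + s) C.X₂ (rank_extension hC hE hF) = det r C.X₁ hE * det s C.X₃ hF :=
  mk_det_extension hC hE hF (Groth.Agent.Dual.H366.ExtQCoh.isExtPow_ext (isQCoh_of_rank hE) r)
    (Groth.Agent.Dual.H366.ExtQCoh.isExtPow_ext (isQCoh_of_rank hF) s)
    (Groth.Agent.Dual.H366.ExtQCoh.isExtPow_ext (isQCoh_of_rank (rank_extension hC hE hF)) (r + s)) _ _ _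

theorem det_one {E : X.Modules} (hE : FlatMod.IsFinLocFreeOfRank 1 E) (hE' : PicF.IsInvertible E) :
    det 1 E hE = PicGrp.mk E hE' := (mk_eq_det hE (isExtPow_one E) hE').symm

end K451.DetPic
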