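import Groth.Agent.AbSch.K451.Coc
import Mathlib.LinearAlgebra.Matrix.Kronecker

/-!
# Determinants of finite locally free modules, by cocycles
-/

set_option autoImplicit false
universe u

open CategoryTheory CategoryTheory.Limits AlgebraicGeometry Opposite TopologicalSpace
open scoped TensorProduct Kronecker
open Groth.Agent.Sga67 Groth.Agent.Sga67.Sec Groth.Agent.Sga67.LocBasis Groth.Agent.Dual.H376.GlueGen
open Groth.Agent.Grpsch Groth.Agent.Sga67.TensorOps Groth.Agent.Sga67.ExtSheaf Groth.Agent.Dual.H376.DetSec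

namespace K451.DetMat

open K451.Coc

variable {X : Scheme.{u}}

theorem exists_matrix {E : X.Modules} {κ κ' : Type*} [Fintype κ'] {U V W : X.Opens} (b : κ → Sec E U)
    {b' : κ' → Sec E V} (hb' : IsLocBasis b') (hU : W ≤ U) (hV : W ≤ V) :
    ∃ a : κ → κ' → Γ(X, W), ∀ k, res E hU (b k) = ∑ l, a k l • res E hV (b' l) := by
  choose a ha using fun k => (hb' W hV).2 (res E hU (b k))
  refine ⟨a, fun k => ?_⟩
  rw [← ha k, comb_apply]

theorem exists_affine_basis {r : ℕ} {E : X.Modules} (hE : FlatMod.IsFinLocFreeOfRank r E) {U : X.Opens} {x : X}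
    (hx : x ∈ U) : ∃ (V : X.affineOpens) (_ : V.1 ≤ U) (b : Fin r → Sec E V.1), x ∈ V.1 ∧ IsLocBasis b := by
  obtain ⟨W, hxW, hW⟩ := hE x
  obtain ⟨b, hb⟩ := nonempty_restrict_iso_iff.mp hW
  obtain ⟨_, ⟨V, rfl⟩, hxV, hV⟩ := Opens.isBasis_iff_nbhd.mp (affineBasis X) (show x ∈ W ⊓ U from ⟨hxW, hx⟩)
  exact ⟨V, hV.trans inf_le_right, _, hxV, hb.restrict (hV.trans inf_le_left)⟩

/-- The top exterior power of a finite locally free module of constant rank is invertible. -/
theorem isInvertible_of_isExtPow {r : ℕ} {E D : X.Modules} (hE : FlatMod.IsFinLocFreeOfRank r E)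
    (hD : ExtPow.IsExtPow r E D) : PicF.IsInvertible D := by
  obtain ⟨φ, hφ⟩ := exists_phi hD
  choose V _ b hx hb using fun x : X => exists_affine_basis hE (U := ⊤) (x := x) trivial
  exact isInvertible_of_gens (fun x => (V x).1) (fun x => ⟨x, hx x⟩) D (fun x => gen φ (b x))
    (fun x => isGen_gen φ hφ (hb x))

variable {ι : Type*}

/-- The determinant is given by the determinants of the matrix cocycle. -/
theorem isCoc_det {r : ℕ} {E D : X.Modules} (A : ι → X.affineOpens) (b : ∀ i, Fin r → Sec E (A i).1)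
    (hb : ∀ i, IsLocBasis (b i)) (a : ∀ i j, Matrix (Fin r) (Fin r) Γ(X, (A i).1 ⊓ (A j).1))
    (ha : ∀ i j k, res E inf_le_left (b i k) = ∑ l, a i j k l • res E inf_le_right (b j l))
    (hD : ExtPow.IsExtPow r E D) (hDi : PicF.IsInvertible D) :
    IsCoc (fun i => (A i).1) (PicGrp.mk D hDi) (fun i j => (a i j).det) := by
  obtain ⟨φ, hφ⟩ := exists_phi hD
  refine isCoc_mk _ hDi (fun i => gen φ (b i)) (fun i => isGen_gen φ hφ (hb i)) fun i j => ?_
  apply eq_of_locally
  intro x hx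
  obtain ⟨_, ⟨V, rfl⟩, hxV, hV⟩ := Opens.isBasis_iff_nbhd.mp (affineBasis X) hx
  refine ⟨V.1, hV, hxV, ?_⟩
  rw [res_res, res_smul, res_res]
  have h1 := res_gen φ hφ (V := V) (hV.trans inf_le_left) (b i)
  refine h1.trans ?_
  have h2 := gen_change φ hφ (V := V) (hV.trans inf_le_right) (b j)
    (fun k => res E (hV.trans inf_le_left) (b i k)) ((a i j).map (resO X hV)) (fun k => by
      rw [← res_res E inf_le_left hV, ha i j k, map_sum]
      refine Finset.sum_congr rfl fun l _ => ?_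
      rw [res_smul, res_res]
      rfl)
  rw [h2, ← RingHom.mapMatrix_apply, ← RingHom.map_det]

/-- `det (E ⊗ F) = det(E)^s ⊗ det(F)^r`. -/
theorem mk_det_tensor {r s : ℕ} {E F D D' D'' : X.Modules} (hE : FlatMod.IsFinLocFreeOfRank r E)
    (hF : FlatMod.IsFinLocFreeOfRank s F) (hD : ExtPow.IsExtPow r E D) (hD' : ExtPow.IsExtPow s F D')
    (hD'' : ExtPow.IsExtPow (r * s) (CohB1.tensorMod E F) D'')
    (hDi : PicF.IsInvertible D) (hDi' : PicF.IsInvertible D') (hDi'' : PicF.IsInvertible D'') :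
    PicGrp.mk D'' hDi'' = PicGrp.mk D hDi ^ s * PicGrp.mk D' hDi' ^ r := by
  -- the covering
  have hcov : ∀ x : X, ∃ (V : X.affineOpens) (b : Fin r → Sec E V.1) (c : Fin s → Sec F V.1),
      x ∈ V.1 ∧ IsLocBasis b ∧ IsLocBasis c := by
    intro x
    obtain ⟨V, -, b, hxV, hb⟩ := exists_affine_basis hE (U := ⊤) (x := x) trivial
    obtain ⟨W, hW, c, hxW, hc⟩ := exists_affine_basis hF (U := V.1) (x := x) hxV
    exact ⟨W, _, c, hxW, hb.restrict hW, hc⟩
  choose V b c hx hb hc using hcov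
  have hB : ∀ x : X, ∃ i, x ∈ (V i).1 := fun x => ⟨x, hx x⟩
  choose a ha using fun i j => exists_matrix (W := (V i).1 ⊓ (V j).1) (b i) (hb j) inf_le_left inf_le_right
  choose a' ha' using fun i j => exists_matrix (W := (V i).1 ⊓ (V j).1) (c i) (hc j) inf_le_left inf_le_right
  have h1 := isCoc_det V b hb (fun i j => Matrix.of (a i j)) ha hD hDi
  have h2 := isCoc_det V c hc (fun i j => Matrix.of (a' i j)) ha' hD' hDi'
  have h3 := isCoc_det V (fun i p => tau E F (V i).1 (b i (finProdFinEquiv.symm p).1 ⊗ₜ c i (finProdFinEquiv.symm p).2))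
    (fun i => (isLocBasis_tensor (hb i) (hc i)).reindex (finProdFinEquiv.symm))
    (fun i j => (Matrix.reindex finProdFinEquiv finProdFinEquiv) (Matrix.of (a i j) ⊗ₖ Matrix.of (a' i j)))
    (fun i j p => by
      rw [← tau_tres, tres_tmul, ha i j, ha' i j, TensorProduct.sum_tmul, map_sum]
      rw [← finProdFinEquiv.sum_comp, Fintype.sum_prod_type]
      refine Finset.sum_congr rfl fun l _ => ?_
      rw [TensorProduct.tmul_sum, map_sum]
      refine Finset.sum_congr rfl fun l' _ => ?_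
      rw [tau_smul_smul, ← tau_tres, tres_tmul]
      simp) hD'' hDi''
  refine h3.eq hB ?_
  have h4 := (h1.pow s).mul (h2.pow r)
  have h5 : (fun i j => (Matrix.of (a i j)).det ^ s * (Matrix.of (a' i j)).det ^ r) =
      fun i j => ((Matrix.reindex finProdFinEquiv finProdFinEquiv)
        (Matrix.of (a i j) ⊗ₖ Matrix.of (a' i j))).det := by
    funext i j
    rw [Matrix.det_reindex_self, Matrix.det_kronecker, Fintype.card_fin, Fintype.card_fin]
  rw [← h5]
  exact h4

/-- `det E = det(E') ⊗ det(E'')` for an extension `0 → E' → E → E'' → 0`. -/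
theorem mk_det_extension {r s : ℕ} {C : ShortComplex X.Modules} (hC : C.ShortExact) {D D' D'' : X.Modules}
    (hE : FlatMod.IsFinLocFreeOfRank r C.X₁) (hF : FlatMod.IsFinLocFreeOfRank s C.X₃)
    (hD : ExtPow.IsExtPow r C.X₁ D) (hD' : ExtPow.IsExtPow s C.X₃ D') (hD'' : ExtPow.IsExtPow (r + s) C.X₂ D'')
    (hDi : PicF.IsInvertible D) (hDi' : PicF.IsInvertible D') (hDi'' : PicF.IsInvertible D'') :
    PicGrp.mk D'' hDi'' = PicGrp.mk D hDi * PicGrp.mk D' hDi' := by
  have := hC.epi_g
  have hcov : ∀ x : X, ∃ (V : X.affineOpens) (b : Fin r → Sec C.X₁ V.1) (c : Fin s → Sec C.X₃ V.1)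
      (m : Fin s → Sec C.X₂ V.1),
      x ∈ V.1 ∧ IsLocBasis b ∧ IsLocBasis c ∧ ∀ k, appS C.g V.1 (m k) = c k := by
    intro x
    obtain ⟨V, -, b, hxV, hb⟩ := exists_affine_basis hE (U := ⊤) (x := x) trivial
    obtain ⟨W, hW, c, hxW, hc⟩ := exists_affine_basis hF (U := V.1) (x := x) hxV
    obtain ⟨W', hW', hxW', m, hm⟩ := exists_lifts C.g c hxW
    obtain ⟨_, ⟨V', rfl⟩, hxV', hV'⟩ := Opens.isBasis_iff_nbhd.mp (affineBasis X) hxW'
    exact ⟨V', _, fun k => res _ (hV'.trans hW') (c k), fun k => res _ hV' (m k), hxV',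
      hb.restrict ((hV'.trans hW').trans hW), hc.restrict (hV'.trans hW'), fun k => by
        rw [appS_res, hm, res_res]⟩
  choose V b c m hx hb hc hm using hcov
  have hB : ∀ x : X, ∃ i, x ∈ (V i).1 := fun x => ⟨x, hx x⟩
  have := hC.mono_f
  choose a ha using fun i j => exists_matrix (W := (V i).1 ⊓ (V j).1) (b i) (hb j) inf_le_left inf_le_right
  choose a' ha' using fun i j => exists_matrix (W := (V i).1 ⊓ (V j).1) (c i) (hc j) inf_le_left inf_le_right
  have hex : ∀ i j k, ∃ a'' : Fin r → Γ(X, (V i).1 ⊓ (V j).1),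
      res C.X₂ inf_le_left (m i k) = ∑ l, a'' l • res C.X₂ inf_le_right (appS C.f (V j).1 (b j l)) +
        ∑ l, a' i j k l • res C.X₂ inf_le_right (m j l) := by
    intro i j k
    obtain ⟨t, ht⟩ := exists_of_appS_eq_zero hC.exact
      (res C.X₂ (inf_le_left : (V i).1 ⊓ (V j).1 ≤ _) (m i k) -
        ∑ l, a' i j k l • res C.X₂ (inf_le_right : (V i).1 ⊓ (V j).1 ≤ _) (m j l)) (by
      rw [map_sub, appS_res, hm, ha' i j k, map_sum, sub_eq_zero]
      refine Finset.sum_congr rfl fun l _ => ?_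
      rw [map_smul, appS_res, hm])
    obtain ⟨a'', rfl⟩ := (hb j _ (inf_le_right : (V i).1 ⊓ (V j).1 ≤ _)).2 t
    refine ⟨a'', ?_⟩
    rw [eq_comm, sub_eq_iff_eq_add] at ht
    rw [ht, comb_apply, map_sum]
    congr 1
    refine Finset.sum_congr rfl fun l _ => ?_
    rw [map_smul, appS_res]
  choose a'' ha'' using hex
  have h1 := isCoc_det V b hb (fun i j => Matrix.of (a i j)) ha hD hDi
  have h2 := isCoc_det V c hc (fun i j => Matrix.of (a' i j)) ha' hD' hDi'
  have h3 := isCoc_det V (fun i p => Sum.elim (fun k => appS C.f (V i).1 (b i k)) (m i) (finSumFinEquiv.symm p))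
    (fun i => (isLocBasis_extension hC (hb i) (hc i) (m i) (hm i)).reindex (finSumFinEquiv.symm))
    (fun i j => (Matrix.reindex finSumFinEquiv finSumFinEquiv)
      (Matrix.fromBlocks (Matrix.of (a i j)) 0 (Matrix.of (a'' i j)) (Matrix.of (a' i j))))
    (fun i j p => by
      rw [← finSumFinEquiv.sum_comp, Fintype.sum_sum_type]
      obtain ⟨q, rfl⟩ := finSumFinEquiv.surjective p
      rcases q with k | k
      · simp only [Equiv.symm_apply_apply, Sum.elim_inl, Matrix.reindex_apply, Matrix.submatrix_apply,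
          Matrix.fromBlocks_apply₁₁, Matrix.fromBlocks_apply₁₂, Matrix.zero_apply, zero_smul,
          Finset.sum_const_zero, add_zero, Matrix.of_apply]
        rw [← appS_res, ha i j, map_sum]
        refine Finset.sum_congr rfl fun l _ => ?_
        rw [map_smul, appS_res]
      · simp only [Equiv.symm_apply_apply, Sum.elim_inl, Sum.elim_inr, Matrix.reindex_apply,
          Matrix.submatrix_apply, Matrix.fromBlocks_apply₂₁, Matrix.fromBlocks_apply₂₂, Matrix.of_apply]
        exact ha'' i j k) hD'' hDi''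
  refine h3.eq hB ?_
  have h4 := h1.mul h2
  have h5 : (fun i j => (Matrix.of (a i j)).det * (Matrix.of (a' i j)).det) =
      fun i j => ((Matrix.reindex finSumFinEquiv finSumFinEquiv)
      (Matrix.fromBlocks (Matrix.of (a i j)) 0 (Matrix.of (a'' i j)) (Matrix.of (a' i j)))).det := by
    funext i j
    rw [Matrix.det_reindex_self, Matrix.det_fromBlocks_zero₁₂]
  rw [← h5]
  exact h4

end K451.DetMat
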