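import Groth.Agent.AbSch.K451.RelDim
import Groth.Agent.AbSch.K451.DetMat
import Groth.Agent.Vancyc.H878.RelOmega
import Groth.Agent.Krr.H496.PullK0
import Groth.Agent.Vancyc.H878.Triv

/-!
# Invariant differentials of a product
-/

set_option autoImplicit false
universe u

open CategoryTheory Limits MonoidalCategory CartesianMonoidalCategory AlgebraicGeometry
open scoped MonObj

namespace K451.OmegaBox

open Groth.Agent.Vancyc.H878

variable {S : Scheme.{u}} {A B : Over S} [GrpObj A] [GrpObj B] {g g' : ℕ}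

/-- The module of invariant differentials. -/
noncomputable abbrev om (A : Over S) [GrpObj A] : S.Modules :=
  (Scheme.Modules.pullback (η[A] : 𝟙_ (Over S) ⟶ A).left).obj (Omega.sheaf A.hom)

theorem isFinLocFreeOfRank_om (hA : AgPol.IsAbSch A g) : FlatMod.IsFinLocFreeOfRank g (om A) :=
  Triv.isFinLocFreeOfRank_pullback _ (K451.RelDim.isFinLocFreeOfRank_omega hA)

/-- `0 → ω_A → ω_{A × B} → ω_B → 0`. -/
theorem exists_shortExact_unit (hA : AgPol.IsAbSch A g) (hB : AgPol.IsAbSch B g') :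
    ∃ C : ShortComplex S.Modules, C.ShortExact ∧ Nonempty (C.X₁ ≅ om A) ∧
      Nonempty (C.X₂ ≅ om (A ⊗ B)) ∧ Nonempty (C.X₃ ≅ om B) := by
  have := hA.smooth
  have := hA.proper
  have := hB.smooth
  have := hB.proper
  have hsm : Smooth (pullback.fst A.hom B.hom) := inferInstance
  have hqs : QuasiSeparated (pullback.fst A.hom B.hom) := inferInstance
  obtain ⟨C, hC, ⟨e1⟩, ⟨e2⟩, ⟨e3⟩⟩ := RelOmega.exists_shortExact (pullback.fst A.hom B.hom) A.hom
  let σ : S ⟶ (A ⊗ B).left := (η[A ⊗ B] : 𝟙_ (Over S) ⟶ A ⊗ B).left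
  have hσ1 : σ ≫ pullback.fst A.hom B.hom = (η[A] : 𝟙_ (Over S) ⟶ A).left := by
    have : (η[A ⊗ B] : 𝟙_ (Over S) ⟶ A ⊗ B) ≫ fst A B = η[A] := IsMonHom.one_hom _
    exact congrArg Over.Hom.left this
  have hσ2 : σ ≫ pullback.snd A.hom B.hom = (η[B] : 𝟙_ (Over S) ⟶ B).left := by
    have : (η[A ⊗ B] : 𝟙_ (Over S) ⟶ A ⊗ B) ≫ snd A B = η[B] := IsMonHom.one_hom _
    exact congrArg Over.Hom.left this
  have hfl : FlatMod.IsFinLocFree C.X₃ :=
    Groth.Agent.Dcoh.LocalD.isFinLocFree_of_iso e3.symm (OmegaRank.isFinLocFree_omega _)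
  let e4 := RelOmega.omegaBC (IsPullback.of_hasPullback A.hom B.hom).flip
  refine ⟨C.map (Scheme.Modules.pullback σ),
    Groth.Agent.Krr.H496.PullK0.shortExact_pullback_of_isFinLocFree σ hC hfl, ⟨?_⟩, ⟨?_⟩, ⟨?_⟩⟩
  · exact (Scheme.Modules.pullback σ).mapIso e1 ≪≫ (Scheme.Modules.pullbackComp σ _).app _ ≪≫
      (Scheme.Modules.pullbackCongr hσ1).app _
  · exact (Scheme.Modules.pullback σ).mapIso e2
  · exact (Scheme.Modules.pullback σ).mapIso (e3 ≪≫ e4.symm) ≪≫ (Scheme.Modules.pullbackComp σ _).app _ ≪≫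
      (Scheme.Modules.pullbackCongr hσ2).app _

end K451.OmegaBox
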