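import Groth.Agent.Grpsch.PicGrp
import Mathlib.CategoryTheory.Monoidal.Cartesian.Over
import Mathlib.CategoryTheory.Monoidal.Cartesian.Grp
import Mathlib.Data.Nat.Choose.Basic
import Mathlib.Data.Nat.Choose.Sum

/-!
# `[n]^* L` from the theorem of the cube
-/

set_option autoImplicit false
universe u v

open CategoryTheory Limits MonoidalCategory CartesianMonoidalCategory AlgebraicGeometry
open scoped MonObj

namespace K451.PowCube

section Abs

variable {G : Type u} [Group G] {P : Type v} [CommGroup P] (q : G → P)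

/-- A function of degree two on a group, in the strong (commutative) form of the cube. -/
def IsCub : Prop := q 1 = 1 ∧ ∀ a b c : G, q (a * b * c) * q a * q b * q c = q (a * b) * q (a * c) * q (b * c)

variable {q}

theorem pow_succ_of (h : IsCub q) (x : G) (n : ℕ) :
    q (x ^ (n + 1)) = q (x ^ n) * q x ^ (n + 1) * q x⁻¹ ^ n := by
  induction n with
  | zero => simp [h.1]
  | succ n ih =>
    have h0 := h.2 (x ^ (n + 1)) x x⁻¹
    rw [mul_assoc (x ^ (n + 1)), mul_inv_cancel, mul_one, h.1, mul_one, ← pow_succ] at h0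
    have h1 : x ^ (n + 1) * x⁻¹ = x ^ n := by rw [pow_succ, mul_assoc, mul_inv_cancel, mul_one]
    rw [h1] at h0
    have h2 : q (x ^ (n + 1 + 1)) * q (x ^ n) =
      (q (x ^ (n + 1)) * q x ^ (n + 1 + 1) * q x⁻¹ ^ (n + 1)) * q (x ^ n) := by
      rw [← h0]
      conv_lhs => rw [mul_assoc, mul_assoc]; arg 2; rw [ih]
      simp only [pow_succ]
      generalize q (x ^ n * x) = a1
      generalize q (x ^ n) = a2
      generalize q x = a3
      generalize q x⁻¹ = a4
      generalize a3 ^ n = a5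
      generalize a4 ^ n = a6
      ac_rfl
    exact mul_right_cancel h2

theorem pow_choose_of (h : IsCub q) (x : G) (n : ℕ) :
    q (x ^ n) = q x ^ ((n + 1).choose 2) * q x⁻¹ ^ (n.choose 2) := by
  induction n with
  | zero => simp [h.1]
  | succ n ih =>
    rw [pow_succ_of h, ih, Nat.choose_succ_succ' (n + 1) 1, Nat.choose_one_right,
      Nat.choose_succ_succ' n 1, Nat.choose_one_right]
    simp only [pow_add, pow_succ]
    generalize q x = a3
    generalize q x⁻¹ = a4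
    generalize a3 ^ n = a5
    generalize a4 ^ n = a6
    ac_rfl

theorem toNat_choose_succ (n : ℕ) : (((n : ℤ) ^ 2 + n) / 2).toNat = (n + 1).choose 2 := by
  rw [Nat.choose_two_right, Nat.add_sub_cancel]
  have : ((n : ℤ) ^ 2 + n) / 2 = (((n + 1) * n / 2 : ℕ) : ℤ) := by
    push_cast
    congr 1
    ring
  rw [this, Int.toNat_natCast]

theorem toNat_choose (n : ℕ) : (((n : ℤ) ^ 2 - n) / 2).toNat = n.choose 2 := by
  rw [Nat.choose_two_right]
  have : ((n : ℤ) ^ 2 - n) / 2 = ((n * (n - 1) / 2 : ℕ) : ℤ) := by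
    rcases n with _ | n
    · simp
    · push_cast
      congr 1
      ring
  rw [this, Int.toNat_natCast]

theorem zpow_of (h : IsCub q) (x : G) (n : ℤ) :
    q (x ^ n) = q x ^ ((n ^ 2 + n) / 2).toNat * q x⁻¹ ^ ((n ^ 2 - n) / 2).toNat := by
  obtain ⟨m, rfl | rfl⟩ := n.eq_nat_or_neg
  · rw [zpow_natCast, pow_choose_of h, toNat_choose_succ, toNat_choose]
  · have h1 : x ^ (-(m : ℤ)) = x⁻¹ ^ m := by rw [zpow_neg, zpow_natCast, inv_pow]
    have h2 : ((-(m : ℤ)) ^ 2 + -(m : ℤ)) / 2 = ((m : ℤ) ^ 2 - m) / 2 := by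
      rw [neg_sq, ← sub_eq_add_neg]
    have h3 : ((-(m : ℤ)) ^ 2 - -(m : ℤ)) / 2 = ((m : ℤ) ^ 2 + m) / 2 := by
      rw [neg_sq, sub_neg_eq_add]
    rw [h1, pow_choose_of h, h2, h3, toNat_choose_succ, toNat_choose, inv_inv, mul_comm]

theorem toNat_add_toNat (n : ℤ) :
    ((n ^ 2 + n) / 2).toNat + ((n ^ 2 - n) / 2).toNat = n.natAbs ^ 2 := by
  have key : ∀ m : ℕ, (m + 1).choose 2 + m.choose 2 = m ^ 2 := by
    intro m
    induction m with
    | zero => simp
    | succ m ih =>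
      have e1 : (m + 1 + 1).choose 2 = (m + 1) + (m + 1).choose 2 := by
        rw [Nat.choose_succ_succ' (m + 1) 1, Nat.choose_one_right]
      have e2 : (m + 1).choose 2 = m + m.choose 2 := by
        rw [Nat.choose_succ_succ' m 1, Nat.choose_one_right]
      rw [e1]
      nlinarith
  obtain ⟨m, rfl | rfl⟩ := n.eq_nat_or_neg
  · rw [toNat_choose_succ, toNat_choose, Int.natAbs_natCast, key]
  · rw [neg_sq, ← sub_eq_add_neg, sub_neg_eq_add, toNat_choose_succ, toNat_choose, Int.natAbs_neg,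
      Int.natAbs_natCast, add_comm, key]

end Abs

open Groth.Agent.Grpsch Groth.Agent.Grpsch.PicGrp Groth.Agent.Fdesc.LocGen

variable {S : Scheme.{u}}

/-- Pullback of classes along points. -/
noncomputable abbrev pl {T X : Over S} (a : T ⟶ X) : Pic X.left →* Pic T.left := pull a.left

theorem pl_comp {T T' X : Over S} (f : T' ⟶ T) (a : T ⟶ X) (L : Pic X.left) :
    pl (f ≫ a) L = pl f (pl a L) := by
  unfold pl
  rw [Over.comp_left, pull_comp]

variable {X : Over S} [GrpObj X]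

/-- The cube formula in the Picard group. -/
def CubeFor (L : Pic X.left) (T : Over S) : Prop :=
  ∀ a b c : T ⟶ X, pl (a * b * c) L * pl a L * pl b L * pl c L =
    pl (a * b) L * pl (a * c) L * pl (b * c) L * pl 1 L

theorem isCub_of {L : Pic X.left} {T : Over S} (H : CubeFor L T) :
    IsCub (fun a : T ⟶ X => pl a L * (pl (1 : T ⟶ X) L)⁻¹) := by
  refine ⟨mul_inv_cancel _, fun a b c => ?_⟩
  have h := H a b c
  dsimp only
  generalize pl (a * b * c) L = x1 at h ⊢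
  generalize pl (a * b) L = x2 at h ⊢
  generalize pl (a * c) L = x3 at h ⊢
  generalize pl (b * c) L = x4 at h ⊢
  generalize pl a L = x5 at h ⊢
  generalize pl b L = x6 at h ⊢
  generalize pl c L = x7 at h ⊢
  generalize pl 1 L = x8 at h ⊢
  have e1 : x1 * x8⁻¹ * (x5 * x8⁻¹) * (x6 * x8⁻¹) * (x7 * x8⁻¹) =
      (x1 * x5 * x6 * x7) * (x8⁻¹ * x8⁻¹ * x8⁻¹ * x8⁻¹) := by ac_rfl
  have e2 : x2 * x8⁻¹ * (x3 * x8⁻¹) * (x4 * x8⁻¹) =
      (x2 * x3 * x4) * (x8⁻¹ * x8⁻¹ * x8⁻¹) := by ac_rfl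
  rw [e1, e2, h]
  have e3 : x2 * x3 * x4 * x8 * (x8⁻¹ * x8⁻¹ * x8⁻¹ * x8⁻¹) =
      x2 * x3 * x4 * (x8⁻¹ * x8⁻¹ * x8⁻¹) * (x8 * x8⁻¹) := by ac_rfl
  rw [e3, mul_inv_cancel, mul_one]

/-- The formula for `[n]^* L`, over any base. -/
theorem pl_zpow {L : Pic X.left} {T : Over S} (H : CubeFor L T) (x : T ⟶ X) (n : ℤ) :
    pl (x ^ n) L * pl (1 : T ⟶ X) L ^ (n.natAbs ^ 2) =
      pl x L ^ ((n ^ 2 + n) / 2).toNat * pl x⁻¹ L ^ ((n ^ 2 - n) / 2).toNat * pl (1 : T ⟶ X) L := by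
  have h := zpow_of (isCub_of H) x n
  rw [mul_inv_eq_iff_eq_mul] at h
  rw [h, mul_pow, mul_pow, ← toNat_add_toNat n, pow_add, inv_pow, inv_pow]
  generalize pl (1 : T ⟶ X) L = x8
  generalize ((n ^ 2 + n) / 2).toNat = a
  generalize ((n ^ 2 - n) / 2).toNat = b
  generalize pl x L = x1
  generalize pl x⁻¹ L = x2
  have : x1 ^ a * (x8 ^ a)⁻¹ * (x2 ^ b * (x8 ^ b)⁻¹) * x8 * (x8 ^ a * x8 ^ b) =
    x1 ^ a * x2 ^ b * x8 * ((x8 ^ a)⁻¹ * x8 ^ a) * ((x8 ^ b)⁻¹ * x8 ^ b) := by ac_rfl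
  rw [this, inv_mul_cancel, inv_mul_cancel, mul_one, mul_one]

/-- The cube formula for modules gives the one for classes. -/
theorem cubeFor_of_iso {L : X.left.Modules} (hL : PicF.IsInvertible L) {T : Over S}
    (H : ∀ x₁ x₂ x₃ : T ⟶ X,
      Nonempty ((CohB1.tensorMod (CohB1.tensorMod (CohB1.tensorMod ((Scheme.Modules.pullback (x₁ * x₂ * x₃).left).obj L) ((Scheme.Modules.pullback (x₁).left).obj L)) ((Scheme.Modules.pullback (x₂).left).obj L)) ((Scheme.Modules.pullback (x₃).left).obj L)) ≅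
      (CohB1.tensorMod (CohB1.tensorMod (CohB1.tensorMod ((Scheme.Modules.pullback (x₁ * x₂).left).obj L) ((Scheme.Modules.pullback (x₁ * x₃).left).obj L)) ((Scheme.Modules.pullback (x₂ * x₃).left).obj L)) ((Scheme.Modules.pullback ((1 : T ⟶ X)).left).obj L)))) :
    CubeFor (PicGrp.mk L hL) T := by
  intro a b c
  obtain ⟨e⟩ := H a b c
  exact mk_congr e

/-- The formula for `[n]^* L`, in terms of modules. -/
theorem nonempty_iso_zpow {L : X.left.Modules} (hL : PicF.IsInvertible L)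
    (H : CubeFor (PicGrp.mk L hL) X) (n : ℤ) :
    Nonempty (CohB1.tensorMod ((Scheme.Modules.pullback (𝟙 X ^ n).left).obj L)
        ((Scheme.Modules.pullback X.hom).obj (CohB1.tensorPow ((Scheme.Modules.pullback (η[X] : 𝟙_ (Over S) ⟶ X).left).obj L) (n.natAbs ^ 2))) ≅
      CohB1.tensorMod (CohB1.tensorMod (CohB1.tensorPow L ((n ^ 2 + n) / 2).toNat)
          ((Scheme.Modules.pullback (𝟙 X ^ (-1 : ℤ)).left).obj (CohB1.tensorPow L ((n ^ 2 - n) / 2).toNat)))
        ((Scheme.Modules.pullback X.hom).obj ((Scheme.Modules.pullback (η[X] : 𝟙_ (Over S) ⟶ X).left).obj L))) := by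
  have h := pl_zpow H (𝟙 X) n
  have h1 : pl (1 : X ⟶ X) (PicGrp.mk L hL) = pull X.hom (pull (η[X] : 𝟙_ (Over S) ⟶ X).left (PicGrp.mk L hL)) := by
    rw [← pull_comp]
    rfl
  have h2 : pl (𝟙 X) (PicGrp.mk L hL) = PicGrp.mk L hL := pull_id _
  have h3 : (𝟙 X : X ⟶ X)⁻¹ = 𝟙 X ^ (-1 : ℤ) := by rw [zpow_neg, zpow_one]
  rw [h1, h2, h3] at h
  refine (mk_eq_iff (isInvertible_tensorMod (isInvertible_pullback _ hL) (isInvertible_pullback _
    (isInvertible_tensorPow (isInvertible_pullback _ hL) _))) (isInvertible_tensorMod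
      (isInvertible_tensorMod (isInvertible_tensorPow hL _) (isInvertible_pullback _
        (isInvertible_tensorPow hL _))) (isInvertible_pullback _ (isInvertible_pullback _ hL)))).mp ?_
  change pl (𝟙 X ^ n) (PicGrp.mk L hL) * pull X.hom (PicGrp.mk (CohB1.tensorPow _ _) (isInvertible_tensorPow (isInvertible_pullback _ hL) _)) =
    (PicGrp.mk (CohB1.tensorPow L _) (isInvertible_tensorPow hL _) * pl (𝟙 X ^ (-1 : ℤ)) (PicGrp.mk (CohB1.tensorPow L _)
      (isInvertible_tensorPow hL _))) * pull X.hom (pull (η[X] : 𝟙_ (Over S) ⟶ X).left (PicGrp.mk L hL))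
  rw [mk_tensorPow, mk_tensorPow, mk_tensorPow, map_pow, map_pow]
  exact h

/-- The formula for `[n]^* L` up to a module coming from the base. -/
theorem exists_iso_zpow {L : X.left.Modules} (hL : PicF.IsInvertible L)
    (H : CubeFor (PicGrp.mk L hL) X) (n : ℤ) :
    ∃ M : S.Modules, PicF.IsInvertible M ∧
      Nonempty (((Scheme.Modules.pullback (𝟙 X ^ n).left).obj L) ≅
        CohB1.tensorMod (CohB1.tensorMod (CohB1.tensorPow L ((n ^ 2 + n) / 2).toNat)
          ((Scheme.Modules.pullback (𝟙 X ^ (-1 : ℤ)).left).obj (CohB1.tensorPow L ((n ^ 2 - n) / 2).toNat)))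
          ((Scheme.Modules.pullback X.hom).obj M)) := by
  have h := pl_zpow H (𝟙 X) n
  have h1 : pl (1 : X ⟶ X) (PicGrp.mk L hL) = pull X.hom (pull (η[X] : 𝟙_ (Over S) ⟶ X).left (PicGrp.mk L hL)) := by
    rw [← pull_comp]
    rfl
  have h2 : pl (𝟙 X) (PicGrp.mk L hL) = PicGrp.mk L hL := pull_id _
  have h3 : (𝟙 X : X ⟶ X)⁻¹ = 𝟙 X ^ (-1 : ℤ) := by rw [zpow_neg, zpow_one]
  rw [h1, h2, h3, ← map_pow (pull X.hom), eq_comm, ← mul_inv_eq_iff_eq_mul, eq_comm, mul_assoc,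
    ← map_inv, ← map_mul] at h
  generalize pull (η[X] : 𝟙_ (Over S) ⟶ X).left (PicGrp.mk L hL) *
    (pull (η[X] : 𝟙_ (Over S) ⟶ X).left (PicGrp.mk L hL) ^ n.natAbs ^ 2)⁻¹ = c at h
  obtain ⟨M, hM, rfl⟩ := exists_mk c
  refine ⟨M, hM, ?_⟩
  refine (mk_eq_iff (isInvertible_pullback _ hL) (isInvertible_tensorMod
      (isInvertible_tensorMod (isInvertible_tensorPow hL _) (isInvertible_pullback _
        (isInvertible_tensorPow hL _))) (isInvertible_pullback _ hM))).mp ?_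
  change pl (𝟙 X ^ n) (PicGrp.mk L hL) =
    (PicGrp.mk (CohB1.tensorPow L _) (isInvertible_tensorPow hL _) * pl (𝟙 X ^ (-1 : ℤ)) (PicGrp.mk (CohB1.tensorPow L _)
      (isInvertible_tensorPow hL _))) * pull X.hom (PicGrp.mk M hM)
  rw [mk_tensorPow hL, mk_tensorPow hL, map_pow]
  exact h

end K451.PowCube
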