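import Groth.Agent.S0033
import Groth.Agent.Dcoh.DerSch
import Groth.Agent.VarietyB.ProjForm

/-!
# Direct image of an external tensor product
-/

set_option autoImplicit false
universe u

open CategoryTheory Limits AlgebraicGeometry Opposite

namespace K451.BoxPush

/-- Flat base change in degree zero. -/
theorem nonempty_flat_bc {X S X' S' : Scheme.{u}} {f : X ⟶ S} {g : S' ⟶ S}
    {g' : X' ⟶ X} {f' : X' ⟶ S'} (h : IsPullback g' f' f g) [QuasiCompact f] [QuasiSeparated f]
    [Flat g] (M : X.Modules) [Coh.IsQCoh M] :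
    Nonempty ((Scheme.Modules.pullback g).obj ((Scheme.Modules.pushforward f).obj M) ≅
      (Scheme.Modules.pushforward f').obj ((Scheme.Modules.pullback g').obj M)) := by
  have := Groth.Agent.Dcoh.DerSch.hasInjectiveResolutions X
  have := Groth.Agent.Dcoh.DerSch.hasInjectiveResolutions X'
  obtain ⟨e⟩ := Groth.Agent.S0033.result f g g' f' h M 0
  exact ⟨(Scheme.Modules.pullback g).mapIso
    ((Scheme.Modules.pushforward f).rightDerivedZeroIsoSelf.symm.app M) ≪≫ e ≪≫
      (Scheme.Modules.pushforward f').rightDerivedZeroIsoSelf.app _⟩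

/-- `(f × g)_* (L ⊠ M) ≅ f_* L ⊗ g_* M`. -/
theorem nonempty_push_box {X Y P S : Scheme.{u}} {f : X ⟶ S} {g : Y ⟶ S} {p : P ⟶ X} {q : P ⟶ Y}
    (h : IsPullback p q f g) [Flat f] [QuasiCompact g] [QuasiSeparated g] {L : X.Modules} {M : Y.Modules}
    (hL : Groth.Agent.VarietyB.TensCoh.HasBases L) [Coh.IsQCoh M]
    (hM : Groth.Agent.VarietyB.TensCoh.HasBases ((Scheme.Modules.pushforward g).obj M)) :
    Nonempty ((Scheme.Modules.pushforward (p ≫ f)).obj (CohB1.tensorMod
      ((Scheme.Modules.pullback p).obj L) ((Scheme.Modules.pullback q).obj M)) ≅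
      CohB1.tensorMod ((Scheme.Modules.pushforward f).obj L) ((Scheme.Modules.pushforward g).obj M)) := by
  obtain ⟨e⟩ := nonempty_flat_bc h.flip M
  let e1 := Groth.Agent.VarietyB.ProjForm.projIso p hL ((Scheme.Modules.pullback q).obj M)
  let e2 := Groth.Agent.VarietyB.ProjForm.projIso f hM L
  refine ⟨?_⟩
  refine (Scheme.Modules.pushforwardComp p f).symm.app _ ≪≫ (Scheme.Modules.pushforward f).mapIso e1.symm ≪≫
    (Scheme.Modules.pushforward f).mapIso (Groth.Agent.Ega2.Tens.mapTIso (Iso.refl L) e.symm ≪≫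
      Groth.Agent.Ega2.Tens.swap _ _) ≪≫ e2.symm ≪≫ Groth.Agent.Ega2.Tens.swap _ _

end K451.BoxPush
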