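import Groth.Agent.Pi1.H538.RelDimOne
import Groth.Agent.AbSch.K451.Prod
import Groth.Agent.Vancyc.H878.OmegaRank
import Groth.Agent.Krr.H496.PullK0

/-!
# The relative dimension of an abelian scheme
-/

set_option autoImplicit false
universe u

open CategoryTheory Limits MonoidalCategory CartesianMonoidalCategory AlgebraicGeometry
open scoped MonObj

namespace K451.RelDim

set_option backward.isDefEq.respectTransparency.types false in
theorem smoothOfRelativeDimension_of_fibres {X S : Scheme.{u}} (f : X ⟶ S) [Smooth f] (n : ℕ)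
    (hint : ∀ s, IsIntegral (f.fiber s)) (hdim : ∀ s, topologicalKrullDim (f.fiber s) = n) :
    SmoothOfRelativeDimension n f := by
  refine ⟨fun x => ?_⟩
  obtain ⟨U, hU, V, hV, hx, e, h⟩ := Smooth.exists_isStandardSmooth f x
  obtain ⟨m, hm⟩ := Groth.Agent.Picfga.CurveRelDim.exists_relativeDimension h
  suffices hmn : m = n by
    subst hmn
    exact ⟨U, hU, V, hV, hx, e, hm⟩
  have h1 : SmoothOfRelativeDimension m (V.ι ≫ f) :=
    Groth.Agent.Ega2.GeoRelDim.smoothOfRelativeDimension_ι_comp f m U hU V hV e hm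
  let r := S.fromSpecResidueField (f x)
  let V' : (f.fiber (f x)).Opens := (f.fiberι (f x)) ⁻¹ᵁ V
  have hsq : IsPullback ((f.fiberι (f x)) ∣_ V) (V'.ι ≫ f.fiberToSpecResidueField (f x)) (V.ι ≫ f) r :=
    (isPullback_morphismRestrict (f.fiberι (f x)) V).paste_vert
      (IsPullback.of_hasPullback f r)
  have := AlgebraicGeometry.smoothOfRelativeDimension_isStableUnderBaseChange m
  have h2 : SmoothOfRelativeDimension m (V'.ι ≫ f.fiberToSpecResidueField (f x)) :=
    MorphismProperty.of_isPullback (P := @SmoothOfRelativeDimension m) hsq h1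
  have hx' : x ∈ Set.range (f.fiberι (f x)) := by
    rw [f.range_fiberι]
    rfl
  obtain ⟨y, hy⟩ := hx'
  have hne : Nonempty V' := ⟨⟨y, show f.fiberι (f x) y ∈ V by rw [hy]; exact hx⟩⟩
  have := hint (f x)
  have h3 : IsIntegral V' := isIntegral_of_isOpenImmersion V'.ι
  have h4 := Groth.Agent.Pi1.H538.RelDimOne.topologicalKrullDim_eq (S.residueField (f x)) V'
    (V'.ι ≫ f.fiberToSpecResidueField (f x)) m (hf := h2)
  have hft : LocallyOfFiniteType (f.fiberToSpecResidueField (f x)) :=
    inferInstanceAs (LocallyOfFiniteType (pullback.snd f r))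
  have h5 := @Groth.Agent.CycA.ProdDim.dim_of_isOpenImmersion (S.residueField (f x)) _ (f.fiber (f x)) V'
    (f.fiberToSpecResidueField (f x)) hft _ V'.ι _ _
  rw [h4, hdim] at h5
  exact_mod_cast h5

variable {S : Scheme.{u}} {A : Over S} [GrpObj A] {g : ℕ}

theorem smoothOfRelativeDimension (hA : AgPol.IsAbSch A g) : SmoothOfRelativeDimension g A.hom := by
  have := hA.smooth
  have := K451.Prod.geometricallyIntegral_of_isAbSch hA
  exact smoothOfRelativeDimension_of_fibres A.hom g (fun s => inferInstance) hA.fibreDim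

theorem isFinLocFreeOfRank_omega (hA : AgPol.IsAbSch A g) :
    FlatMod.IsFinLocFreeOfRank g (Omega.sheaf A.hom) := by
  have := smoothOfRelativeDimension hA
  have := hA.proper
  exact Groth.Agent.Vancyc.H878.OmegaRank.isFinLocFreeOfRank_omega g A.hom

end K451.RelDim
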