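import Mathlib.RingTheory.LocalRing.Module
import Mathlib.RingTheory.Support
import Mathlib.RingTheory.Flat.FaithfullyFlat.Basic
import Mathlib.RingTheory.TensorProduct.Basic
import Mathlib.LinearAlgebra.TensorProduct.RightExactness

/-!
# Nakayama for cyclic modules
-/

set_option autoImplicit false

open TensorProduct

namespace K451.CycNak

theorem subsingleton_of_tensor {R K Q : Type*} [CommRing R] [Field K] [Algebra R K] [AddCommGroup Q] [Module R Q]
    [Module.Finite R Q] (h : Subsingleton (K ⊗[R] Q)) :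
    ∃ f : R, algebraMap R K f ≠ 0 ∧ ∀ x : Q, f • x = 0 := by
  obtain ⟨p, hp⟩ : ∃ p : PrimeSpectrum R, p.asIdeal = RingHom.ker (algebraMap R K) :=
    ⟨⟨RingHom.ker (algebraMap R K), RingHom.ker_isPrime _⟩, rfl⟩
  have h1 : p ∉ Module.support R Q := by
    rw [Module.mem_support_iff_nontrivial_residueField_tensorProduct, not_nontrivial_iff_subsingleton]
    let κ := p.asIdeal.ResidueField
    have g1 : p.asIdeal ≤ RingHom.ker (algebraMap R K) := hp.le
    have g2 : p.asIdeal.primeCompl ≤ (IsUnit.submonoid K).comap (algebraMap R K) := fun a ha => by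
      rw [Submonoid.mem_comap, IsUnit.mem_submonoid_iff, isUnit_iff_ne_zero]
      intro h0
      have : a ∈ RingHom.ker (algebraMap R K) := h0
      exact ha (hp ▸ this)
    let φ : κ →+* K := Ideal.ResidueField.lift p.asIdeal (algebraMap R K) g1 g2
    let _ : Algebra κ K := φ.toAlgebra
    have : IsScalarTower R κ K := IsScalarTower.of_algebraMap_eq' (by
      ext a
      exact (Ideal.ResidueField.lift_algebraMap p.asIdeal (algebraMap R K) g1 g2 a).symm)
    have h2 : Subsingleton (K ⊗[κ] (κ ⊗[R] Q)) :=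
      (TensorProduct.AlgebraTensorModule.cancelBaseChange R κ K K Q).toEquiv.subsingleton
    exact (Module.FaithfullyFlat.subsingleton_tensorProduct_iff_right κ K).1 h2
  rw [Module.support_eq_zeroLocus, PrimeSpectrum.mem_zeroLocus, Set.not_subset] at h1
  obtain ⟨f, hf, hf'⟩ := h1
  refine ⟨f, fun h0 => hf' ?_, fun x => Module.mem_annihilator.1 hf x⟩
  have : f ∈ RingHom.ker (algebraMap R K) := h0
  exact hp ▸ this

/-- Nakayama for one generator. -/
theorem exists_of_span {R K M : Type*} [CommRing R] [Field K] [Algebra R K] [AddCommGroup M] [Module R M]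
    [Module.Finite R M] (m : M) (hm : ∀ z : K ⊗[R] M, ∃ a : K, z = a • ((1 : K) ⊗ₜ[R] m)) :
    ∃ f : R, algebraMap R K f ≠ 0 ∧ ∀ x : M, ∃ a : R, f • x = a • m := by
  let N : Submodule R M := Submodule.span R {m}
  have h1 : Subsingleton (K ⊗[R] (M ⧸ N)) := by
    refine subsingleton_of_forall_eq 0 fun z => ?_
    obtain ⟨w, rfl⟩ := LinearMap.lTensor_surjective K (Submodule.mkQ_surjective N) z
    obtain ⟨a, rfl⟩ := hm w
    have h2 : N.mkQ m = 0 := (Submodule.Quotient.mk_eq_zero N).2 (Submodule.mem_span_singleton_self m)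
    have h3 : a • ((1 : K) ⊗ₜ[R] m) = a ⊗ₜ[R] m := by rw [TensorProduct.smul_tmul', smul_eq_mul, mul_one]
    rw [h3, LinearMap.lTensor_tmul, h2, TensorProduct.tmul_zero]
  obtain ⟨f, hf, h⟩ := subsingleton_of_tensor (Q := M ⧸ N) h1
  refine ⟨f, hf, fun x => ?_⟩
  have h4 : f • x ∈ N := by
    have := h (N.mkQ x)
    rw [← map_smul] at this
    exact (Submodule.Quotient.mk_eq_zero N).1 this
  obtain ⟨a, ha⟩ := Submodule.mem_span_singleton.1 h4
  exact ⟨a, ha.symm⟩

/-- If `K ⊗ M` is generated by one element, so is `M` after inverting some `f` not in the kernel. -/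
theorem exists_of_gen {R K M : Type*} [CommRing R] [Field K] [Algebra R K] [AddCommGroup M] [Module R M]
    [Module.Finite R M] (w : K ⊗[R] M) (hw : ∀ z : K ⊗[R] M, ∃ a : K, z = a • w) :
    ∃ (m : M) (f : R), algebraMap R K f ≠ 0 ∧ ∀ x : M, ∃ a : R, f • x = a • m := by
  by_cases h : ∃ m : M, (1 : K) ⊗ₜ[R] m ≠ 0
  · obtain ⟨m, hm⟩ := h
    refine ⟨m, exists_of_span m fun z => ?_⟩
    obtain ⟨b, hb⟩ := hw ((1 : K) ⊗ₜ[R] m)
    have hb0 : b ≠ 0 := by
      rintro rfl
      exact hm (by rw [hb, zero_smul])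
    obtain ⟨a, ha⟩ := hw z
    refine ⟨a / b, ?_⟩
    rw [ha, hb, smul_smul, div_mul_cancel₀ _ hb0]
  · push Not at h
    refine ⟨0, exists_of_span 0 fun z => ⟨0, ?_⟩⟩
    rw [zero_smul]
    induction z using TensorProduct.induction_on with
    | zero => rfl
    | tmul a m =>
      have : a ⊗ₜ[R] m = a • ((1 : K) ⊗ₜ[R] m) := by rw [TensorProduct.smul_tmul', smul_eq_mul, mul_one]
      rw [this, h, smul_zero]
    | add x y hx hy => rw [hx, hy, add_zero]

end K451.CycNak
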