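import Groth.Agent.DEquiv.K353.Calc
import Groth.Agent.S1766
import Groth.Agent.Dcoh.DualX
import Groth.Agent.PerfB.StructFlat
import Groth.Agent.Ega2.QCohLocal
import Groth.Agent.Fdesc.LocGenTensor
import Groth.Agent.Dual.H379.TwistMain
import Groth.Agent.LoccohB.DCalc
import Groth.Agent.PerfC.RpushSingle
import Groth.Agent.S3635

/-!
# Top cohomology of the structure sheaf of an abelian scheme

Duality in the form of a bijection `Hom(K ⊗ Rf_* O_X, O_Y) ≃ Hom(K, Rf_*(∧^g Ω [g]))`, natural in `K ∈ D_QCoh(O_Y)`.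
-/

set_option autoImplicit false
universe u
open CategoryTheory CategoryTheory.Limits AlgebraicGeometry MonoidalCategory
attribute [local instance] HasDerivedCategory.standard
open scoped Groth.Agent.Dcoh.MonCat Groth.Agent.Dcoh.ModD

namespace K451.TopO

open Groth.Agent K353.OnSub K353.Calc Groth.Agent.Dcoh

variable {X Y : Scheme.{u}}

theorem isQCohD_of_isInvertible {L : X.Modules} (hL : PicF.IsInvertible L) : DCoh.IsQCohD (DCoh.inD X L) :=
  PerfB.StructFlat.isQCohD_inD (Ega2.QCohLocal.isQCoh_of_isInvertible hL)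

theorem isInvertible_structureModule (X : Scheme.{u}) : PicF.IsInvertible (Coh.structureModule X) :=
  Fdesc.LocGen.isInvertible_structureModule

/-- Homs out of the two sides of a natural isomorphism. -/
theorem exists_theta (f : X ⟶ Y) [QuasiCompact f] [QuasiSeparated f]
    [DCoh.HasRpush f] [DCoh.HasLpull f] (h : DCoh.RpushPreservesQCoh f) (a : DCoh.DQCoh Y ⥤ DCoh.DQCoh X)
    (adj : DCoh.RpushQ f h ⊣ a) (O : DCoh.DQCoh Y) (Z : DCoh.D X) (e : (a.obj O).obj ≅ Z) :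
    ∃ Θ : ∀ K : DCoh.D Y, qc Y K →
        ((K ⊗ (DCoh.Rpush f).obj (DCoh.inD X (Coh.structureModule X)) ⟶ O.obj) ≃
          (K ⟶ (DCoh.Rpush f).obj Z)),
      ∀ (K K' : DCoh.D Y) (hK : qc Y K) (hK' : qc Y K') (a : K ⟶ K')
        (τ : K' ⊗ (DCoh.Rpush f).obj (DCoh.inD X (Coh.structureModule X)) ⟶ O.obj),
        Θ K hK (a ▷ _ ≫ τ) = a ≫ Θ K' hK' τ := by
  have hOX : DCoh.IsQCohD (DCoh.inD X (Coh.structureModule X)) := isQCohD_of_isInvertible (isInvertible_structureModule X)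
  obtain ⟨i⟩ := proj_left f (DCoh.inD X (Coh.structureModule X)) hOX
  have hP : ∀ K, qc Y K → qc X ((DCoh.Lpull f).obj K ⊗ DCoh.inD X (Coh.structureModule X)) := fun K hK =>
    qc_tensor _ _ (qc_lpull f K hK) hOX
  let P : ∀ K, qc Y K → DCoh.DQCoh X := fun K hK => ⟨(DCoh.Lpull f).obj K ⊗ DCoh.inD X (Coh.structureModule X), hP K hK⟩
  let u : ∀ K : DCoh.D X, K ⊗ DCoh.inD X (Coh.structureModule X) ≅ K := fun K =>
    whiskerLeftIso K (DualX.unitIso X) ≪≫ ρ_ K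
  let A1 : ∀ (K : DCoh.D Y) (hK : qc Y K), (K ⊗ (DCoh.Rpush f).obj (DCoh.inD X (Coh.structureModule X)) ⟶ O.obj) ≃
      ((DCoh.RpushQ f h).obj (P K hK) ⟶ O) := fun K hK =>
    { toFun := fun τ => ObjectProperty.homMk (i.inv.app ⟨K, hK⟩ ≫ τ)
      invFun := fun τ => i.hom.app ⟨K, hK⟩ ≫ τ.hom
      left_inv := fun τ => by
        simp
      right_inv := fun τ => by
        ext
        simp }
  let A2 : ∀ (K : DCoh.D Y) (hK : qc Y K), ((P K hK) ⟶ a.obj O) ≃ ((DCoh.Lpull f).obj K ⟶ Z) := fun K hK =>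
    { toFun := fun τ => (u _).inv ≫ τ.hom ≫ e.hom
      invFun := fun τ => ObjectProperty.homMk ((u _).hom ≫ τ ≫ e.inv)
      left_inv := fun τ => by
        ext
        simp
      right_inv := fun τ => by
        simp }
  have hu : ∀ {K K' : DCoh.D X} (b : K ⟶ K'), (b ▷ DCoh.inD X (Coh.structureModule X)) ≫ (u K').hom = (u K).hom ≫ b := by
    intro K K' b
    simp only [u, Iso.trans_hom, whiskerLeftIso_hom, Category.assoc]
    rw [← whisker_exchange_assoc, rightUnitor_naturality]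
  refine ⟨fun K hK => (A1 K hK).trans ((adj.homEquiv (P K hK) O).trans ((A2 K hK).trans
    ((DerPull.lpullAdj f).homEquiv K Z))), fun K K' hK hK' b τ => ?_⟩
  have h1 : A1 K hK (b ▷ _ ≫ τ) = (DCoh.RpushQ f h).map (X := P K hK) (Y := P K' hK')
      (ObjectProperty.homMk ((DCoh.Lpull f).map b ▷ _)) ≫ A1 K' hK' τ := by
    ext
    have h2 := i.inv.naturality (X := ⟨K, hK⟩) (Y := ⟨K', hK'⟩) (ObjectProperty.homMk b)
    change i.inv.app ⟨K, hK⟩ ≫ (b ▷ _ ≫ τ) = (DCoh.Rpush f).map ((DCoh.Lpull f).map b ▷ _) ≫ i.inv.app ⟨K', hK'⟩ ≫ τ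
    have h3 : i.inv.app ⟨K, hK⟩ ≫ (b ▷ _) = (DCoh.Rpush f).map ((DCoh.Lpull f).map b ▷ _) ≫ i.inv.app ⟨K', hK'⟩ := h2.symm
    rw [reassoc_of% h3]
  have h4 : ∀ c : P K' hK' ⟶ a.obj O, A2 K hK ((ObjectProperty.homMk ((DCoh.Lpull f).map b ▷ _) : P K hK ⟶ P K' hK') ≫ c) =
      (DCoh.Lpull f).map b ≫ A2 K' hK' c := by
    intro c
    change (u _).inv ≫ (((DCoh.Lpull f).map b ▷ _) ≫ c.hom) ≫ e.hom = (DCoh.Lpull f).map b ≫ (u _).inv ≫ c.hom ≫ e.hom
    rw [Iso.inv_comp_eq, ← reassoc_of% (hu ((DCoh.Lpull f).map b)), Iso.hom_inv_id_assoc, Category.assoc]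
  simp only [Equiv.trans_apply]
  rw [h1, Adjunction.homEquiv_naturality_left, h4, Adjunction.homEquiv_naturality_left]

section Unit

variable (Y) in
/-- The unit in degree `-g`. -/
noncomputable abbrev U (g : ℤ) : DCoh.D Y := (𝟙_ (DCoh.D Y))⟦g⟧

theorem nonempty_tensor_shift (A B : DCoh.D Y) (n : ℤ) : Nonempty ((A ⊗ B)⟦n⟧ ≅ A⟦n⟧ ⊗ B) := by
  obtain ⟨_, _⟩ := Groth.Agent.Dual.H379.TwistMain.isTriang_tensorRight B
  exact ⟨(((tensorRight B).commShiftIso n).app A).symm⟩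

theorem nonempty_U_tensor (B : DCoh.D Y) (n : ℤ) : Nonempty (U Y n ⊗ B ≅ B⟦n⟧) := by
  obtain ⟨e⟩ := nonempty_tensor_shift (𝟙_ (DCoh.D Y)) B n
  exact ⟨e.symm ≪≫ (shiftFunctor _ n).mapIso (λ_ B)⟩

theorem nonempty_U_U (n : ℤ) : Nonempty (U Y n ⊗ U Y (-n) ≅ 𝟙_ (DCoh.D Y)) := by
  obtain ⟨e⟩ := nonempty_U_tensor (U Y (-n)) n
  exact ⟨e ≪≫ (shiftFunctorCompIsoId (DCoh.D Y) (-n) n (by omega)).app _⟩

theorem isEquivalence_tensorRight_U (n : ℤ) : (tensorRight (U Y n)).IsEquivalence := by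
  obtain ⟨e⟩ := nonempty_U_U (Y := Y) n
  obtain ⟨e'⟩ := nonempty_U_U (Y := Y) (-n)
  rw [neg_neg] at e'
  have h : ∀ {A B : DCoh.D Y}, (A ⊗ B ≅ 𝟙_ (DCoh.D Y)) → (tensorRight A ⋙ tensorRight B ≅ 𝟭 (DCoh.D Y)) :=
    fun {A B} i => (tensorRightTensor A B).symm ≪≫ (tensoringRight (DCoh.D Y)).mapIso i ≪≫
      NatIso.ofComponents (fun Z => ρ_ Z) (fun f => rightUnitor_naturality f)
  exact (CategoryTheory.Equivalence.mk (tensorRight (U Y n)) (tensorRight (U Y (-n))) (h e).symm (h e')).isEquivalence_functor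

/-- The action of an endomorphism of the unit. -/
noncomputable def act (s : 𝟙_ (DCoh.D Y) ⟶ 𝟙_ (DCoh.D Y)) (Z : DCoh.D Y) : Z ⟶ Z :=
  (λ_ Z).inv ≫ (s ▷ Z) ≫ (λ_ Z).hom

theorem act_comp (s : 𝟙_ (DCoh.D Y) ⟶ 𝟙_ (DCoh.D Y)) {Z Z' : DCoh.D Y} (τ : Z ⟶ Z') :
    act s Z ≫ τ = τ ≫ act s Z' := by
  simp only [act, Category.assoc]
  rw [← leftUnitor_naturality, ← whisker_exchange_assoc, leftUnitor_inv_naturality_assoc]

theorem act_unit (s : 𝟙_ (DCoh.D Y) ⟶ 𝟙_ (DCoh.D Y)) : act s (𝟙_ (DCoh.D Y)) = s := by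
  rw [act, unitors_inv_equal, unitors_equal, rightUnitor_naturality, Iso.inv_hom_id_assoc]

theorem act_tensor (s : 𝟙_ (DCoh.D Y) ⟶ 𝟙_ (DCoh.D Y)) (A B : DCoh.D Y) : act s A ▷ B = act s (A ⊗ B) := by
  simp only [act]
  monoidal

theorem exists_act (n : ℤ) (a : U Y n ⟶ U Y n) : ∃ s, act s (U Y n) = a := by
  have := isEquivalence_tensorRight_U (Y := Y) n
  refine ⟨(tensorRight (U Y n)).preimage ((λ_ _).hom ≫ a ≫ (λ_ _).inv), ?_⟩
  have h : ((tensorRight (U Y n)).preimage ((λ_ _).hom ≫ a ≫ (λ_ _).inv) : 𝟙_ (DCoh.D Y) ⟶ 𝟙_ (DCoh.D Y)) ▷ U Y n =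
    (λ_ _).hom ≫ a ≫ (λ_ _).inv := (tensorRight (U Y n)).map_preimage _
  rw [act, h]
  simp

theorem act_injective (n : ℤ) {s s' : 𝟙_ (DCoh.D Y) ⟶ 𝟙_ (DCoh.D Y)} (h : act s (U Y n) = act s' (U Y n)) : s = s' := by
  have := isEquivalence_tensorRight_U (Y := Y) n
  apply (tensorRight (U Y n)).map_injective
  change s ▷ _ = s' ▷ _
  simpa [act] using h

instance isLE_unit : (𝟙_ (DCoh.D Y)).IsLE 0 :=
  DerivedCategory.TStructure.t.isLE_of_iso (DualX.unitIso Y) 0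

instance isGE_unit : (𝟙_ (DCoh.D Y)).IsGE 0 :=
  DerivedCategory.TStructure.t.isGE_of_iso (DualX.unitIso Y) 0

instance isLE_U (n : ℤ) : (U Y n).IsLE (-n) :=
  DerivedCategory.TStructure.t.isLE_shift (𝟙_ (DCoh.D Y)) 0 n (-n) (by omega)

instance isGE_U (n : ℤ) : (U Y n).IsGE (-n) :=
  DerivedCategory.TStructure.t.isGE_shift (𝟙_ (DCoh.D Y)) 0 n (-n) (by omega)

end Unit

/-- Local form of duality: the homs `H^0(U ⊗ C) ⟶ O` are the multiples of one of them. -/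
theorem exists_form {g : ℤ} (C W : DCoh.D Y) [C.IsLE g] [W.IsGE (-g)]
    (Θ : (U Y g ⊗ C ⟶ 𝟙_ (DCoh.D Y)) ≃ (U Y g ⟶ W)) (hΘ : ∀ a τ, Θ (a ▷ C ≫ τ) = a ≫ Θ τ)
    (eW : DCoh.HD (U Y g) (-g) ≅ DCoh.HD W (-g)) :
    ∃ t₀ : DCoh.HD (U Y g ⊗ C) 0 ⟶ DCoh.HD (𝟙_ (DCoh.D Y)) 0,
      ∀ t, ∃! r : DCoh.HD (𝟙_ (DCoh.D Y)) 0 ⟶ DCoh.HD (𝟙_ (DCoh.D Y)) 0, t₀ ≫ r = t := by
  obtain ⟨eC⟩ := nonempty_U_tensor C g
  have hC : (U Y g ⊗ C).IsLE 0 := by
    have h1 : (C⟦g⟧).IsLE 0 := DerivedCategory.TStructure.t.isLE_shift C g g 0 (by omega)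
    exact DerivedCategory.TStructure.t.isLE_of_iso eC.symm 0
  let F := Groth.Agent.LoccohB.DCalc.homEquiv 0 (U Y g ⊗ C) (𝟙_ (DCoh.D Y))
  let F1 := Groth.Agent.LoccohB.DCalc.homEquiv 0 (𝟙_ (DCoh.D Y)) (𝟙_ (DCoh.D Y))
  let G := Groth.Agent.LoccohB.DCalc.homEquiv (-g) (U Y g) W
  let G1 := Groth.Agent.LoccohB.DCalc.homEquiv (-g) (U Y g) (U Y g)
  let w₀ : U Y g ⟶ W := G.symm eW.hom
  let τ₀ : U Y g ⊗ C ⟶ 𝟙_ (DCoh.D Y) := Θ.symm w₀
  have key : ∀ s : 𝟙_ (DCoh.D Y) ⟶ 𝟙_ (DCoh.D Y), Θ (τ₀ ≫ s) = act s (U Y g) ≫ w₀ := by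
    intro s
    have h1 : τ₀ ≫ s = act s (U Y g) ▷ C ≫ τ₀ := by
      rw [act_tensor, act_comp, act_unit]
    rw [h1, hΘ, Equiv.apply_symm_apply]
  have hw : ∀ w : U Y g ⟶ W, ∃ a : U Y g ⟶ U Y g, a ≫ w₀ = w := by
    intro w
    refine ⟨G1.symm ((DerivedCategory.homologyFunctor Y.Modules (-g)).map w ≫ eW.inv), ?_⟩
    apply G.injective
    change (DerivedCategory.homologyFunctor Y.Modules (-g)).map _ = (DerivedCategory.homologyFunctor Y.Modules (-g)).map _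
    rw [Functor.map_comp]
    have h1 : (DerivedCategory.homologyFunctor Y.Modules (-g)).map w₀ = eW.hom := G.apply_symm_apply _
    have h2 : (DerivedCategory.homologyFunctor Y.Modules (-g)).map
      (G1.symm ((DerivedCategory.homologyFunctor Y.Modules (-g)).map w ≫ eW.inv)) = _ := G1.apply_symm_apply _
    rw [h1, h2]
    simp
  have hw' : ∀ a a' : U Y g ⟶ U Y g, a ≫ w₀ = a' ≫ w₀ → a = a' := by
    intro a a' h
    apply G1.injective
    change (DerivedCategory.homologyFunctor Y.Modules (-g)).map _ = (DerivedCategory.homologyFunctor Y.Modules (-g)).map _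
    have h1 : (DerivedCategory.homologyFunctor Y.Modules (-g)).map w₀ = eW.hom := G.apply_symm_apply _
    have h2 := congrArg (DerivedCategory.homologyFunctor Y.Modules (-g)).map h
    rw [Functor.map_comp, Functor.map_comp, h1] at h2
    exact (cancel_mono _).1 h2
  refine ⟨(DerivedCategory.homologyFunctor Y.Modules 0).map τ₀, fun t => ?_⟩
  obtain ⟨a, ha⟩ := hw (Θ (F.symm t))
  obtain ⟨s, rfl⟩ := exists_act g a
  have h3 : F.symm t = τ₀ ≫ s := by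
    apply Θ.injective
    rw [key, ha]
  have h4 : t = (DerivedCategory.homologyFunctor Y.Modules 0).map (F.symm t) := (F.apply_symm_apply t).symm
  refine ⟨(DerivedCategory.homologyFunctor Y.Modules 0).map s, ?_, ?_⟩
  · dsimp only
    rw [← Functor.map_comp, ← h3, ← h4]
  · intro r hr
    have h5 : r = (DerivedCategory.homologyFunctor Y.Modules 0).map (F1.symm r) := (F1.apply_symm_apply r).symm
    rw [h5, ← Functor.map_comp, h4] at hr
    have h6 : τ₀ ≫ F1.symm r = τ₀ ≫ s := by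
      rw [← h3]
      exact F.injective hr
    have h7 : F1.symm r = s := by
      apply act_injective g
      apply hw'
      rw [← key, ← key, h6]
    rw [h5, h7]

/-- Every hom `N ⟶ O` is a unique multiple of one of them. -/
def HasForm (N : Y.Modules) : Prop :=
  ∃ t₀ : N ⟶ Coh.structureModule Y, ∀ t : N ⟶ Coh.structureModule Y,
    ∃! r : Coh.structureModule Y ⟶ Coh.structureModule Y, t₀ ≫ r = t

theorem hasForm_of_iso {N O : Y.Modules} {N' : Y.Modules} (e : N' ≅ N) (i : O ≅ Coh.structureModule Y)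
    (h : ∃ t₀ : N ⟶ O, ∀ t : N ⟶ O, ∃! r : O ⟶ O, t₀ ≫ r = t) : HasForm N' := by
  obtain ⟨t₀, h⟩ := h
  refine ⟨e.hom ≫ t₀ ≫ i.hom, fun t => ?_⟩
  obtain ⟨r, hr, hr'⟩ := h (e.inv ≫ t ≫ i.inv)
  refine ⟨i.inv ≫ r ≫ i.hom, ?_, fun r' h' => ?_⟩
  · simp [reassoc_of% hr]
  · have h1 := hr' (i.hom ≫ r' ≫ i.inv) (by
      rw [← h']
      simp)
    rw [← h1]
    simp

/-- **Duality for the top cohomology.** -/
theorem hasForm [IsNoetherian Y] (g : ℕ) (f : X ⟶ Y) [IsProper f] [SmoothOfRelativeDimension g f]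
    [HasInjectiveResolutions X.Modules]
    (L : X.Modules) (hL : ExtPow.IsExtPow g (Omega.sheaf f) L)
    (eL : (Coh.push f).obj L ≅ Coh.structureModule Y)
    (hdim : ∀ p : ℕ, g < p → IsZero ((Coh.Rpush f p).obj (Coh.structureModule X))) :
    HasForm ((Coh.Rpush f g).obj (Coh.structureModule X)) := by
  have hR := hasRpush f
  have hP := hasLpull f
  have hc : CompactSpace X := QuasiCompact.compactSpace_of_compactSpace f
  have hq : QuasiSeparatedSpace X := quasiSeparatedSpace_of_quasiSeparated f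
  have h : DCoh.RpushPreservesQCoh f := fun K hK => S0998.result f K hK
  have hs : DCoh.HasShriek f h := S1766.result X Y f h
  let O : DCoh.DQCoh Y := ⟨𝟙_ (DCoh.D Y), Groth.Agent.Dual.H379.DQMon.isQCohD_unit⟩
  obtain ⟨e⟩ := S3635.result Y X g f h _ (DCoh.shriekAdj f h) O ⟨(DualX.unitIso Y).symm⟩ L hL
  obtain ⟨Θ, hΘ⟩ := exists_theta f h _ (DCoh.shriekAdj f h) O _ e
  have hU : qc Y (U Y g) := Groth.Agent.LoccohB.DQCohBasic.isQCohD_shift Groth.Agent.Dual.H379.DQMon.isQCohD_unit _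
  let C : DCoh.D Y := (DCoh.Rpush f).obj (DCoh.inD X (Coh.structureModule X))
  let W : DCoh.D Y := (DCoh.Rpush f).obj ((DCoh.inD X L)⟦(g : ℤ)⟧)
  have hCLE : C.IsLE g := by
    rw [DerivedCategory.isLE_iff]
    intro i hi
    obtain ⟨n, rfl⟩ := Int.eq_ofNat_of_zero_le (show 0 ≤ i by omega)
    exact (hdim n (by omega)).of_iso (Groth.Agent.PerfC.RpushSingle.iso f n _)
  have hWGE : W.IsGE (-g) := by
    have h1 : ((DCoh.inD X L)⟦(g : ℤ)⟧).IsGE (-g) := DerivedCategory.TStructure.t.isGE_shift (DCoh.inD X L) 0 g (-g) (by omega)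
    exact Groth.Agent.PerfC.RpushTrunc.isGE_Rpush f _ _
  have eU : DCoh.HD (U Y g) (-g) ≅ Coh.structureModule Y :=
    Groth.Agent.LoccohB.DQCohBasic.homologyShiftIso (𝟙_ (DCoh.D Y)) g (-g) 0 (by omega) ≪≫
      (DerivedCategory.homologyFunctor Y.Modules 0).mapIso (DualX.unitIso Y).symm ≪≫
      (DerivedCategory.singleFunctorCompHomologyFunctorIso Y.Modules 0).app _
  have eW : DCoh.HD W (-g) ≅ Coh.structureModule Y :=
    Groth.Agent.LoccohB.DQCohBasic.HDRpushShiftIso f (DCoh.inD X L) g (-g) 0 (by omega) ≪≫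
      Groth.Agent.PerfC.RpushSingle.iso f 0 L ≪≫ ((Scheme.Modules.pushforward f).rightDerivedZeroIsoSelf).app L ≪≫ eL
  obtain ⟨eC⟩ := nonempty_U_tensor C g
  exact hasForm_of_iso ((Groth.Agent.PerfC.RpushSingle.iso f g _).symm ≪≫
      (Groth.Agent.LoccohB.DQCohBasic.homologyShiftIso C g 0 g (by omega)).symm ≪≫
      (DerivedCategory.homologyFunctor Y.Modules 0).mapIso eC.symm)
    ((DerivedCategory.homologyFunctor Y.Modules 0).mapIso (DualX.unitIso Y).symm ≪≫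
      (DerivedCategory.singleFunctorCompHomologyFunctorIso Y.Modules 0).app _)
    (exists_form (g := g) C W (Θ (U Y g) hU) (fun a τ => hΘ _ _ _ _ a τ) (eU ≪≫ eW.symm))

end K451.TopO
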