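import Groth.Agent.Desc.ModSec2
import Groth.Agent.AbSch.K451.TopO
import Groth.Agent.AbSch.K451.CycNak

/-!
# Modules with a universal form: local structure
-/

set_option autoImplicit false
universe u
open CategoryTheory CategoryTheory.Limits AlgebraicGeometry
namespace K451.TopInv
open Groth.Agent
variable {Y : Scheme.{u}}

/-- A function as a section of the structure module. -/
def toO (a : Γ(Y, ⊤)) : Γ(Coh.structureModule Y, ⊤) := a

/-- A section of the structure module as a function. -/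
def ofO (a : Γ(Coh.structureModule Y, ⊤)) : Γ(Y, ⊤) := a

theorem toO_smul (a b : Γ(Y, ⊤)) : a • toO b = toO (a * b) := rfl

theorem appTop_smul (r : Coh.structureModule Y ⟶ Coh.structureModule Y) (a : Γ(Y, ⊤)) :
    r.app ⊤ (toO a) = a • (r.app ⊤ (toO 1)) := by
  have h1 : toO a = a • toO (1 : Γ(Y, ⊤)) := by rw [toO_smul, mul_one]
  rw [h1]
  exact Scheme.Modules.Hom.app_smul r a (toO 1)

theorem exists_form_top [IsAffine Y] {N : Y.Modules} (hN : Coh.IsQCoh N) (h : TopO.HasForm N) :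
    ∃ t₀ : Γ(N, ⊤) →ₗ[Γ(Y, ⊤)] Γ(Y, ⊤), (∀ t : Γ(N, ⊤) →ₗ[Γ(Y, ⊤)] Γ(Y, ⊤), ∃ a : Γ(Y, ⊤), t = a • t₀) ∧
      ∀ a : Γ(Y, ⊤), a • t₀ = 0 → a = 0 := by
  obtain ⟨t₀, ht⟩ := h
  have hO : Coh.IsQCoh (Coh.structureModule Y) := Ega2.QCohLocal.isQCoh_of_isInvertible (TopO.isInvertible_structureModule Y)
  let T : Γ(N, ⊤) →ₗ[Γ(Y, ⊤)] Γ(Y, ⊤) :=
    { toFun := fun m => t₀.app ⊤ m
      map_add' := fun a b => map_add (t₀.app ⊤).hom a b
      map_smul' := fun a b => Scheme.Modules.Hom.app_smul t₀ a b }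
  have hext : ∀ r : Coh.structureModule Y ⟶ Coh.structureModule Y,
      ∀ m, (t₀ ≫ r).app ⊤ m = T m • (r.app ⊤ (toO 1)) := by
    intro r m
    change r.app ⊤ (t₀.app ⊤ m) = _
    exact appTop_smul r (T m)
  refine ⟨T, fun t => ?_, fun a ha => ?_⟩
  · obtain ⟨φ, hφ⟩ := Groth.Agent.Desc.ModSec.exists_hom_top (N := Coh.structureModule Y) hN t
    obtain ⟨r, hr, -⟩ := ht φ
    refine ⟨ofO (r.app ⊤ (toO 1)), LinearMap.ext fun m => ?_⟩
    have h1 := hφ m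
    rw [← hr, hext] at h1
    exact h1.symm.trans (mul_comm (T m) (ofO (r.app ⊤ (toO 1))))
  · let s : Γ(Coh.structureModule Y, ⊤) →ₗ[Γ(Y, ⊤)] Γ(Coh.structureModule Y, ⊤) := LinearMap.lsmul Γ(Y, ⊤) Γ(Coh.structureModule Y, ⊤) a
    obtain ⟨φ, hφ⟩ := Groth.Agent.Desc.ModSec.exists_hom_top (N := Coh.structureModule Y) hO s
    obtain ⟨r, -, hr⟩ := ht 0
    have h1 : φ = r := hr φ (by
      apply Groth.Agent.Desc.ModSec.hom_ext_top hN
      intro m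
      rw [hext, hφ]
      have h2 : a * T m = 0 := LinearMap.congr_fun ha m
      change T m * (a * 1) = 0
      rw [mul_one, mul_comm, h2])
    have h2 : (0 : Coh.structureModule Y ⟶ Coh.structureModule Y) = r := hr 0 (by simp)
    have h3 := hφ (toO 1)
    rw [h1, ← h2] at h3
    have h4 : (0 : Γ(Y, ⊤)) = a * 1 := h3
    rw [mul_one] at h4
    exact h4.symm

/-- A cyclic module with a form is free. -/
theorem bijective_of_cyclic {R M : Type*} [CommRing R] [AddCommGroup M] [Module R M] (m : M)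
    (hm : ∀ x : M, ∃ a : R, a • m = x) (t₀ : M →ₗ[R] R) (h : ∀ a : R, a • t₀ = 0 → a = 0) :
    Function.Bijective (LinearMap.toSpanSingleton R M m) := by
  refine ⟨(injective_iff_map_eq_zero _).2 fun a ha => h a ?_, fun x => ?_⟩
  · ext x
    obtain ⟨b, rfl⟩ := hm x
    have h1 : a • (b • m) = 0 := by
      rw [smul_comm]
      have : a • m = 0 := by simpa using ha
      rw [this, smul_zero]
    change a * t₀ (b • m) = 0
    rw [← smul_eq_mul, ← map_smul, h1, map_zero]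
  · obtain ⟨a, ha⟩ := hm x
    exact ⟨a, by simpa using ha⟩

/-- Over a field a module with a form is a line. -/
theorem exists_generator_of_field {R M : Type*} [CommRing R] (hR : IsField R) [AddCommGroup M] [Module R M]
    [Module.Finite R M] (t₀ : M →ₗ[R] R) (h1 : ∀ t : M →ₗ[R] R, ∃ a : R, t = a • t₀) (h : ∀ a : R, a • t₀ = 0 → a = 0) :
    ∃ m : M, ∀ x : M, ∃ a : R, a • m = x := by
  let _ := hR.toField
  have h2 : ∃ m, t₀ m ≠ 0 := by
    by_contra hc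
    push Not at hc
    have h3 : t₀ = 0 := LinearMap.ext hc
    exact one_ne_zero (h 1 (by rw [h3, smul_zero]))
  obtain ⟨m, hm⟩ := h2
  refine ⟨m, fun x => ⟨t₀ x / t₀ m, ?_⟩⟩
  by_contra hne
  have h4 : (t₀ x / t₀ m) • m - x ≠ 0 := sub_ne_zero.2 hne
  obtain ⟨φ, hφ⟩ : ∃ φ : M →ₗ[R] R, φ ((t₀ x / t₀ m) • m - x) ≠ 0 := by
    by_contra hc
    push Not at hc
    exact h4 ((Module.forall_dual_apply_eq_zero_iff R _).1 hc)
  obtain ⟨a, rfl⟩ := h1 φ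
  apply hφ
  simp [hm]

/-- On an affine scheme a quasi-coherent module generated by one section, with a form, is free of rank one. -/
theorem nonempty_iso_of_cyclic [IsAffine Y] {N : Y.Modules} (hN : Coh.IsQCoh N) (h : TopO.HasForm N)
    (m : Γ(N, ⊤)) (hm : ∀ x : Γ(N, ⊤), ∃ a : Γ(Y, ⊤), a • m = x) : Nonempty (Coh.structureModule Y ≅ N) := by
  have hO : Coh.IsQCoh (Coh.structureModule Y) := Ega2.QCohLocal.isQCoh_of_isInvertible (TopO.isInvertible_structureModule Y)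
  obtain ⟨t₀, -, h2⟩ := exists_form_top hN h
  have h3 := bijective_of_cyclic m hm t₀ h2
  let s : Γ(Coh.structureModule Y, ⊤) →ₗ[Γ(Y, ⊤)] Γ(N, ⊤) := LinearMap.toSpanSingleton Γ(Y, ⊤) Γ(N, ⊤) m
  obtain ⟨φ, hφ⟩ := Groth.Agent.Desc.ModSec.exists_hom_top (N := N) hO s
  have h4 : IsIso φ := by
    apply Groth.Agent.Desc.ModSec.isIso_of_bijective_top hO hN
    have : ⇑(φ.app ⊤).hom = s := funext hφ
    change Function.Bijective (φ.app ⊤).hom
    rw [this]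
    exact h3
  exact ⟨asIso φ⟩

open TensorProduct

/-- A generator of the fibre gives a generator near the point. -/
theorem exists_gen_of_fiber {T : Scheme.{u}} [IsAffine Y] [IsAffine T] (hT : IsField Γ(T, ⊤)) (h : T ⟶ Y) {N : Y.Modules}
    (hN : Coh.IsQCoh N) [Module.Finite Γ(Y, ⊤) Γ(N, ⊤)]
    (w : Γ((Scheme.Modules.pullback h).obj N, ⊤)) (hw : ∀ z : Γ((Scheme.Modules.pullback h).obj N, ⊤), ∃ a : Γ(T, ⊤), a • w = z) :
    ∃ (m : Γ(N, ⊤)) (f : Γ(Y, ⊤)), h.appTop f ≠ 0 ∧ ∀ x : Γ(N, ⊤), ∃ a : Γ(Y, ⊤), f • x = a • m := by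
  obtain ⟨h1, h2⟩ := Groth.Agent.Desc.ModSec.isBC_pb h N hN
  let _ := hT.toField
  let _ : Algebra Γ(Y, ⊤) Γ(T, ⊤) := h.appTop.hom.toAlgebra
  obtain ⟨w', hw'⟩ := h2.2 w
  obtain ⟨m, f, hf, hm⟩ := K451.CycNak.exists_of_gen (R := Γ(Y, ⊤)) (K := Γ(T, ⊤)) (M := Γ(N, ⊤)) w' (fun z => by
    obtain ⟨a, ha⟩ := hw (VarietyB.BCAlg.bc _ z)
    refine ⟨a, h2.1 ?_⟩
    rw [map_smul, hw', ha])
  exact ⟨m, f, hf, hm⟩

/-- A generator after localization. -/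
theorem exists_gen_pullback {V : Scheme.{u}} [IsAffine Y] [IsAffine V] (j : V ⟶ Y) {N : Y.Modules}
    (hN : Coh.IsQCoh N) (m : Γ(N, ⊤)) (f : Γ(Y, ⊤)) (hf : IsUnit (j.appTop f)) (hm : ∀ x : Γ(N, ⊤), ∃ a : Γ(Y, ⊤), f • x = a • m) :
    ∃ w : Γ((Scheme.Modules.pullback j).obj N, ⊤), ∀ z : Γ((Scheme.Modules.pullback j).obj N, ⊤), ∃ a : Γ(V, ⊤), a • w = z := by
  obtain ⟨h1, h2'⟩ := Groth.Agent.Desc.ModSec.isBC_pb j N hN
  let _ : Algebra Γ(Y, ⊤) Γ(V, ⊤) := j.appTop.hom.toAlgebra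
  obtain ⟨s, h2⟩ : ∃ s : Γ(N, ⊤) →ₛₗ[algebraMap Γ(Y, ⊤) Γ(V, ⊤)] Γ((Scheme.Modules.pullback j).obj N, ⊤),
    Function.Bijective (VarietyB.BCAlg.bc s) := ⟨_, h2'⟩
  refine ⟨VarietyB.BCAlg.bc s ((1 : Γ(V, ⊤)) ⊗ₜ[Γ(Y, ⊤)] m), fun z => ?_⟩
  obtain ⟨z', rfl⟩ := h2.2 z
  suffices h3 : ∃ a : Γ(V, ⊤), a • ((1 : Γ(V, ⊤)) ⊗ₜ[Γ(Y, ⊤)] m) = z' by
    obtain ⟨a, rfl⟩ := h3
    exact ⟨a, (map_smul _ _ _).symm⟩
  induction z' using TensorProduct.induction_on with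
  | zero => exact ⟨0, zero_smul _ _⟩
  | tmul b x =>
    obtain ⟨a, ha⟩ := hm x
    obtain ⟨c, hc⟩ := hf.exists_left_inv
    have h4 : algebraMap Γ(Y, ⊤) Γ(V, ⊤) f = j.appTop f := rfl
    refine ⟨b * c * algebraMap Γ(Y, ⊤) Γ(V, ⊤) a, ?_⟩
    have h5 : b ⊗ₜ[Γ(Y, ⊤)] x = (b * c) ⊗ₜ[Γ(Y, ⊤)] (f • x) := by
      rw [← TensorProduct.smul_tmul, Algebra.smul_def, h4, mul_comm (j.appTop f), mul_assoc, hc, mul_one]
    rw [h5, ha, ← TensorProduct.smul_tmul, TensorProduct.smul_tmul', smul_eq_mul, mul_one, Algebra.smul_def, mul_comm]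
  | add x y hx hy =>
    obtain ⟨a, rfl⟩ := hx
    obtain ⟨b, rfl⟩ := hy
    exact ⟨a + b, add_smul _ _ _⟩

end K451.TopInv
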