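import Groth.Agent.AbSch.K451.TopBC
import Groth.Agent.AbSch.K451.RelDim
import Groth.Agent.AbVar.K524.Key
import Groth.Agent.S7839
import Groth.Agent.OmegaSh.K583.ExtPowPull
import Groth.Agent.Krr.H495.ExtExist
import Groth.Agent.Desc.ModSec2
import Groth.Agent.AbSch.K451.DetPic
import Groth.Agent.Krr.H487.PullExt
import Groth.Agent.AbSch.K451.TopForm
import Groth.Agent.Vancyc.H878.RelOmega
import Groth.Agent.S2768
import Groth.Agent.S3022
import Groth.Agent.S0036
import Groth.Agent.Vancyc.H878.Triv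
import Groth.Agent.Krr.H490.PBFun
import Groth.Agent.Ega3B.DevQC
import Groth.Agent.Ega3B.SectExact

/-!
# The top direct image of the structure sheaf of an abelian scheme is invertible
-/

set_option autoImplicit false
universe u
open CategoryTheory CategoryTheory.Limits AlgebraicGeometry MonoidalCategory CartesianMonoidalCategory MonObj
attribute [local instance] HasDerivedCategory.standard

namespace K451.TopInv

open Groth.Agent Groth.Agent.Grpsch.PicGrp

variable {Y : Scheme.{u}} (X : Over Y) [GrpObj X] {g : ℕ} (hX : AgPol.IsAbSch X g)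

theorem isInvertible_iso {Z : Scheme.{u}} {M N : Z.Modules} (e : M ≅ N) (h : PicF.IsInvertible M) : PicF.IsInvertible N :=
  K451.DetPic.rank_one_iff.1 (K451.DetPic.rank_of_iso e (K451.DetPic.rank_one_iff.2 h))

include hX in
theorem isZero_above [IsLocallyNoetherian Y] [HasInjectiveResolutions X.left.Modules] (F : X.left.Modules)
    (hF : PicF.IsInvertible F) (p : ℕ) (hp : g < p) :
    IsZero ((Coh.Rpush X.hom p).obj F) := by
  have := hX.proper
  have := hX.smooth
  have hcoh := Groth.Agent.S2329.isCoh_of_isInvertible hF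
  have hfl := Grpsch.CubeClosed.isFlatOver_of_isInvertible X.hom hF
  refine K524.FinSupp.isZero_Rpush_of_fiberRank X.hom F hcoh hfl p fun y => ?_
  have h0 : LocallyOfFiniteType (X.hom.fiberToSpecResidueField y) :=
    inferInstanceAs (LocallyOfFiniteType (pullback.snd X.hom (Y.fromSpecResidueField y)))
  have h1 := @K524.Key.van_of_dim (Y.residueField y) _ _ (X.hom.fiberToSpecResidueField y) h0
    inferInstance _ (hX.fibreDim y).le (pull (X.hom.fiberι y) (mk F hF)) p hp
  rw [pull_mk, K524.Kun.van_mk] at h1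
  have : Subsingleton (CohIII.fiberH X.hom F y p) := h1
  exact Module.finrank_zero_of_subsingleton

/-- `Λ^g Ω = f^* Λ^g e^* Ω`. -/
theorem isExtPow_pull (ω : Y.Modules)
    (hω : ExtPow.IsExtPow g ((Scheme.Modules.pullback η[X].left).obj (Omega.sheaf X.hom)) ω)
    (h1 : FlatMod.IsFinLocFree ((Scheme.Modules.pullback η[X].left).obj (Omega.sheaf X.hom))) [QuasiSeparated X.hom] :
    ExtPow.IsExtPow g (Omega.sheaf X.hom) ((Scheme.Modules.pullback X.hom).obj ω) := by
  obtain ⟨⟨e1⟩, -⟩ := S1937.result Y X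
  let C : Y.Modules := Omega.conormal (Z := Y) η[X].left
  have h0 : (η[X] : 𝟙_ (Over Y) ⟶ X).left ≫ X.hom = 𝟙 Y := Over.w _
  let e2 : (Scheme.Modules.pullback η[X].left).obj (Omega.sheaf X.hom) ≅ C :=
    (Scheme.Modules.pullback (X := Y) η[X].left).mapIso e1 ≪≫
      (Scheme.Modules.pullbackComp (X := Y) η[X].left X.hom).app C ≪≫
      (Scheme.Modules.pullbackCongr h0).app C ≪≫ (Scheme.Modules.pullbackId Y).app C
  have h2 := Groth.Agent.Krr.H487.PullExt.isExtPow_pullback X.hom h1 hω
  have h3 : FlatMod.IsFinLocFree (Omega.sheaf X.hom) :=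
    PerfA.PerfLocal.isFinLocFree_of_iso ((Scheme.Modules.pullback X.hom).mapIso e2 ≪≫ e1.symm)
      (PerfB.FlatPull.isFinLocFree_pullback X.hom h1)
  exact K583.ExtPowPull.isExtPow_of_iso_left (Groth.Agent.PerfA.QCohEpi.isQCoh_of_isFinLocFree h3)
    ((Scheme.Modules.pullback X.hom).mapIso e2 ≪≫ e1.symm) h2

include hX in
/-- `f_* f^* ω = ω`. -/
theorem nonempty_push_pull (ω : Y.Modules) (hω : PicF.IsInvertible ω) :
    Nonempty ((Coh.push X.hom).obj ((Scheme.Modules.pullback X.hom).obj ω) ≅ ω) := by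
  have := hX.proper
  have := hX.smooth
  have := hX.geomConnected
  have := Groth.Agent.Flat2B.SmoothGeom.geometricallyReduced_of_smooth X.hom
  have hC : FlatMod.IsFinLocFree ω := K451.DetPic.isFinLocFree_of_rank (K451.DetPic.rank_one_iff.2 hω)
  have h2 : IsIso (PerfB.UnitMono.unitMap X.hom) := by
    rw [Scheme.Modules.Hom.isIso_iff_isIso_app]
    intro U
    apply PerfB.FiberUnit.isIso_unitMap_app
    have := K449.Push.isIso_app X U
    exact (ConcreteCategory.isIso_iff_bijective (X.hom.app U)).mp this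
  exact ⟨(VarietyB.ProjForm.projIsoUnit X.hom (VarietyB.TensCoh.HasBases.of_isFinLocFree hC)).symm ≪≫
    Ega2.Tens.mapTIso (Iso.refl ω) (asIso (PerfB.UnitMono.unitMap X.hom)).symm ≪≫ Ega2.Tens.runit ω⟩

include hX in
theorem isFinLocFree_cot : FlatMod.IsFinLocFree ((Scheme.Modules.pullback η[X].left).obj (Omega.sheaf X.hom)) :=
  PerfB.FlatPull.isFinLocFree_pullback _ (K451.DetPic.isFinLocFree_of_rank (K451.RelDim.isFinLocFreeOfRank_omega hX))

include hX in
/-- Duality, local form. -/
theorem hasForm [IsNoetherian Y] [HasInjectiveResolutions X.left.Modules] (ω : Y.Modules)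
    (hω : ExtPow.IsExtPow g ((Scheme.Modules.pullback η[X].left).obj (Omega.sheaf X.hom)) ω)
    (e : ω ≅ Coh.structureModule Y) :
    TopO.HasForm ((Coh.Rpush X.hom g).obj (Coh.structureModule X.left)) := by
  have := hX.proper
  have := hX.smooth
  have := K451.RelDim.smoothOfRelativeDimension hX
  have hi : PicF.IsInvertible ω := isInvertible_iso e.symm Fdesc.LocGen.isInvertible_structureModule
  obtain ⟨e2⟩ := nonempty_push_pull X hX ω hi
  exact TopO.hasForm g X.hom _ (isExtPow_pull X ω hω (isFinLocFree_cot X hX)) (e2 ≪≫ e)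
    (fun p hp => isZero_above X hX _ Fdesc.LocGen.isInvertible_structureModule p hp)


/-! ### Base change -/

theorem eta_fst {T : Scheme.{u}} (j : T ⟶ Y) :
    (η[(Over.pullback j).obj X] : 𝟙_ (Over T) ⟶ (Over.pullback j).obj X).left ≫ pullback.fst X.hom j =
      j ≫ (η[X] : 𝟙_ (Over Y) ⟶ X).left := by
  have h1 : (η[(Over.pullback j).obj X] : 𝟙_ (Over T) ⟶ (Over.pullback j).obj X) =
    Functor.LaxMonoidal.ε (Over.pullback j) ≫ (Over.pullback j).map η[X] := rfl
  rw [h1, Over.comp_left, Category.assoc]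
  have h2 : ((Over.pullback j).map (η[X] : 𝟙_ (Over Y) ⟶ X)).left ≫ pullback.fst X.hom j =
      pullback.fst (𝟙_ (Over Y)).hom j ≫ (η[X] : 𝟙_ (Over Y) ⟶ X).left := pullback.lift_fst _ _ _
  rw [h2, ← Category.assoc]
  congr 1
  have h3 : (Functor.LaxMonoidal.ε (Over.pullback j)).left ≫ pullback.snd (𝟙_ (Over Y)).hom j = 𝟙 T :=
    Over.w (Functor.LaxMonoidal.ε (Over.pullback j))
  have h4 : pullback.fst (𝟙_ (Over Y)).hom j = pullback.snd (𝟙_ (Over Y)).hom j ≫ j := by
    rw [← pullback.condition]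
    exact (Category.comp_id _).symm
  rw [h4, ← Category.assoc, h3]
  exact Category.id_comp j

include hX in
theorem isAbSch_bc {T : Scheme.{u}} (j : T ⟶ Y) : AgPol.IsAbSch ((Over.pullback j).obj X) g := by
  have := hX.proper
  have := hX.smooth
  have := hX.geomConnected
  have h1 : SmoothOfRelativeDimension g X.hom := K451.RelDim.smoothOfRelativeDimension hX
  have i1 : Smooth ((Over.pullback j).obj X).hom := inferInstanceAs (Smooth (pullback.snd X.hom j))
  have i2 : IsProper ((Over.pullback j).obj X).hom := inferInstanceAs (IsProper (pullback.snd X.hom j))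
  refine ⟨i1, i2, inferInstanceAs (GeometricallyConnected (pullback.snd X.hom j)), fun t => ?_⟩
  have h2 : SmoothOfRelativeDimension g ((Over.pullback j).obj X).hom := by
    have := smoothOfRelativeDimension_isStableUnderBaseChange.{u} g
    exact MorphismProperty.of_isPullback (P := @SmoothOfRelativeDimension.{u} g) (IsPullback.of_hasPullback X.hom j) h1
  let x : ((Over.pullback j).obj X).left := (η[(Over.pullback j).obj X] : 𝟙_ (Over T) ⟶ (Over.pullback j).obj X).left t
  have hx : ((Over.pullback j).obj X).hom x = t := by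
    have h3 : (η[(Over.pullback j).obj X] : 𝟙_ (Over T) ⟶ (Over.pullback j).obj X).left ≫
      ((Over.pullback j).obj X).hom = 𝟙 T := Over.w _
    exact congr($h3 t)
  have h4 := Groth.Agent.S3022.fibreDimAt_eq ((Over.pullback j).obj X) x
  have h5 := @Groth.Agent.S2768.result g _ _ ((Over.pullback j).obj X).hom h2 x
  rw [h5, hx] at h4
  exact h4.symm

/-- The cotangent module along the unit section. -/
noncomputable abbrev cot (X : Over Y) [GrpObj X] : Y.Modules :=
  (Scheme.Modules.pullback (X := Y) (η[X] : 𝟙_ (Over Y) ⟶ X).left).obj (Omega.sheaf X.hom)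

noncomputable def cotBC {T : Scheme.{u}} (j : T ⟶ Y) [QuasiSeparated X.hom] :
    (Scheme.Modules.pullback j).obj (cot X) ≅ cot ((Over.pullback j).obj X) :=
  (Scheme.Modules.pullbackComp (Y := Y) j (η[X] : 𝟙_ (Over Y) ⟶ X).left).app _ ≪≫
    (Scheme.Modules.pullbackCongr (eta_fst X j).symm).app _ ≪≫
    ((Scheme.Modules.pullbackComp (X := T) (η[(Over.pullback j).obj X] : 𝟙_ (Over T) ⟶ (Over.pullback j).obj X).left
      (pullback.fst X.hom j)).app _).symm ≪≫
    (Scheme.Modules.pullback (X := T) (η[(Over.pullback j).obj X] : 𝟙_ (Over T) ⟶ (Over.pullback j).obj X).left).mapIso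
      (Vancyc.H878.RelOmega.omegaBC (IsPullback.of_hasPullback X.hom j))

include hX in
theorem isExtPow_bc {T : Scheme.{u}} (j : T ⟶ Y) (ω : Y.Modules) (hω : ExtPow.IsExtPow g (cot X) ω) [QuasiSeparated X.hom] :
    ExtPow.IsExtPow g (cot ((Over.pullback j).obj X)) ((Scheme.Modules.pullback j).obj ω) :=
  K583.ExtPowPull.isExtPow_of_iso_left (Groth.Agent.PerfA.QCohEpi.isQCoh_of_isFinLocFree (isFinLocFree_cot _ (isAbSch_bc X hX j)))
    (cotBC X j) (Groth.Agent.Krr.H487.PullExt.isExtPow_pullback j (isFinLocFree_cot X hX) hω)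


/-! ### Invertibility -/

open Grpsch.PicGrp in
/-- An invertible module is trivial on an affine neighbourhood of a point. -/
theorem exists_affine_triv {L : Y.Modules} (hL : PicF.IsInvertible L) (y : Y) :
    ∃ U : Y.Opens, y ∈ U ∧ IsAffineOpen U ∧
      Nonempty ((Scheme.Modules.pullback U.ι).obj L ≅ Coh.structureModule (U : Scheme.{u})) := by
  obtain ⟨U₀, hy, ⟨e⟩⟩ := hL y
  obtain ⟨U, hU, hyU, hle⟩ := exists_isAffineOpen_mem_and_subset (U := U₀) hy
  refine ⟨U, hyU, hU, ?_⟩
  have h1 : pull U₀.ι (mk L hL) = 1 := by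
    rw [pull_mk, mk_eq_one_iff]
    exact ⟨((Scheme.Modules.restrictFunctorIsoPullback U₀.ι).app L).symm ≪≫ e⟩
  have h2 : pull U.ι (mk L hL) = 1 := by
    rw [← Scheme.homOfLE_ι Y hle, pull_comp, h1, map_one]
  rwa [pull_mk, mk_eq_one_iff] at h2

theorem exists_omega : ∃ ω : Y.Modules, PicF.IsInvertible ω ∧ (AgPol.IsAbSch X g → ExtPow.IsExtPow g (cot X) ω) := by
  by_cases hX : AgPol.IsAbSch X g
  · obtain ⟨ω, -, hω⟩ := Groth.Agent.Krr.H495.ExtExist.exists_isExtPow g (cot X) (isFinLocFree_cot X hX)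
    exact ⟨ω, K451.DetMat.isInvertible_of_isExtPow (Vancyc.H878.Triv.isFinLocFreeOfRank_pullback _
      (K451.RelDim.isFinLocFreeOfRank_omega hX)) hω, fun _ => hω⟩
  · exact ⟨_, Fdesc.LocGen.isInvertible_structureModule, fun h => absurd h hX⟩

/-- Having a generator is invariant under isomorphism. -/
theorem exists_gen_iso {Z : Scheme.{u}} {M N : Z.Modules} (e : M ≅ N)
    (h : ∃ w : Γ(M, ⊤), ∀ z : Γ(M, ⊤), ∃ a : Γ(Z, ⊤), a • w = z) :
    ∃ w : Γ(N, ⊤), ∀ z : Γ(N, ⊤), ∃ a : Γ(Z, ⊤), a • w = z := by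
  obtain ⟨w, hw⟩ := h
  refine ⟨e.hom.app ⊤ w, fun z => ?_⟩
  obtain ⟨a, ha⟩ := hw (e.inv.app ⊤ z)
  refine ⟨a, ?_⟩
  have h1 : e.hom.app ⊤ (a • w) = a • e.hom.app ⊤ w := Scheme.Modules.Hom.app_smul e.hom a w
  rw [← h1, ha]
  have h2 : (e.inv ≫ e.hom).app ⊤ = 𝟙 _ := by rw [e.inv_hom_id]; rfl
  exact congr($h2 z)

/-- `H^g` of an abelian variety is generated by one element. -/
theorem exists_gen_field {K : Type u} [Field K] (X : Over (Spec (CommRingCat.of K))) [GrpObj X] {g : ℕ}
    (hX : AgPol.IsAbSch X g) :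
    ∃ w : Γ((Coh.Rpush X.hom g).obj (Coh.structureModule X.left), ⊤),
      ∀ z : Γ((Coh.Rpush X.hom g).obj (Coh.structureModule X.left), ⊤), ∃ a : Γ(Spec (CommRingCat.of K), ⊤), a • w = z := by
  have := hX.proper
  obtain ⟨ω, hi, hω⟩ := exists_omega X (g := g)
  obtain ⟨e⟩ : Nonempty (ω ≅ Coh.structureModule _) :=
    (Grpsch.PicGrp.mk_eq_one_iff hi).1 (Grpsch.PicGrp.pic_spec_local K _)
  have hf := hasForm X hX ω (hω hX) e
  have hloc : IsLocallyNoetherian X.left := LocallyOfFiniteType.isLocallyNoetherian X.hom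
  have hcO : Coh.IsCoh (Coh.structureModule X.left) := Groth.Agent.S2329.isCoh_of_isInvertible Fdesc.LocGen.isInvertible_structureModule
  have hc := Groth.Agent.S0036.result X.hom _ hcO g
  have hfin : Module.Finite Γ(Spec (CommRingCat.of K), ⊤) Γ((Coh.Rpush X.hom g).obj (Coh.structureModule X.left), ⊤) :=
    Ega3B.DevQC.finite_sections hc (isAffineOpen_top _)
  obtain ⟨t₀, h1, h2⟩ := exists_form_top hc.1 hf
  have hK : IsField Γ(Spec (CommRingCat.of K), ⊤) :=
    MulEquiv.isField (Field.toIsField K) (Scheme.ΓSpecIso (CommRingCat.of K)).commRingCatIsoToRingEquiv.toMulEquiv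
  exact exists_generator_of_field hK t₀ h1 h2


include hX in
theorem nonempty_top_bc [IsLocallyNoetherian Y] {T : Scheme.{u}} (j : T ⟶ Y) (F : X.left.Modules) (hF : PicF.IsInvertible F) :
    Nonempty ((Coh.Rpush ((Over.pullback j).obj X).hom g).obj ((Scheme.Modules.pullback (pullback.fst X.hom j)).obj F) ≅
      (Scheme.Modules.pullback j).obj ((Coh.Rpush X.hom g).obj F)) := by
  have := hX.proper
  have := hX.smooth
  exact TopBC.nonempty_top_bc (IsPullback.of_hasPullback X.hom j) F (Ega3B.SectExact.isFlat_of_isInvertible hF)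
    (Groth.Agent.S2329.isCoh_of_isInvertible hF).1 g (fun p hp => isZero_above X hX F hF p hp)

theorem nonempty_pullO {Z W : Scheme.{u}} (f : Z ⟶ W) :
    Nonempty ((Scheme.Modules.pullback f).obj (Coh.structureModule W) ≅ Coh.structureModule Z) := by
  have h := Grpsch.PicGrp.pull_mk f (L := Coh.structureModule W) Fdesc.LocGen.isInvertible_structureModule
  rw [(Grpsch.PicGrp.mk_eq_one_iff Fdesc.LocGen.isInvertible_structureModule).2 ⟨Iso.refl _⟩, map_one] at h
  exact (Grpsch.PicGrp.mk_eq_one_iff _).1 h.symm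

include hX in
theorem nonempty_topO_bc [IsLocallyNoetherian Y] {T : Scheme.{u}} (j : T ⟶ Y) :
    Nonempty ((Coh.Rpush ((Over.pullback j).obj X).hom g).obj (Coh.structureModule ((Over.pullback j).obj X).left) ≅
      (Scheme.Modules.pullback j).obj ((Coh.Rpush X.hom g).obj (Coh.structureModule X.left))) := by
  obtain ⟨e⟩ := nonempty_top_bc X hX j _ Fdesc.LocGen.isInvertible_structureModule
  obtain ⟨e'⟩ := nonempty_pullO (pullback.fst X.hom j)
  exact ⟨(Coh.Rpush ((Over.pullback j).obj X).hom g).mapIso e'.symm ≪≫ e⟩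


/-- A function nonzero at a point is invertible near it. -/
theorem mem_basicOpen_of_ne {U : Scheme.{u}} (y : U) (f : Γ(U, ⊤)) (hf : (U.fromSpecResidueField y).appTop f ≠ 0) :
    y ∈ U.basicOpen f := by
  have h0 : IsField Γ(Spec (U.residueField y), ⊤) :=
    MulEquiv.isField (Field.toIsField (U.residueField y)) (Scheme.ΓSpecIso (U.residueField y)).commRingCatIsoToRingEquiv.toMulEquiv
  have h1 : IsUnit ((U.fromSpecResidueField y).appTop f) := by
    obtain ⟨b, hb⟩ := h0.mul_inv_cancel hf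
    exact IsUnit.of_mul_eq_one b hb
  have h2 := Scheme.preimage_basicOpen_top (U.fromSpecResidueField y) f
  rw [Scheme.basicOpen_of_isUnit _ h1] at h2
  have h3 : (IsLocalRing.closedPoint (U.residueField y) : Spec (U.residueField y)) ∈ (U.fromSpecResidueField y) ⁻¹ᵁ U.basicOpen f := by
    rw [h2]; trivial
  have h4 : (U.fromSpecResidueField y) (IsLocalRing.closedPoint (U.residueField y)) ∈ U.basicOpen f := h3
  have h5 := Scheme.fromSpecResidueField_apply y (IsLocalRing.closedPoint (U.residueField y))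
  exact h5 ▸ h4

theorem isUnit_basicOpen (f : Γ(Y, ⊤)) : IsUnit ((Y.basicOpen f).ι.appTop f) := by
  have h1 : (Y.basicOpen f : Scheme.{u}).basicOpen ((Y.basicOpen f).ι.appTop f) = ⊤ := by
    have := Scheme.preimage_basicOpen (Y.basicOpen f).ι f
    refine this.symm.trans ?_
    simp
  refine RingedSpace.isUnit_of_isUnit_germ _ _ _ (fun x hx => ?_)
  have h2 : x ∈ (Y.basicOpen f : Scheme.{u}).basicOpen ((Y.basicOpen f).ι.appTop f) := by
    rw [h1]; trivial
  exact (Scheme.mem_basicOpen _ _ _ hx).1 h2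

include hX in
theorem exists_topO_local [IsNoetherian Y] [IsAffine Y] (ω : Y.Modules) (hω : ExtPow.IsExtPow g (cot X) ω)
    (e : Nonempty (ω ≅ Coh.structureModule Y)) (y : Y) : ∃ V : Y.Opens, y ∈ V ∧
      PicF.IsInvertible ((Scheme.Modules.pullback V.ι).obj ((Coh.Rpush X.hom g).obj (Coh.structureModule X.left))) := by
  have := hX.proper
  have hloc : IsLocallyNoetherian X.left := LocallyOfFiniteType.isLocallyNoetherian X.hom
  have hcO : Coh.IsCoh (Coh.structureModule X.left) := Groth.Agent.S2329.isCoh_of_isInvertible Fdesc.LocGen.isInvertible_structureModule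
  have hc := Groth.Agent.S0036.result X.hom _ hcO g
  have hfin : Module.Finite Γ(Y, ⊤) Γ((Coh.Rpush X.hom g).obj (Coh.structureModule X.left), ⊤) :=
    Ega3B.DevQC.finite_sections hc (isAffineOpen_top _)
  let h := Y.fromSpecResidueField y
  have h1 := exists_gen_field (K := Y.residueField y) ((Over.pullback h).obj X) (isAbSch_bc X hX h)
  obtain ⟨e1⟩ := nonempty_topO_bc X hX h
  obtain ⟨w, hw⟩ := exists_gen_iso e1 h1
  have hT : IsField Γ(Spec (Y.residueField y), ⊤) :=
    MulEquiv.isField (Field.toIsField (Y.residueField y)) (Scheme.ΓSpecIso (Y.residueField y)).commRingCatIsoToRingEquiv.toMulEquiv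
  obtain ⟨m, f, hf, hm⟩ := exists_gen_of_fiber hT h hc.1 w hw
  refine ⟨Y.basicOpen f, mem_basicOpen_of_ne y f hf, ?_⟩
  let V := Y.basicOpen f
  have hVa : IsAffine (V : Scheme.{u}) := (isAffineOpen_top Y).basicOpen f
  have hVl : IsLocallyNoetherian (V : Scheme.{u}) := isLocallyNoetherian_of_isOpenImmersion V.ι
  have hVn : AlgebraicGeometry.IsNoetherian (V : Scheme.{u}) := { }
  have hu : IsUnit (V.ι.appTop f) := isUnit_basicOpen f
  have h2 := exists_gen_pullback V.ι hc.1 m f hu hm
  obtain ⟨e2⟩ := nonempty_topO_bc X hX V.ι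
  obtain ⟨w', hw'⟩ := exists_gen_iso e2.symm h2
  obtain ⟨e3⟩ := e
  obtain ⟨e4⟩ := nonempty_pullO V.ι
  have hf' := hasForm ((Over.pullback V.ι).obj X) (isAbSch_bc X hX V.ι) _ (isExtPow_bc X hX V.ι ω hω)
    ((Scheme.Modules.pullback V.ι).mapIso e3 ≪≫ e4)
  have hp := (isAbSch_bc X hX V.ι).proper
  have h5 : IsLocallyNoetherian ((Over.pullback V.ι).obj X).left :=
    LocallyOfFiniteType.isLocallyNoetherian ((Over.pullback V.ι).obj X).hom
  have hc' := Groth.Agent.S0036.result ((Over.pullback V.ι).obj X).hom _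
    (Groth.Agent.S2329.isCoh_of_isInvertible (Fdesc.LocGen.isInvertible_structureModule (X := ((Over.pullback V.ι).obj X).left))) g
  obtain ⟨e6⟩ := nonempty_iso_of_cyclic hc'.1 hf' w' hw'
  exact isInvertible_iso (e6 ≪≫ e2) Fdesc.LocGen.isInvertible_structureModule


include hX in
/-- **The top direct image of the structure sheaf of an abelian scheme is invertible.** -/
theorem isInvertible_topO [IsLocallyNoetherian Y] :
    PicF.IsInvertible ((Coh.Rpush X.hom g).obj (Coh.structureModule X.left)) := by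
  have := hX.proper
  obtain ⟨ω, hi, hω⟩ := exists_omega X (g := g)
  have key : ∀ y : Y, ∃ (V : Scheme.{u}) (j : V ⟶ Y) (_ : IsOpenImmersion j) (z : V), j z = y ∧
      PicF.IsInvertible ((Scheme.Modules.pullback j).obj ((Coh.Rpush X.hom g).obj (Coh.structureModule X.left))) := by
    intro y
    obtain ⟨U, hy, hU, ⟨e⟩⟩ := exists_affine_triv hi y
    have hUa : IsAffine (U : Scheme.{u}) := hU
    have hUl : IsLocallyNoetherian (U : Scheme.{u}) := isLocallyNoetherian_of_isOpenImmersion U.ι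
    have hUn : AlgebraicGeometry.IsNoetherian (U : Scheme.{u}) := { }
    obtain ⟨V, hyV, hV⟩ := exists_topO_local ((Over.pullback U.ι).obj X) (isAbSch_bc X hX U.ι) _
      (isExtPow_bc X hX U.ι ω (hω hX)) ⟨e⟩ ⟨y, hy⟩
    obtain ⟨e1⟩ := nonempty_topO_bc X hX U.ι
    refine ⟨_, V.ι ≫ U.ι, inferInstance, ⟨⟨y, hy⟩, hyV⟩, rfl, ?_⟩
    exact isInvertible_iso ((Scheme.Modules.pullback V.ι).mapIso e1 ≪≫
      (Scheme.Modules.pullbackComp V.ι U.ι).app _) hV
  choose V j hj z hz hV using key
  exact Krr.H490.PBFun.isInvertible_of_cover j (fun y => ⟨y, z y, hz y⟩) hV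

end K451.TopInv
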