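import Groth.Agent.Dual.H376.DetSec
import Groth.Agent.Grpsch.PicGrp
import Groth.Agent.Sga67.TensorOps

/-!
# Cocycles of classes in the Picard group

`IsCoc B c u`: the class `c` is given, on the covering `B`, by the transition functions `u i j` on `B i ∩ B j`.
-/

set_option autoImplicit false
universe u

open CategoryTheory CategoryTheory.Limits AlgebraicGeometry Opposite TopologicalSpace
open scoped TensorProduct
open Groth.Agent.Sga67 Groth.Agent.Sga67.Sec Groth.Agent.Sga67.LocBasis Groth.Agent.Dual.H376.GlueGen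
open Groth.Agent.Grpsch Groth.Agent.Sga67.TensorOps

namespace K451.Coc

variable {X : Scheme.{u}} {ι : Type*} (B : ι → X.Opens)

theorem isInvertible_of_gens (hB : ∀ x : X, ∃ i, x ∈ B i) (L : X.Modules) (l : ∀ i, Sec L (B i))
    (hl : ∀ i, IsGen (l i)) : PicF.IsInvertible L := by
  intro x
  obtain ⟨i, hi⟩ := hB x
  refine ⟨B i, hi, ?_⟩
  have h1 : ∃ b : Fin 1 → Sec L (B i), IsLocBasis b := ⟨_, (isGen_iff _).mp (hl i)⟩
  obtain ⟨e⟩ := nonempty_restrict_iso_iff.mpr h1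
  have h2 : ∃ b : Fin 1 → Sec (Coh.structureModule (B i : Scheme.{u})) ⊤, IsLocBasis b := ⟨_, isLocBasis_one⟩
  obtain ⟨b, hb⟩ := h2
  obtain ⟨e'⟩ := nonempty_iso_free hb
  exact ⟨e ≪≫ e'.symm⟩

/-- `u` is a cocycle of the class `c` for the covering `B`. -/
def IsCoc (c : PicGrp.Pic X) (t : ∀ i j, Γ(X, B i ⊓ B j)) : Prop :=
  ∃ (L : X.Modules) (hL : PicF.IsInvertible L) (l : ∀ i, Sec L (B i)),
    c = PicGrp.mk L hL ∧ (∀ i, IsGen (l i)) ∧
      ∀ i j, res L inf_le_left (l i) = t i j • res L inf_le_right (l j)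

theorem isCoc_mk {L : X.Modules} (hL : PicF.IsInvertible L) {t : ∀ i j, Γ(X, B i ⊓ B j)} (l : ∀ i, Sec L (B i))
    (hl : ∀ i, IsGen (l i)) (h : ∀ i j, res L inf_le_left (l i) = t i j • res L inf_le_right (l j)) :
    IsCoc B (PicGrp.mk L hL) t := ⟨L, hL, l, rfl, hl, h⟩

variable {B}

/-- A class is determined by its cocycle. -/
theorem IsCoc.eq (hB : ∀ x : X, ∃ i, x ∈ B i) {c c' : PicGrp.Pic X} {t : ∀ i j, Γ(X, B i ⊓ B j)}
    (h : IsCoc B c t) (h' : IsCoc B c' t) : c = c' := by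
  obtain ⟨L, hL, l, rfl, hl, ht⟩ := h
  obtain ⟨L', hL', l', rfl, hl', ht'⟩ := h'
  rw [PicGrp.mk_eq_iff]
  exact nonempty_iso_of_gens B hB L L' l l' hl hl' fun i j x hi hj =>
    ⟨B i ⊓ B j, inf_le_left, inf_le_right, t i j, ⟨hi, hj⟩, ht i j, ht' i j⟩

theorem isGen_tau {L L' : X.Modules} {U : X.Opens} {l : Sec L U} {l' : Sec L' U} (h : IsGen l) (h' : IsGen l') :
    IsGen (E := CohB1.tensorMod L L') (tau L L' U (l ⊗ₜ l')) := by
  rw [isGen_iff] at h h' ⊢
  exact (isLocBasis_tensor h h').reindex (Equiv.prodUnique (Fin 1) (Fin 1)).symm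

theorem tau_smul_smul {L L' : X.Modules} {U : X.Opens} (a a' : Γ(X, U)) (l : Sec L U) (l' : Sec L' U) :
    tau L L' U ((a • l) ⊗ₜ (a' • l')) = (a * a') • tau L L' U (l ⊗ₜ l') := by
  rw [TensorProduct.smul_tmul_smul, map_smul]

theorem IsCoc.mul {c c' : PicGrp.Pic X} {t t' : ∀ i j, Γ(X, B i ⊓ B j)}
    (h : IsCoc B c t) (h' : IsCoc B c' t') : IsCoc B (c * c') (fun i j => t i j * t' i j) := by
  obtain ⟨L, hL, l, rfl, hl, ht⟩ := h
  obtain ⟨L', hL', l', rfl, hl', ht'⟩ := h'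
  refine ⟨CohB1.tensorMod L L', _, fun i => tau L L' (B i) (l i ⊗ₜ l' i), PicGrp.mk_mul_mk hL hL', fun i =>
    isGen_tau (hl i) (hl' i), fun i j => ?_⟩
  rw [← tau_tres, ← tau_tres, tres_tmul, tres_tmul, ht i j, ht' i j, tau_smul_smul]

theorem isGen_one (U : X.Opens) : IsGen (one X U) := by
  have h := (isGen_iff (E := Coh.structureModule X) (U := ⊤) (one X ⊤)).mpr isLocBasis_one
  have h2 := h.restrict (le_top : U ≤ ⊤)
  rwa [res_one] at h2

theorem isCoc_one : IsCoc B (1 : PicGrp.Pic X) (fun _ _ => 1) := by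
  refine ⟨Coh.structureModule X, _, fun i => one X (B i), PicGrp.one_def, fun i => isGen_one _, fun i j => ?_⟩
  rw [one_smul, res_one, res_one]

theorem IsCoc.pow {c : PicGrp.Pic X} {t : ∀ i j, Γ(X, B i ⊓ B j)} (h : IsCoc B c t) (n : ℕ) :
    IsCoc B (c ^ n) (fun i j => t i j ^ n) := by
  induction n with
  | zero =>
    simp only [pow_zero]
    exact isCoc_one
  | succ n ih =>
    simp only [pow_succ]
    exact ih.mul h

end K451.Coc
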