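import Groth.Agent.AbSch.K449.Rigid
import Groth.Agent.Sga1.EffEpi

/-!
# The locus over which a morphism is constant on fibres

`ξ : X ⟶ S` closed and surjective with `O_S = ξ_* O_X`, `f : X ⟶ Y`. The set of points of `S` over
which `f` is constant as a map of sets is open, and `f` factors through `ξ` above it.
-/

set_option autoImplicit false
universe u

open CategoryTheory Limits AlgebraicGeometry

namespace K451.Collapse

/-- Morphisms which factor locally on the base factor. -/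
theorem exists_fac_of_locally {X S Y : Scheme.{u}} (ξ : X ⟶ S) (hc : IsClosedMap ξ)
    [Surjective ξ] (hb : ∀ V : S.Opens, Function.Bijective (ξ.app V).hom) (f : X ⟶ Y)
    (h : ∀ s : S, ∃ U : S.Opens, s ∈ U ∧ ∃ g : U.toScheme ⟶ Y, (ξ ⁻¹ᵁ U).ι ≫ f = (ξ ∣_ U) ≫ g) :
    ∃ r : S ⟶ Y, ξ ≫ r = f := by
  refine Groth.Agent.Sga1.EffEpi.exists_desc ξ (hc.isQuotientMap ξ.continuous ξ.surjective)
    (fun U => (hb U).1) (fun U s' _ => (hb U).2 s') f ?_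
  suffices h : (⊤ : (pullback ξ ξ).Opens).ι ≫ pullback.fst ξ ξ ≫ f =
      (⊤ : (pullback ξ ξ).Opens).ι ≫ pullback.snd ξ ξ ≫ f by
    rwa [← cancel_epi (pullback ξ ξ).topIso.hom]
  refine K449.Rigid.ι_comp_eq_of_forall _ _ _ fun z _ => ?_
  obtain ⟨U, hU, g, hg⟩ := h (ξ (pullback.fst ξ ξ z))
  let W : (pullback ξ ξ).Opens := pullback.fst ξ ξ ⁻¹ᵁ ξ ⁻¹ᵁ U
  refine ⟨W, hU, ?_⟩
  have hle : W ≤ pullback.snd ξ ξ ⁻¹ᵁ ξ ⁻¹ᵁ U := by
    change pullback.fst ξ ξ ⁻¹ᵁ ξ ⁻¹ᵁ U ≤ pullback.snd ξ ξ ⁻¹ᵁ ξ ⁻¹ᵁ U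
    rw [← Scheme.Hom.comp_preimage, ← Scheme.Hom.comp_preimage, pullback.condition]
  have h1 : (pullback.fst ξ ξ).resLE (ξ ⁻¹ᵁ U) W le_rfl ≫ ξ ∣_ U =
      (pullback.snd ξ ξ).resLE (ξ ⁻¹ᵁ U) W hle ≫ ξ ∣_ U := by
    rw [← cancel_mono U.ι, Category.assoc, Category.assoc, morphismRestrict_ι,
      Scheme.Hom.resLE_comp_ι_assoc, Scheme.Hom.resLE_comp_ι_assoc, pullback.condition]
  rw [← Scheme.Hom.resLE_comp_ι_assoc (pullback.fst ξ ξ) (le_refl W),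
    ← Scheme.Hom.resLE_comp_ι_assoc (pullback.snd ξ ξ) hle, hg, reassoc_of% h1]

/-- The points over which `f` is constant. -/
def locus {X S Y : Scheme.{u}} (ξ : X ⟶ S) (f : X ⟶ Y) : Set S :=
  {s | ∃ y : Y, ∀ x : X, ξ x = s → f x = y}

theorem isOpen_locus {X S Y : Scheme.{u}} (ξ : X ⟶ S) (hc : IsClosedMap ξ)
    (hb : ∀ V : S.Opens, IsIso (ξ.app V)) (f : X ⟶ Y) : IsOpen (locus ξ f) := by
  rw [isOpen_iff_forall_mem_open]
  rintro s ⟨y, hy⟩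
  obtain ⟨U, hsU, g, hg⟩ := K449.Rigid.exists_open_of_fibre ξ hc hb f s y hy
  refine ⟨U, fun t ht => ⟨g ⟨t, ht⟩, fun x hx => ?_⟩, U.isOpen, hsU⟩
  have hx' : x ∈ ξ ⁻¹ᵁ U := by
    change ξ x ∈ U
    rwa [hx]
  have h1 := congrArg (fun φ => φ ⟨x, hx'⟩) hg
  have h2 : (ξ ∣_ U) ⟨x, hx'⟩ = ⟨t, ht⟩ :=
    Subtype.ext ((morphismRestrict_base_coe ξ U ⟨x, hx'⟩).trans hx)
  exact h1.trans (congrArg g h2)

/-- Above the locus, `f` factors through `ξ`. -/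
theorem exists_fac {X S Y : Scheme.{u}} (ξ : X ⟶ S) (hc : IsClosedMap ξ) [Surjective ξ]
    (hb : ∀ V : S.Opens, IsIso (ξ.app V)) (f : X ⟶ Y) (h : ∀ s, s ∈ locus ξ f) :
    ∃ r : S ⟶ Y, ξ ≫ r = f := by
  refine exists_fac_of_locally ξ hc (fun V => ConcreteCategory.bijective_of_isIso (ξ.app V)) f
    fun s => ?_
  obtain ⟨y, hy⟩ := h s
  exact K449.Rigid.exists_open_of_fibre ξ hc hb f s y hy

/-- The restriction of a morphism with `O_S = ξ_* O_X` to an open has the same property. -/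
theorem isIso_restrict_app {X S : Scheme.{u}} (ξ : X ⟶ S) (hb : ∀ V : S.Opens, IsIso (ξ.app V))
    (U : S.Opens) (V : U.toScheme.Opens) : IsIso ((ξ ∣_ U).app V) := by
  rw [morphismRestrict_app]
  have h0 := hb (U.ι ''ᵁ V)
  refine @IsIso.comp_isIso _ _ _ _ _ _ _ h0 ?_
  exact Functor.map_isIso _ _

/-- Above an open contained in the locus, `f` factors through `ξ`. -/
theorem exists_fac_over {X S Y : Scheme.{u}} (ξ : X ⟶ S) (hc : IsClosedMap ξ) [Surjective ξ]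
    (hb : ∀ V : S.Opens, IsIso (ξ.app V)) (f : X ⟶ Y) (U : S.Opens)
    (h : ∀ s ∈ U, s ∈ locus ξ f) :
    ∃ r : U.toScheme ⟶ Y, (ξ ∣_ U) ≫ r = (ξ ⁻¹ᵁ U).ι ≫ f := by
  have hsurj : Surjective (ξ ∣_ U) := IsZariskiLocalAtTarget.restrict ‹_› U
  refine exists_fac (ξ ∣_ U) ?_ (isIso_restrict_app ξ hb U) ((ξ ⁻¹ᵁ U).ι ≫ f) fun s => ?_
  · rw [morphismRestrict_base]
    exact hc.restrictPreimage U.1
  · obtain ⟨y, hy⟩ := h s.1 s.2
    refine ⟨y, fun x hx => hy x.1 ?_⟩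
    rw [← hx]
    exact (morphismRestrict_base_coe ξ U x).symm

end K451.Collapse
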