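import Groth.Agent.AbSch.K451.Collapse
import Groth.Agent.Grpsch.CubePush

/-!
# The collapsed locus is closed

`ξ : X ⟶ S` proper and flat with geometrically integral fibres, `f : X ⟶ Y` with `Y` separated
over `S`: the set of points of `S` over which `f` is constant is open and closed.
-/

set_option autoImplicit false
universe u

open CategoryTheory Limits AlgebraicGeometry

namespace K451.Collapse

theorem isClosed_locus {X S Y : Scheme.{u}} (ξ : X ⟶ S) (hc : IsClosedMap ξ)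
    [UniversallyOpen ξ] [Surjective ξ] (hb : ∀ V : S.Opens, IsIso (ξ.app V)) (f : X ⟶ Y)
    (v : Y ⟶ S) [IsSeparated v] (hf : f ≫ v = ξ) : IsClosed (locus ξ f) := by
  obtain ⟨E', i, hi, hcond, hlift⟩ := K449.Rigid.exists_equalizer v (pullback.fst ξ ξ ≫ f)
    (pullback.snd ξ ξ ≫ f) (by rw [Category.assoc, Category.assoc, hf, pullback.condition])
  let E : Set ↥(pullback ξ ξ) := Set.range i
  let p : pullback ξ ξ ⟶ S := pullback.fst ξ ξ ≫ ξ
  have hp : IsOpenMap p := p.isOpenMap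
  have hEc : IsClosed E := i.isClosedEmbedding.isClosed_range
  suffices h : locus ξ f = (p '' Eᶜ)ᶜ by
    rw [h]
    exact (hp _ hEc.isOpen_compl).isClosed_compl
  ext s
  constructor
  · rintro hs ⟨z, hz, hzs⟩
    refine hz ?_
    let U : S.Opens := ⟨locus ξ f, isOpen_locus ξ hc hb f⟩
    obtain ⟨r, hr⟩ := exists_fac_over ξ hc hb f U fun s hs => hs
    let W : (pullback ξ ξ).Opens := pullback.fst ξ ξ ⁻¹ᵁ ξ ⁻¹ᵁ U
    have hle : W ≤ pullback.snd ξ ξ ⁻¹ᵁ ξ ⁻¹ᵁ U := by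
      change pullback.fst ξ ξ ⁻¹ᵁ ξ ⁻¹ᵁ U ≤ pullback.snd ξ ξ ⁻¹ᵁ ξ ⁻¹ᵁ U
      rw [← Scheme.Hom.comp_preimage, ← Scheme.Hom.comp_preimage, pullback.condition]
    have h1 : (pullback.fst ξ ξ).resLE (ξ ⁻¹ᵁ U) W le_rfl ≫ ξ ∣_ U =
        (pullback.snd ξ ξ).resLE (ξ ⁻¹ᵁ U) W hle ≫ ξ ∣_ U := by
      rw [← cancel_mono U.ι, Category.assoc, Category.assoc, morphismRestrict_ι,
        Scheme.Hom.resLE_comp_ι_assoc, Scheme.Hom.resLE_comp_ι_assoc, pullback.condition]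
    obtain ⟨u, hu⟩ := hlift _ W.ι (by
      rw [← Scheme.Hom.resLE_comp_ι_assoc (pullback.fst ξ ξ) (le_refl W),
        ← Scheme.Hom.resLE_comp_ι_assoc (pullback.snd ξ ξ) hle, ← hr, reassoc_of% h1])
    have hzW : z ∈ W := by
      change p z ∈ U
      rw [hzs]
      exact hs
    refine ⟨u ⟨z, hzW⟩, ?_⟩
    rw [← Scheme.Hom.comp_apply, hu]
    rfl
  · intro hs
    obtain ⟨x₀, hx₀⟩ := ξ.surjective s
    refine ⟨f x₀, fun x hx => ?_⟩
    obtain ⟨z, hz1, hz2⟩ := Scheme.Pullback.exists_preimage_pullback (f := ξ) (g := ξ) x x₀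
      (hx.trans hx₀.symm)
    have hz : z ∈ E := by
      by_contra hz
      refine hs ⟨z, hz, ?_⟩
      change ξ (pullback.fst ξ ξ z) = s
      rw [hz1, hx]
    obtain ⟨w, rfl⟩ := hz
    have h1 := congrArg (fun φ => φ w) hcond
    rw [← hz1, ← hz2]
    exact h1

end K451.Collapse
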