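import Groth.Agent.AbSch.K451.TopForm
import Groth.Agent.FormalA.AnnIdeal
import Groth.Agent.VarietyB.PullSec
import Groth.Agent.Krr.H490.PBFun
import Groth.Agent.Ega3B.DevQC

/-!
# Quasi-coherent modules locally generated by one section

* `exists_cyc_of_fiber`: a coherent module whose fibres are generated by one element is locally generated by one section.
* `isInvertible_pullback_ann`: then its restriction to the closed subscheme defined by its annihilator is invertible.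
-/

set_option autoImplicit false
universe u
open CategoryTheory CategoryTheory.Limits AlgebraicGeometry TensorProduct

namespace K451.CycSheaf

open Groth.Agent

variable {X Y : Scheme.{u}}

/-- The section `e` generates `Γ(M, U)`. -/
def Cyc (M : X.Modules) (U : X.Opens) (e : Γ(M, U)) : Prop := ∀ x : Γ(M, U), ∃ a : Γ(X, U), a • e = x

theorem Cyc.iso {M N : X.Modules} (i : M ≅ N) {U : X.Opens} {e : Γ(M, U)} (h : Cyc M U e) : Cyc N U (i.hom.app U e) := by
  intro z
  obtain ⟨a, ha⟩ := h (i.inv.app U z)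
  refine ⟨a, ?_⟩
  have h1 : i.hom.app U (a • e) = a • i.hom.app U e := Scheme.Modules.Hom.app_smul i.hom a e
  rw [← h1, ha]
  have h2 : (i.inv ≫ i.hom).app U = 𝟙 _ := by rw [i.inv_hom_id]; rfl
  exact congr($h2 z)

theorem Cyc.basicOpen {M : X.Modules} (hM : Coh.IsQCoh M) {U : X.Opens} (hU : IsAffineOpen U) {e : Γ(M, U)} {f : Γ(X, U)}
    (h : ∀ x : Γ(M, U), ∃ a : Γ(X, U), f • x = a • e) :
    Cyc M (X.basicOpen f) (M.presheaf.map (homOfLE (X.basicOpen_le f)).op e) := by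
  intro t
  obtain ⟨n, s, hs⟩ := Fdesc.QCohStalk.exists_map_eq_pow_smul M hU hM f t
  obtain ⟨a, ha⟩ := h s
  have hu : IsUnit (X.presheaf.map (homOfLE (X.basicOpen_le f)).op f) :=
    RingedSpace.isUnit_res_basicOpen _ f
  obtain ⟨b, hb⟩ := (hu.pow (n + 1)).exists_left_inv
  refine ⟨b * X.presheaf.map (homOfLE (X.basicOpen_le f)).op a, ?_⟩
  rw [mul_smul, ← Fdesc.QCohStalk.map_smul', ← ha, Fdesc.QCohStalk.map_smul', hs, smul_smul, smul_smul,
    mul_assoc, ← pow_succ', hb, one_smul]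

/-- Sections of a pullback as a base change. -/
theorem exists_bc (g : Y ⟶ X) {M : X.Modules} {U : X.Opens} {V : Y.Opens} (e : V ≤ g ⁻¹ᵁ U)
    (hM : Coh.IsQCoh M) (hU : IsAffineOpen U) (hV : IsAffineOpen V) :
    letI : Algebra Γ(X, U) Γ(Y, V) := (g.appLE U V e).hom.toAlgebra
    ∃ s : Γ(M, U) →ₛₗ[algebraMap Γ(X, U) Γ(Y, V)] Γ((Scheme.Modules.pullback g).obj M, V),
      Function.Bijective (VarietyB.BCAlg.bc s) ∧ ∀ m, s m = VarietyB.PullSec.sec g M e m := by
  let j1 : Algebra Γ(X, U) Γ(Y, V) := (g.appLE U V e).hom.toAlgebra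
  let j2 := VarietyB.PullSec.secModule g M e
  have j3 : IsScalarTower Γ(X, U) Γ(Y, V) Γ((Scheme.Modules.pullback g).obj M, V) :=
      ⟨fun a b c => by rw [Algebra.smul_def, mul_smul]; rfl⟩
  have h := VarietyB.PullSec.isBaseChange_secₗ g M e hM hU hV
  let s : Γ(M, U) →ₛₗ[algebraMap Γ(X, U) Γ(Y, V)] Γ((Scheme.Modules.pullback g).obj M, V) :=
    { toFun := VarietyB.PullSec.sec g M e
      map_add' := map_add _
      map_smul' := VarietyB.PullSec.sec_smul g M e }
  exact ⟨s, (VarietyB.BCAlg.isBaseChange_iff (VarietyB.PullSec.secₗ g M e) s (fun _ => rfl)).1 h, fun _ => rfl⟩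

/-- A generator of a fibre gives a generator near the point. -/
theorem exists_of_fiber (g : Y ⟶ X) {M : X.Modules} {U : X.Opens} {V : Y.Opens} (e : V ≤ g ⁻¹ᵁ U)
    (hM : Coh.IsQCoh M) (hU : IsAffineOpen U) (hV : IsAffineOpen V) (hK : IsField Γ(Y, V)) [Module.Finite Γ(X, U) Γ(M, U)]
    {w : Γ((Scheme.Modules.pullback g).obj M, V)} (hw : Cyc _ V w) :
    ∃ (m : Γ(M, U)) (f : Γ(X, U)), g.appLE U V e f ≠ 0 ∧ ∀ x : Γ(M, U), ∃ a : Γ(X, U), f • x = a • m := by
  obtain ⟨s, h2, -⟩ := exists_bc g e hM hU hV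
  let _ := hK.toField
  let _ : Algebra Γ(X, U) Γ(Y, V) := (g.appLE U V e).hom.toAlgebra
  obtain ⟨w', hw'⟩ := h2.2 w
  obtain ⟨m, f, hf, hm⟩ := K451.CycNak.exists_of_gen (R := Γ(X, U)) (K := Γ(Y, V)) (M := Γ(M, U)) w' (fun z => by
    obtain ⟨a, ha⟩ := hw (VarietyB.BCAlg.bc s z)
    refine ⟨a, h2.1 ?_⟩
    rw [map_smul, hw', ha])
  exact ⟨m, f, hf, hm⟩

/-- A free generator stays one after pullback. -/
theorem bijective_pull (g : Y ⟶ X) {M : X.Modules} {U : X.Opens} {V : Y.Opens} (e : V ≤ g ⁻¹ᵁ U)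
    (hM : Coh.IsQCoh M) (hU : IsAffineOpen U) (hV : IsAffineOpen V) {w : Γ(M, U)}
    (hw : Function.Bijective (fun a : Γ(X, U) => a • w)) :
    Function.Bijective (fun a : Γ(Y, V) => a • VarietyB.PullSec.sec g M e w) := by
  obtain ⟨s, h2, hs⟩ := exists_bc g e hM hU hV
  let _ : Algebra Γ(X, U) Γ(Y, V) := (g.appLE U V e).hom.toAlgebra
  let i : Γ(X, U) ≃ₗ[Γ(X, U)] Γ(M, U) := LinearEquiv.ofBijective (LinearMap.toSpanSingleton Γ(X, U) Γ(M, U) w) hw
  let t : Γ(Y, V) ≃ₗ[Γ(Y, V)] Γ(Y, V) ⊗[Γ(X, U)] Γ(M, U) :=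
    (TensorProduct.AlgebraTensorModule.rid Γ(X, U) Γ(Y, V) Γ(Y, V)).symm ≪≫ₗ
      TensorProduct.AlgebraTensorModule.congr (LinearEquiv.refl Γ(Y, V) Γ(Y, V)) i
  have h3 : (fun a : Γ(Y, V) => a • VarietyB.PullSec.sec g M e w) = (VarietyB.BCAlg.bc s) ∘ t := by
    funext a
    change _ = VarietyB.BCAlg.bc s (a ⊗ₜ[Γ(X, U)] ((1 : Γ(X, U)) • w))
    rw [VarietyB.BCAlg.bc_tmul, one_smul, hs]
  rw [h3]
  exact h2.comp t.bijective

/-- On an affine scheme a quasi-coherent module with a free generator is free. -/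
theorem nonempty_iso_of_bijective [IsAffine X] {N : X.Modules} (hN : Coh.IsQCoh N) {w : Γ(N, ⊤)}
    (hw : Function.Bijective (fun a : Γ(X, ⊤) => a • w)) : Nonempty (Coh.structureModule X ≅ N) := by
  have hO : Coh.IsQCoh (Coh.structureModule X) := Ega2.QCohLocal.isQCoh_of_isInvertible (TopO.isInvertible_structureModule X)
  let s : Γ(Coh.structureModule X, ⊤) →ₗ[Γ(X, ⊤)] Γ(N, ⊤) := LinearMap.toSpanSingleton Γ(X, ⊤) Γ(N, ⊤) w
  obtain ⟨φ, hφ⟩ := Groth.Agent.Desc.ModSec.exists_hom_top (N := N) hO s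
  have h4 : IsIso φ := by
    apply Groth.Agent.Desc.ModSec.isIso_of_bijective_top hO hN
    have : ⇑(φ.app ⊤).hom = s := funext hφ
    change Function.Bijective (φ.app ⊤).hom
    rw [this]
    exact hw
  exact ⟨asIso φ⟩

/-- A quasi-coherent module with local free generators is invertible. -/
theorem isInvertible_of_gen {M : X.Modules} (hM : Coh.IsQCoh M)
    (h : ∀ x : X, ∃ (U : X.Opens) (w : Γ(M, U)), x ∈ U ∧ IsAffineOpen U ∧ Function.Bijective (fun a : Γ(X, U) => a • w)) :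
    PicF.IsInvertible M := by
  choose U w hx hU hw using h
  refine Krr.H490.PBFun.isInvertible_of_cover (fun x => (U x).ι) (fun x => ⟨x, ⟨x, hx x⟩, rfl⟩) fun x => ?_
  have hUa : IsAffine (U x : Scheme.{u}) := hU x
  have h1 := bijective_pull (U x).ι (U := U x) (V := ⊤) (by simp) hM (hU x) (isAffineOpen_top _) (hw x)
  obtain ⟨i⟩ := nonempty_iso_of_bijective (VarietyB.PullSec.isQCoh_pullback _ M hM) h1
  exact Krr.H490.PBFun.isInvertible_of_iso i Fdesc.LocGen.isInvertible_structureModule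

/-- A module with one-generated fibres is locally generated by one section. -/
theorem exists_cyc_of_fiber {M : X.Modules} (hM : Coh.IsCoh M) (x : X)
    (h : ∃ w : Γ((Scheme.Modules.pullback (X.fromSpecResidueField x)).obj M, ⊤), Cyc _ ⊤ w) :
    ∃ (U : X.Opens) (e : Γ(M, U)), x ∈ U ∧ IsAffineOpen U ∧ Cyc M U e := by
  obtain ⟨w, hw⟩ := h
  obtain ⟨U, hU, hx, -⟩ := exists_isAffineOpen_mem_and_subset (x := x) (U := ⊤) trivial
  have hfin : Module.Finite Γ(X, U) Γ(M, U) := Ega3B.DevQC.finite_sections hM hU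
  let g := X.fromSpecResidueField x
  have hle : ⊤ ≤ g ⁻¹ᵁ U := by
    intro z _
    have : g z = x := Scheme.fromSpecResidueField_apply x z
    change g z ∈ U
    rw [this]
    exact hx
  have hK : IsField Γ(Spec (X.residueField x), ⊤) :=
    MulEquiv.isField (Field.toIsField (X.residueField x)) (Scheme.ΓSpecIso (X.residueField x)).commRingCatIsoToRingEquiv.toMulEquiv
  obtain ⟨m, f, hf, hm⟩ := exists_of_fiber g hle hM.1 hU (isAffineOpen_top _) hK hw
  refine ⟨X.basicOpen f, _, ?_, hU.basicOpen f, Cyc.basicOpen hM.1 hU hm⟩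
  have h1 : IsUnit (g.appLE U ⊤ hle f) := by
    obtain ⟨b, hb⟩ := hK.mul_inv_cancel hf
    exact IsUnit.of_mul_eq_one b hb
  have h2 := Scheme.basicOpen_appLE g ⊤ U hle f
  rw [Scheme.basicOpen_of_isUnit _ h1] at h2
  obtain ⟨pt⟩ : Nonempty (Spec (X.residueField x)) := inferInstance
  have h3 : pt ∈ (⊤ : (Spec (X.residueField x)).Opens) ⊓ g ⁻¹ᵁ X.basicOpen f := by
    rw [← h2]; trivial
  have h4 : g pt ∈ X.basicOpen f := h3.2
  rwa [Scheme.fromSpecResidueField_apply] at h4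

/-- The restriction of a locally one-generated module to its annihilator scheme is invertible. -/
theorem isInvertible_pullback_ann {M : X.Modules} (hq : Coh.IsQCoh M) (hft : CohB1.IsFT M)
    (h : ∀ x : X, ∃ (U : X.Opens) (e : Γ(M, U)), x ∈ U ∧ IsAffineOpen U ∧ Cyc M U e) :
    PicF.IsInvertible ((Scheme.Modules.pullback (FormalA.AnnIdeal.annIdeal M hq hft).subschemeι).obj M) := by
  let i := (FormalA.AnnIdeal.annIdeal M hq hft).subschemeι
  let κ := FormalA.AnnIdeal.pushPullIso M hq hft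
  refine isInvertible_of_gen (VarietyB.PullSec.isQCoh_pullback _ M hq) fun z => ?_
  obtain ⟨U, e, hx, hU, he⟩ := h (i z)
  have he' : Cyc _ U (κ.inv.app U e) := he.iso κ.symm
  refine ⟨i ⁻¹ᵁ U, κ.inv.app U e, hx, hU.preimage i, ?_⟩
  have hsurj : Function.Surjective (i.app U) := i.app_surjective U hU
  constructor
  · intro a b hab
    obtain ⟨a', rfl⟩ := hsurj a
    obtain ⟨b', rfl⟩ := hsurj b
    rw [← sub_eq_zero, ← map_sub]
    have h1 : (a' - b') • (κ.inv.app U e) = 0 := by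
      rw [sub_smul, sub_eq_zero]
      exact hab
    have h2 : κ.inv.app U ((a' - b') • e) = 0 := (Scheme.Modules.Hom.app_smul κ.inv _ e).trans h1
    have h3 : (a' - b') • e = 0 := by
      have h4 := congrArg (κ.hom.app U) h2
      have h5 : (κ.inv ≫ κ.hom).app U = 𝟙 _ := by rw [κ.inv_hom_id]; rfl
      rw [map_zero] at h4
      exact (congr($h5 _)).symm.trans h4
    have h6 : a' - b' ∈ (FormalA.AnnIdeal.annIdeal M hq hft).ideal ⟨U, hU⟩ := by
      change a' - b' ∈ FormalA.AnnIdeal.ann M U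
      rw [FormalA.AnnIdeal.mem_ann]
      intro m
      obtain ⟨c, rfl⟩ := he m
      rw [smul_comm, h3, smul_zero]
    rw [← Scheme.IdealSheafData.ker_subschemeι (FormalA.AnnIdeal.annIdeal M hq hft), Scheme.Hom.ker_apply] at h6
    exact h6
  · intro m
    obtain ⟨a, ha⟩ := he' m
    exact ⟨i.app U a, ha⟩

/-- If `t^*M` is invertible, then `t` factors through the annihilator scheme of `M`. -/
theorem exists_lift_ann {M : X.Modules} (hq : Coh.IsQCoh M) (hft : CohB1.IsFT M) (t : Y ⟶ X)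
    (ht : PicF.IsInvertible ((Scheme.Modules.pullback t).obj M)) :
    ∃ u : Y ⟶ (FormalA.AnnIdeal.annIdeal M hq hft).subscheme,
      u ≫ (FormalA.AnnIdeal.annIdeal M hq hft).subschemeι = t := by
  have key : (FormalA.AnnIdeal.annIdeal M hq hft) ≤ t.ker := by
    rw [Scheme.Hom.ker, Scheme.IdealSheafData.le_ofIdeals_iff]
    intro U f hf
    rw [RingHom.mem_ker]
    have hf' : ∀ m : Γ(M, U.1), f • m = 0 := FormalA.AnnIdeal.mem_ann M |>.1 hf
    have loc : ∀ z : (t ⁻¹ᵁ U.1 : Y.Opens), ∃ W : Y.Opens, z.1 ∈ W ∧ ∃ h : W ≤ t ⁻¹ᵁ U.1, t.appLE U.1 W h f = 0 := by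
      intro z
      obtain ⟨W₀, e, hz, he⟩ := (Fdesc.LocGen.isInvertible_iff _).1 ht z.1
      obtain ⟨W, hW, hzW, hle⟩ := exists_isAffineOpen_mem_and_subset (x := z.1) (U := W₀ ⊓ t ⁻¹ᵁ U.1) ⟨hz, z.2⟩
      have h : W ≤ t ⁻¹ᵁ U.1 := fun a ha => (hle ha).2
      refine ⟨W, hzW, h, ?_⟩
      obtain ⟨s, h2, hs⟩ := exists_bc t h hq U.2 hW
      have h3 : ∀ x : Γ((Scheme.Modules.pullback t).obj M, W), t.appLE U.1 W h f • x = 0 := by
        intro x
        let _ : Algebra Γ(X, U.1) Γ(Y, W) := (t.appLE U.1 W h).hom.toAlgebra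
        obtain ⟨x', rfl⟩ := h2.2 x
        rw [← map_smul]
        induction x' using TensorProduct.induction_on with
        | zero => rw [smul_zero, map_zero]
        | tmul b m =>
          have h4 : t.appLE U.1 W h f • (b ⊗ₜ[Γ(X, U.1)] m) = b ⊗ₜ[Γ(X, U.1)] (f • m) := by
            rw [← TensorProduct.smul_tmul, TensorProduct.smul_tmul', Algebra.smul_def]
            rfl
          rw [h4, hf', TensorProduct.tmul_zero, map_zero]
        | add x y hx hy => rw [smul_add, map_add, hx, hy, add_zero]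
      have h5 := he W (fun a ha => (hle ha).1)
      apply h5.1
      change t.appLE U.1 W h f • _ = (0 : Γ(Y, W)) • _
      rw [h3, zero_smul]
    choose W hzW hW h0 using loc
    refine TopCat.Sheaf.eq_of_locally_eq' Y.sheaf W (t ⁻¹ᵁ U.1) (fun z => homOfLE (hW z)) ?_ _ _ fun z => ?_
    · intro a ha
      exact TopologicalSpace.Opens.mem_iSup.2 ⟨⟨a, ha⟩, hzW ⟨a, ha⟩⟩
    · refine (h0 z).trans ?_
      exact (map_zero (Y.presheaf.map (homOfLE (hW z)).op).hom).symm
  exact ⟨IsClosedImmersion.lift _ t (by rw [Scheme.IdealSheafData.ker_subschemeι]; exact key),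
    IsClosedImmersion.lift_fac _ _ _⟩

end K451.CycSheaf
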