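import Groth.Agent.AbSch.K451.TopO
import Groth.Agent.Dual.H379.TensBound
import Groth.Agent.AbVar.K512.FMPull
import Groth.Agent.PerfC.RHomPush

/-!
# Invertible objects of `D(O_Y)` and truncations

* `nonempty_inD_tensor`: `L[0] ⊗ K ≅ K ⊗^L L` for `L` invertible.
* `nonempty_inD_inv`: `L[0] ⊗ L'[0] ≅ O` when `L ⊗ L' ≅ O`.
* `isEquivalence_of_inv`: tensoring with an invertible object is an equivalence.
* `nonempty_iso_of_homEquiv`: a form of Yoneda's lemma.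
* `bijective_precomp`, `bijective_postcomp`.
-/

set_option autoImplicit false
universe u
open CategoryTheory CategoryTheory.Limits AlgebraicGeometry MonoidalCategory Pretriangulated
attribute [local instance] HasDerivedCategory.standard
open scoped Groth.Agent.Dcoh.MonCat Groth.Agent.Dcoh.ModD

namespace K451.DInv

open Groth.Agent K353.OnSub K353.Calc Groth.Agent.Dcoh K451.TopO

section Cat

/-- A form of Yoneda's lemma. -/
theorem nonempty_iso_of_homEquiv {C : Type*} [Category C] (Z : C → Prop) {P R : C} (hP : Z P) (hR : Z R)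
    (e : ∀ K, Z K → ((K ⟶ P) ≃ (K ⟶ R)))
    (he : ∀ (K K' : C) (hK : Z K) (hK' : Z K') (a : K ⟶ K') (b : K' ⟶ P), e K hK (a ≫ b) = a ≫ e K' hK' b) :
    Nonempty (P ≅ R) := by
  let φ : P ⟶ R := e P hP (𝟙 P)
  have hφ : ∀ (K : C) (hK : Z K) (b : K ⟶ P), e K hK b = b ≫ φ := fun K hK b => by
    rw [← he K P hK hP b (𝟙 P), Category.comp_id]
  let ψ : R ⟶ P := (e R hR).symm (𝟙 R)
  have h1 : ψ ≫ φ = 𝟙 R := by rw [← hφ R hR, Equiv.apply_symm_apply]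
  have h2 : φ ≫ ψ = 𝟙 P := by
    apply (e P hP).injective
    rw [hφ, hφ, Category.assoc, h1, Category.comp_id, Category.id_comp]
  exact ⟨⟨φ, ψ, h2, h1⟩⟩

variable {C : Type*} [Category C] [HasZeroObject C] [HasShift C ℤ] [Preadditive C]
  [∀ n : ℤ, (shiftFunctor C n).Additive] [Pretriangulated C]

theorem bijective_precomp {A B Q : C} {f : A ⟶ B} {g : B ⟶ Q} {h : Q ⟶ A⟦(1 : ℤ)⟧}
    (hT : Triangle.mk f g h ∈ distTriang C) (Z : C) (h1 : ∀ x : A ⟶ Z, x = 0) (h2 : ∀ x : A⟦(1 : ℤ)⟧ ⟶ Z, x = 0) :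
    Function.Bijective (fun τ : Q ⟶ Z => g ≫ τ) := by
  constructor
  · intro τ τ' hττ
    rw [← sub_eq_zero]
    obtain ⟨u, hu⟩ := Triangle.yoneda_exact₃ _ hT (τ - τ') (by
      change g ≫ (τ - τ') = 0
      rw [Preadditive.comp_sub, sub_eq_zero]
      exact hττ)
    rw [hu]
    change h ≫ u = 0
    rw [h2 u, comp_zero]
  · intro σ
    obtain ⟨u, hu⟩ := Triangle.yoneda_exact₂ _ hT σ (h1 _)
    exact ⟨u, hu.symm⟩

theorem bijective_postcomp {A B Q : C} {f : A ⟶ B} {g : B ⟶ Q} {h : Q ⟶ A⟦(1 : ℤ)⟧}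
    (hT : Triangle.mk f g h ∈ distTriang C) (K : C) (h1 : ∀ x : K ⟶ Q, x = 0) (h2 : ∀ x : K ⟶ Q⟦(-1 : ℤ)⟧, x = 0) :
    Function.Bijective (fun τ : K ⟶ A => τ ≫ f) := by
  constructor
  · intro τ τ' hττ
    rw [← sub_eq_zero]
    obtain ⟨u, hu⟩ := Triangle.coyoneda_exact₂ _ (inv_rot_of_distTriang _ hT) (τ - τ') (by
      change (τ - τ') ≫ f = 0
      rw [Preadditive.sub_comp, sub_eq_zero]
      exact hττ)
    rw [hu, h2 u]
    exact zero_comp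
  · intro σ
    obtain ⟨u, hu⟩ := Triangle.coyoneda_exact₂ _ hT σ (h1 _)
    exact ⟨u, hu.symm⟩

end Cat

variable {Y : Scheme.{u}}

/-- `L[0] ⊗ K ≅ K ⊗^L L`. -/
theorem nonempty_inD_tensor (L : Y.Modules) [DCoh.HasLTensorMod L] (K : DCoh.D Y) :
    Nonempty (DCoh.inD Y L ⊗ K ≅ (DCoh.LTensorMod L).obj K) := by
  obtain ⟨P, hP, ⟨e⟩⟩ := PerfA.TensDev.exists_rep K
  have h1 := ModTens.hasLTensorCx P
  obtain ⟨e1⟩ := PerfC.RHomPush.nonempty_inD_iso L hP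
  obtain ⟨e2⟩ := ltensorCx P
  obtain ⟨e3⟩ := tensorRight_congr e
  exact ⟨(e3.app _).symm ≪≫ (e2.app _).symm ≪≫ e1 ≪≫ (DCoh.LTensorMod L).mapIso e⟩

theorem nonempty_inD_mul {L M : Y.Modules} (hL : PicF.IsInvertible L) (hM : PicF.IsInvertible M) :
    Nonempty (DCoh.inD Y M ⊗ DCoh.inD Y L ≅ DCoh.inD Y (CohB1.tensorMod L M)) := by
  have := PerfB.TensInv.hasLTensorMod_of_isInvertible hM
  obtain ⟨e⟩ := nonempty_inD_tensor M (DCoh.inD Y L)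
  exact ⟨e ≪≫ K512.FMPull.tensInD hL hM⟩

theorem nonempty_inD_inv {L M : Y.Modules} (hL : PicF.IsInvertible L) (hM : PicF.IsInvertible M)
    (e : CohB1.tensorMod L M ≅ Coh.structureModule Y) :
    Nonempty (DCoh.inD Y M ⊗ DCoh.inD Y L ≅ 𝟙_ (DCoh.D Y)) := by
  obtain ⟨i⟩ := nonempty_inD_mul hL hM
  exact ⟨i ≪≫ K512.FMPull.inDIso e ≪≫ DualX.unitIso Y⟩

theorem isEquivalence_of_inv {P Q : DCoh.D Y} (e : P ⊗ Q ≅ 𝟙_ (DCoh.D Y)) (e' : Q ⊗ P ≅ 𝟙_ (DCoh.D Y)) :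
    (tensorRight Q).IsEquivalence := by
  have h : ∀ {A B : DCoh.D Y}, (A ⊗ B ≅ 𝟙_ (DCoh.D Y)) → (tensorRight A ⋙ tensorRight B ≅ 𝟭 (DCoh.D Y)) :=
    fun {A B} i => (tensorRightTensor A B).symm ≪≫ (tensoringRight (DCoh.D Y)).mapIso i ≪≫
      NatIso.ofComponents (fun Z => ρ_ Z) (fun f => rightUnitor_naturality f)
  exact (CategoryTheory.Equivalence.mk (tensorRight Q) (tensorRight P) (h e').symm (h e)).isEquivalence_functor

theorem nonempty_braid (A B : DCoh.D Y) : Nonempty (A ⊗ B ≅ B ⊗ A) := by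
  obtain ⟨e⟩ := braid B
  exact ⟨e.app A⟩

/-- `L[g] ⊗ M[-g] ≅ O`. -/
theorem nonempty_shift_inv {L M : Y.Modules} (hL : PicF.IsInvertible L) (hM : PicF.IsInvertible M)
    (e : CohB1.tensorMod L M ≅ Coh.structureModule Y) (g g' : ℤ) (hg : g' + g = 0) :
    Nonempty ((DCoh.inD Y M)⟦g⟧ ⊗ (DCoh.inD Y L)⟦g'⟧ ≅ 𝟙_ (DCoh.D Y)) := by
  obtain ⟨e1⟩ := nonempty_inD_inv hL hM e
  obtain ⟨e2⟩ := nonempty_tensor_shift (DCoh.inD Y M) ((DCoh.inD Y L)⟦g'⟧) g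
  obtain ⟨e3⟩ := nonempty_braid (DCoh.inD Y M) ((DCoh.inD Y L)⟦g'⟧)
  obtain ⟨e4⟩ := nonempty_tensor_shift (DCoh.inD Y L) (DCoh.inD Y M) g'
  obtain ⟨e5⟩ := nonempty_braid (DCoh.inD Y L) (DCoh.inD Y M)
  exact ⟨e2.symm ≪≫ (shiftFunctor _ g).mapIso (e3 ≪≫ e4.symm) ≪≫ (shiftFunctorCompIsoId (DCoh.D Y) g' g hg).app _ ≪≫ e5 ≪≫ e1⟩

end K451.DInv
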