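import Mathlib.AlgebraicGeometry.Morphisms.Finite
import Mathlib.RingTheory.IntegralClosure.IntegrallyClosed
import Mathlib.FieldTheory.IntermediateField.Adjoin.Basic

/-!
# Points of finite schemes over a ring

* `finite_pts`: a finite scheme over `Spec R` has finitely many points over a field-valued point.
* `exists_section`: over a normal domain, a point with values in the fraction field of a finite
  scheme extends to a section.
-/

set_option autoImplicit false
universe u

open CategoryTheory Limits AlgebraicGeometry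

namespace K451.FinPts

/-- A finite scheme over `Spec R` is the spectrum of a finite `R`-algebra. -/
theorem exists_iso {R : Type u} [CommRing R] {P : Scheme.{u}} (q : P ⟶ Spec (CommRingCat.of R))
    [IsFinite q] : ∃ (B : Type u) (_ : CommRing B) (_ : Algebra R B) (_ : Module.Finite R B)
      (e : P ≅ Spec (CommRingCat.of B)),
      e.hom ≫ Spec.map (CommRingCat.ofHom (algebraMap R B)) = q := by
  have : IsAffine P := isAffine_of_isAffineHom q
  obtain ⟨φ, hφ⟩ := Spec.map_surjective (P.isoSpec.inv ≫ q)
  let _ : Algebra R Γ(P, ⊤) := φ.hom.toAlgebra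
  have h1 : IsFinite (Spec.map φ) := by rw [hφ]; infer_instance
  have h2 : φ.hom.Finite := (IsFinite.SpecMap_iff φ).mp h1
  refine ⟨Γ(P, ⊤), inferInstance, inferInstance, h2, P.isoSpec, ?_⟩
  change P.isoSpec.hom ≫ Spec.map φ = q
  rw [hφ, Iso.hom_inv_id_assoc]

theorem finite_pts {R : Type u} [CommRing R] {P : Scheme.{u}} (q : P ⟶ Spec (CommRingCat.of R))
    [IsFinite q] (k : Type u) [Field k] [Algebra R k] :
    Finite {z : Spec (CommRingCat.of k) ⟶ P //
      z ≫ q = Spec.map (CommRingCat.ofHom (algebraMap R k))} := by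
  obtain ⟨B, _, _, _, e, he⟩ := exists_iso q
  have key : ∀ z : {z : Spec (CommRingCat.of k) ⟶ P //
      z ≫ q = Spec.map (CommRingCat.ofHom (algebraMap R k))},
      ∃ φ : B →ₐ[R] k, z.1 ≫ e.hom = Spec.map (CommRingCat.ofHom (φ : B →+* k)) := by
    rintro ⟨z, hz⟩
    obtain ⟨ψ, hψ⟩ := Spec.map_surjective (z ≫ e.hom)
    have h1 : Spec.map ψ ≫ Spec.map (CommRingCat.ofHom (algebraMap R B)) =
        Spec.map (CommRingCat.ofHom (algebraMap R k)) := by
      rw [hψ, Category.assoc, he, hz]
    rw [← Spec.map_comp] at h1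
    have h2 := congrArg CommRingCat.Hom.hom (Spec.map_injective h1)
    refine ⟨{ ψ.hom with commutes' := fun r => congrArg (fun f : R →+* k => f r) h2 }, ?_⟩
    rw [← hψ]
    rfl
  choose Φ hΦ using key
  refine Finite.of_injective Φ fun z z' h => ?_
  refine Subtype.ext ?_
  rw [← cancel_mono e.hom, hΦ z, hΦ z', h]

theorem exists_section {R K : Type u} [CommRing R] [IsDomain R] [IsIntegrallyClosed R] [Field K]
    [Algebra R K] [IsFractionRing R K] {P : Scheme.{u}} (q : P ⟶ Spec (CommRingCat.of R))
    [IsFinite q] (z : Spec (CommRingCat.of K) ⟶ P)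
    (hz : z ≫ q = Spec.map (CommRingCat.ofHom (algebraMap R K))) :
    ∃ a : Spec (CommRingCat.of R) ⟶ P, a ≫ q = 𝟙 _ ∧
      Spec.map (CommRingCat.ofHom (algebraMap R K)) ≫ a = z := by
  obtain ⟨B, _, _, _, e, he⟩ := exists_iso q
  obtain ⟨ψ, hψ⟩ := Spec.map_surjective (z ≫ e.hom)
  have h1 : Spec.map ψ ≫ Spec.map (CommRingCat.ofHom (algebraMap R B)) =
      Spec.map (CommRingCat.ofHom (algebraMap R K)) := by
    rw [hψ, Category.assoc, he, hz]
  rw [← Spec.map_comp] at h1
  have h2 : ∀ r : R, ψ.hom (algebraMap R B r) = algebraMap R K r := fun r =>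
    congrArg (fun f : R →+* K => f r) (congrArg CommRingCat.Hom.hom (Spec.map_injective h1))
  let ψ' : B →ₐ[R] K := { ψ.hom with commutes' := h2 }
  have h3 : ∀ b : B, ∃ r : R, algebraMap R K r = ψ.hom b := fun b => by
    have hb : IsIntegral R b := Algebra.IsIntegral.isIntegral b
    exact IsIntegrallyClosed.isIntegral_iff.mp (hb.map ψ')
  have hinj : Function.Injective (algebraMap R K) := IsFractionRing.injective R K
  choose θ hθ using h3
  let θ' : B →+* R :=
    { toFun := θ
      map_one' := hinj (by rw [hθ, map_one, map_one])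
      map_mul' := fun a b => hinj (by rw [hθ, map_mul, map_mul, hθ, hθ])
      map_zero' := hinj (by rw [hθ, map_zero, map_zero])
      map_add' := fun a b => hinj (by rw [hθ, map_add, map_add, hθ, hθ]) }
  have hθ1 : θ'.comp (algebraMap R B) = RingHom.id R := by
    ext r
    exact hinj ((hθ _).trans (h2 r))
  have hθ2 : (algebraMap R K).comp θ' = ψ.hom := by
    ext b
    exact hθ b
  refine ⟨Spec.map (CommRingCat.ofHom θ') ≫ e.inv, ?_, ?_⟩
  · rw [← he, Category.assoc, Iso.inv_hom_id_assoc, ← Spec.map_comp, ← CommRingCat.ofHom_comp,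
      hθ1]
    exact Spec.map_id _
  · rw [← cancel_mono e.hom, Category.assoc, Category.assoc, Iso.inv_hom_id, Category.comp_id,
      ← Spec.map_comp, ← CommRingCat.ofHom_comp, hθ2, ← hψ]
    rfl

end K451.FinPts
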