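import Mathlib.AlgebraicGeometry.ZariskisMainTheorem
import Mathlib.AlgebraicGeometry.Morphisms.QuasiFinite
import Mathlib.AlgebraicGeometry.Morphisms.Proper
import Mathlib.AlgebraicGeometry.AlgClosed.Basic
import Mathlib.FieldTheory.IsAlgClosed.AlgebraicClosure
import Mathlib.AlgebraicGeometry.Morphisms.FiniteType

/-!
# Proper morphisms with finitely many geometric points in the fibres are finite
-/

set_option autoImplicit false
universe u
open CategoryTheory CategoryTheory.Limits AlgebraicGeometry

namespace K451.GeomFin

/-- A scheme of finite type over an algebraically closed field with finitely many rational points is finite. -/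
theorem finite_of_pts {k : Type u} [Field k] [IsAlgClosed k] {W : Scheme.{u}} (π : W ⟶ Spec (CommRingCat.of k))
    [LocallyOfFiniteType π] (h : Finite {p : Spec (CommRingCat.of k) ⟶ W // p ≫ π = 𝟙 _}) : Finite W := by
  have hJ : JacobsonSpace W := LocallyOfFiniteType.jacobsonSpace π
  have h1 : (closedPoints W).Finite := by
    have : Finite (closedPoints W) := Finite.of_equiv _ (pointEquivClosedPoint π)
    exact Set.toFinite _
  have h2 : IsClosed (closedPoints W) := by
    rw [← Set.biUnion_of_singleton (closedPoints W)]
    exact h1.isClosed_biUnion fun x hx => hx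
  have h3 : closedPoints W = Set.univ := by
    rw [← h2.closure_eq]
    exact closure_closedPoints
  rw [h3] at h1
  exact Set.finite_univ_iff.1 h1

theorem isFinite_of_geom {V S : Scheme.{u}} (h : V ⟶ S) [IsProper h]
    (H : ∀ (k : Type u) [Field k] [IsAlgClosed k] (t : Spec (CommRingCat.of k) ⟶ S),
      Finite {v : Spec (CommRingCat.of k) ⟶ V // v ≫ h = t}) : IsFinite h := by
  have h1 : LocallyQuasiFinite h := by
    refine LocallyQuasiFinite.of_finite_preimage_singleton h fun s => ?_
    let k := AlgebraicClosure (S.residueField s)
    let t : Spec (CommRingCat.of k) ⟶ S :=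
      Spec.map (CommRingCat.ofHom (algebraMap (S.residueField s) k)) ≫ S.fromSpecResidueField s
    have h2 : Finite (pullback h t : Scheme.{u}) := by
      refine finite_of_pts (pullback.snd h t) ?_
      have := H k t
      refine Finite.of_injective (β := {v : Spec (CommRingCat.of k) ⟶ V // v ≫ h = t})
        (fun p => ⟨p.1 ≫ pullback.fst h t, by rw [Category.assoc, pullback.condition, reassoc_of% p.2]⟩) ?_
      intro p q hpq
      apply Subtype.ext
      apply pullback.hom_ext
      · exact congrArg Subtype.val hpq
      · rw [p.2, q.2]
    have h3 : (h ⁻¹' {s}) ⊆ Set.range (pullback.fst h t) := by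
      intro v hv
      have h4 : v ∈ Set.range (pullback.fst h t) ↔ h v ∈ Set.range t := by
        rw [Scheme.Pullback.range_fst]
        rfl
      rw [h4]
      obtain ⟨x⟩ : Nonempty (Spec (CommRingCat.of k)) := inferInstance
      refine ⟨x, ?_⟩
      rw [show h v = s from hv]
      change S.fromSpecResidueField s _ = s
      exact Scheme.fromSpecResidueField_apply _ _
    exact (Set.finite_range _).subset h3
  exact IsFinite.of_isProper_of_locallyQuasiFinite h

end K451.GeomFin
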