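import Mathlib.RingTheory.HopfAlgebra.Basic
import Mathlib.LinearAlgebra.Matrix.ToLin
import Mathlib.LinearAlgebra.TensorProduct.Basis
import Mathlib.LinearAlgebra.Matrix.NonsingularInverse
import Mathlib.RingTheory.TensorProduct.Basic
import Mathlib.RingTheory.Bialgebra.Basic
import Mathlib.Tactic

/-!
# Integrals in finite free commutative Hopf algebras

An element `ε` of a commutative Hopf algebra `H` with `h ε = ϵ(h) ε` for all `h`, which is a coordinate of some linear
form (`φ ε = 1`), has a perfect comultiplication: the matrix of `Δ(ε)` in a basis is invertible.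
-/

set_option autoImplicit false

open TensorProduct Coalgebra

namespace K451.HopfInt

variable {R H : Type*} [CommRing R] [CommRing H] [HopfAlgebra R H]

variable (R H) in
/-- `x ⊗ y ↦ S(x) y`. -/
noncomputable def mulS : H ⊗[R] H →ₗ[R] H :=
  LinearMap.mul' R H ∘ₗ (HopfAlgebra.antipode R).rTensor H

variable (R H) in
/-- `x ⊗ y ↦ (S(x) ⊗ 1) Δ(y)`. -/
noncomputable def phi : H ⊗[R] H →ₗ[R] H ⊗[R] H :=
  (mulS R H).rTensor H ∘ₗ (TensorProduct.assoc R H H H).symm.toLinearMap ∘ₗ comul.lTensor H

theorem phi_tmul (x y : H) : phi R H (x ⊗ₜ y) = (HopfAlgebra.antipode R x ⊗ₜ[R] (1 : H)) * comul y := by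
  have key : ∀ z : H ⊗[R] H, (mulS R H).rTensor H ((TensorProduct.assoc R H H H).symm (x ⊗ₜ z)) =
      (HopfAlgebra.antipode R x ⊗ₜ[R] (1 : H)) * z := by
    intro z
    induction z with
    | zero => simp
    | tmul a b => simp [mulS]
    | add a b ha hb => rw [TensorProduct.tmul_add, map_add, map_add, ha, hb, mul_add]
  exact key _

theorem phi_comul (h : H) : phi R H (comul h) = (1 : H) ⊗ₜ[R] h := by
  have h1 : phi R H (comul h) = (mulS R H).rTensor H (comul.rTensor H (comul h)) := by
    rw [← coassoc_symm_apply]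
    rfl
  have h2 : (mulS R H) ∘ₗ comul = Algebra.linearMap R H ∘ₗ counit := by
    rw [mulS, LinearMap.comp_assoc]
    exact HopfAlgebra.mul_antipode_rTensor_comul
  rw [h1, ← LinearMap.comp_apply, ← LinearMap.rTensor_comp, h2, LinearMap.rTensor_comp, LinearMap.comp_apply,
    rTensor_counit_comul]
  simp

/-- `ε` is an integral. -/
def IsInt (R : Type*) {H : Type*} [CommRing R] [CommRing H] [HopfAlgebra R H] (ε : H) : Prop :=
  ∀ h : H, h * ε = algebraMap R H (counit (R := R) h) * ε

/-- `(1 ⊗ h) Δ(ε) = (S(h) ⊗ 1) Δ(ε)`. -/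
theorem IsInt.comul_mul {ε : H} (hε : IsInt R ε) (h : H) :
    ((1 : H) ⊗ₜ[R] h) * comul (R := R) ε = (HopfAlgebra.antipode R h ⊗ₜ[R] (1 : H)) * comul ε := by
  have key : ∀ z : H ⊗[R] H, phi R H z * comul (R := R) ε =
      (HopfAlgebra.antipode R (TensorProduct.rid R H (counit.lTensor H z)) ⊗ₜ[R] (1 : H)) * comul ε := by
    intro z
    induction z with
    | zero => simp
    | tmul x y =>
      rw [phi_tmul, mul_assoc, ← Bialgebra.comul_mul, hε y, Bialgebra.comul_mul, Bialgebra.comul_algebraMap]
      simp only [LinearMap.lTensor_tmul, TensorProduct.rid_tmul, map_smul]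
      rw [← mul_assoc]
      congr 1
      rw [Algebra.TensorProduct.algebraMap_apply, Algebra.TensorProduct.tmul_mul_tmul, mul_one, mul_comm,
        ← Algebra.smul_def]
    | add a b ha hb => rw [map_add, add_mul, ha, hb, map_add, map_add, map_add, TensorProduct.add_tmul, add_mul]
  have h1 := key (comul h)
  rw [phi_comul, lTensor_counit_comul] at h1
  simpa using h1

/-- Contraction of the first factor of `Δ(ε)` with a linear form. -/
noncomputable def psi (ε : H) (φ : H →ₗ[R] R) : H := TensorProduct.lid R H (φ.rTensor H (comul ε))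

theorem psi_mul {ε : H} (hε : IsInt R ε) (φ : H →ₗ[R] R) (h : H) :
    h * psi ε φ = psi ε (φ ∘ₗ LinearMap.mulLeft R (HopfAlgebra.antipode R h)) := by
  have h1 : ∀ z : H ⊗[R] H, h * TensorProduct.lid R H (φ.rTensor H z) =
      TensorProduct.lid R H (φ.rTensor H (((1 : H) ⊗ₜ[R] h) * z)) := by
    intro z
    induction z with
    | zero => simp
    | tmul a b => simp
    | add a b ha hb => simp only [map_add, mul_add, ha, hb]
  have h2 : ∀ z : H ⊗[R] H, TensorProduct.lid R H ((φ ∘ₗ LinearMap.mulLeft R (HopfAlgebra.antipode R h)).rTensor H z) =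
      TensorProduct.lid R H (φ.rTensor H ((HopfAlgebra.antipode R h ⊗ₜ[R] (1 : H)) * z)) := by
    intro z
    induction z with
    | zero => simp
    | tmul a b => simp
    | add a b ha hb => simp only [map_add, mul_add, ha, hb]
  rw [psi, psi, h1, h2, hε.comul_mul]

/-- `x ↦ ∑ φ(x₁) S(x₂)`. -/
noncomputable def theta (φ : H →ₗ[R] R) : H →ₗ[R] H :=
  (TensorProduct.lid R H).toLinearMap ∘ₗ TensorProduct.map φ (HopfAlgebra.antipode R) ∘ₗ comul

theorem mul_theta (φ : H →ₗ[R] R) (h : H) :
    LinearMap.mul' R H ((theta φ).rTensor H (comul h)) = algebraMap R H (φ h) := by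
  have h1 : ∀ z : (H ⊗[R] H) ⊗[R] H,
      LinearMap.mul' R H (((TensorProduct.lid R H).toLinearMap ∘ₗ
        TensorProduct.map φ (HopfAlgebra.antipode R)).rTensor H z) =
      TensorProduct.lid R H (TensorProduct.map φ (mulS R H) (TensorProduct.assoc R H H H z)) := by
    intro z
    induction z with
    | zero => simp
    | tmul x c =>
      induction x with
      | zero => simp
      | tmul a b => simp [mulS]
      | add a b ha hb =>
        rw [TensorProduct.add_tmul]
        simp only [map_add, ha, hb]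
    | add a b ha hb => simp only [map_add, ha, hb]
  have h2 : (theta φ).rTensor H (comul h) = ((TensorProduct.lid R H).toLinearMap ∘ₗ
        TensorProduct.map φ (HopfAlgebra.antipode R)).rTensor H (comul.rTensor H (comul h)) := by
    rw [theta, ← LinearMap.comp_assoc, LinearMap.rTensor_comp]
    rfl
  have h4 : ∀ z : H ⊗[R] H, TensorProduct.map φ (mulS R H) (comul.lTensor H z) =
      TensorProduct.map φ ((mulS R H) ∘ₗ comul) z := by
    intro z
    induction z with
    | zero => simp
    | tmul a b => simp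
    | add a b ha hb => simp only [map_add, ha, hb]
  have h5 : ∀ z : H ⊗[R] H, TensorProduct.map φ (Algebra.linearMap R H ∘ₗ counit) z =
      TensorProduct.map φ (Algebra.linearMap R H) (counit.lTensor H z) := by
    intro z
    induction z with
    | zero => simp
    | tmul a b => simp
    | add a b ha hb => simp only [map_add, ha, hb]
  rw [h2, h1, coassoc_apply, h4]
  have h3 : (mulS R H) ∘ₗ comul = Algebra.linearMap R H ∘ₗ counit := by
    rw [mulS, LinearMap.comp_assoc]
    exact HopfAlgebra.mul_antipode_rTensor_comul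
  rw [h3, h5, lTensor_counit_comul]
  simp [Algebra.smul_def]

variable {ι : Type*} [Fintype ι] (b : Module.Basis ι R H)

include b in
theorem psi_surjective {ε : H} (hε : IsInt R ε) (φ : H →ₗ[R] R) (hφ : φ ε = 1) (h : H) :
    ∃ χ : H →ₗ[R] R, psi ε χ = h := by
  have h1 : (1 : H) = ∑ j, b j * psi ε (b.coord j ∘ₗ theta φ) := by
    have h2 : ∀ z : H ⊗[R] H, LinearMap.mul' R H ((theta φ).rTensor H z) =
        ∑ j, b j * TensorProduct.lid R H ((b.coord j ∘ₗ theta φ).rTensor H z) := by
      intro z
      induction z with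
      | zero => simp
      | tmul x y =>
        conv_lhs => rw [LinearMap.rTensor_tmul, ← b.sum_repr (theta φ x), LinearMap.mul'_apply]
        rw [Finset.sum_mul]
        refine Finset.sum_congr rfl fun j _ => ?_
        simp
      | add a c ha hc => simp only [map_add, ha, hc, mul_add, Finset.sum_add_distrib]
    have h3 := mul_theta φ ε
    rw [hφ, map_one, h2] at h3
    exact h3.symm
  have h4 : ∀ j, ∃ χ : H →ₗ[R] R, psi ε χ = b j * psi ε (b.coord j ∘ₗ theta φ) := fun j => ⟨_, (psi_mul hε _ _).symm⟩
  choose χ hχ using h4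
  have h5 : psi ε (∑ j, χ j) = 1 := by
    rw [h1]
    have : ∀ z : H ⊗[R] H, TensorProduct.lid R H ((∑ j, χ j).rTensor H z) =
        ∑ j, TensorProduct.lid R H ((χ j).rTensor H z) := by
      intro z
      induction z with
      | zero => simp
      | tmul x y => simp [Finset.sum_smul]
      | add x y hx hy => simp only [map_add, hx, hy, Finset.sum_add_distrib]
    rw [psi, this]
    exact Finset.sum_congr rfl fun j _ => hχ j
  refine ⟨(∑ j, χ j) ∘ₗ LinearMap.mulLeft R (HopfAlgebra.antipode R h), ?_⟩
  rw [← psi_mul hε, h5, mul_one]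

/-- **The matrix of `Δ(ε)` is invertible.** -/
theorem isUnit_det [DecidableEq ι] {ε : H} (hε : IsInt R ε) (φ : H →ₗ[R] R) (hφ : φ ε = 1) (D : Matrix ι ι R)
    (hD : comul (R := R) ε = ∑ k, ∑ l, D k l • (b k ⊗ₜ[R] b l)) : IsUnit D.det := by
  rw [← Matrix.isUnit_iff_isUnit_det, ← Matrix.vecMul_surjective_iff_isUnit]
  intro w
  obtain ⟨χ, hχ⟩ := psi_surjective b hε φ hφ (∑ l, w l • b l)
  refine ⟨fun k => χ (b k), ?_⟩
  have h1 : psi ε χ = ∑ l, (Matrix.vecMul (fun k => χ (b k)) D) l • b l := by
    rw [psi, hD]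
    simp only [map_sum, map_smul, LinearMap.rTensor_tmul, TensorProduct.lid_tmul, Matrix.vecMul, dotProduct]
    rw [Finset.sum_comm]
    refine Finset.sum_congr rfl fun l _ => ?_
    rw [Finset.sum_smul]
    refine Finset.sum_congr rfl fun k _ => ?_
    rw [smul_smul, mul_comm]
  rw [h1] at hχ
  ext l
  have := congrArg (fun x => b.repr x l) hχ
  simpa [Finsupp.single_apply] using this

end K451.HopfInt
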