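import Groth.Agent.AbSch.K451.HopfInt
import Mathlib.LinearAlgebra.Trace
import Mathlib.RingTheory.LocalRing.Basic

/-!
# Existence of integrals by traces

`E(x) = (Tr ⊗ id)(z ↦ Δ(z x))` is an integral for every `x`, and the trace of `S ∘ E` is `1`.
-/

set_option autoImplicit false

open TensorProduct Coalgebra

namespace K451.HopfTr

open K451.HopfInt

variable {R H : Type*} [CommRing R] [CommRing H] [HopfAlgebra R H]
variable {ι : Type*} [Fintype ι] (b : Module.Basis ι R H)

/-- The partial trace of a linear map `H → H ⊗ H` over the first factor. -/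
noncomputable def PT (F : H →ₗ[R] H ⊗[R] H) : H := ∑ j, TensorProduct.lid R H ((b.coord j).rTensor H (F (b j)))

theorem lid_rTensor_sum (z : H ⊗[R] H) (f : ι → H →ₗ[R] R) :
    TensorProduct.lid R H ((∑ j, f j).rTensor H z) = ∑ j, TensorProduct.lid R H ((f j).rTensor H z) := by
  induction z with
  | zero => simp
  | tmul x y => simp [Finset.sum_smul]
  | add x y hx hy => simp only [map_add, hx, hy, Finset.sum_add_distrib]

theorem lid_rTensor_smul (z : H ⊗[R] H) (r : R) (f : H →ₗ[R] R) :
    TensorProduct.lid R H ((r • f).rTensor H z) = r • TensorProduct.lid R H (f.rTensor H z) := by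
  induction z with
  | zero => simp
  | tmul x y => simp [SemigroupAction.mul_smul]
  | add x y hx hy => simp only [map_add, hx, hy, smul_add]

theorem PT_comp (F : H →ₗ[R] H ⊗[R] H) (a : H →ₗ[R] H) : PT b (a.rTensor H ∘ₗ F) = PT b (F ∘ₗ a) := by
  have h1 : ∀ j, TensorProduct.lid R H ((b.coord j).rTensor H ((a.rTensor H ∘ₗ F) (b j))) =
      ∑ k, b.repr (a (b k)) j • TensorProduct.lid R H ((b.coord k).rTensor H (F (b j))) := by
    intro j
    have h2 : b.coord j ∘ₗ a = ∑ k, b.repr (a (b k)) j • b.coord k := by
      refine b.ext fun l => ?_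
      rw [LinearMap.comp_apply, Module.Basis.coord_apply, LinearMap.sum_apply, Finset.sum_eq_single l]
      · simp
      · intro k _ hk
        rw [LinearMap.smul_apply, Module.Basis.coord_apply, Module.Basis.repr_self, Finsupp.single_eq_of_ne hk, smul_zero]
      · simp
    rw [LinearMap.comp_apply, ← LinearMap.comp_apply, ← LinearMap.rTensor_comp, h2, lid_rTensor_sum]
    exact Finset.sum_congr rfl fun k _ => lid_rTensor_smul _ _ _
  have h3 : ∀ k, TensorProduct.lid R H ((b.coord k).rTensor H ((F ∘ₗ a) (b k))) =
      ∑ j, b.repr (a (b k)) j • TensorProduct.lid R H ((b.coord k).rTensor H (F (b j))) := by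
    intro k
    rw [LinearMap.comp_apply]
    conv_lhs => rw [← b.sum_repr (a (b k))]
    simp only [map_sum, map_smul]
  rw [PT, PT, Finset.sum_congr rfl fun j _ => h1 j, Finset.sum_congr rfl fun k _ => h3 k, Finset.sum_comm]

/-- The integrals. -/
noncomputable def E (x : H) : H := PT b (comul ∘ₗ LinearMap.mulRight R x)

theorem mul_PT (h : H) (F : H →ₗ[R] H ⊗[R] H) :
    h * PT b F = PT b (LinearMap.mulLeft R ((1 : H) ⊗ₜ[R] h) ∘ₗ F) := by
  have h1 : ∀ (φ : H →ₗ[R] R) (z : H ⊗[R] H), h * TensorProduct.lid R H (φ.rTensor H z) =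
      TensorProduct.lid R H (φ.rTensor H (((1 : H) ⊗ₜ[R] h) * z)) := by
    intro φ z
    induction z with
    | zero => simp
    | tmul a b => simp
    | add a b ha hb => simp only [map_add, mul_add, ha, hb]
  rw [PT, PT, Finset.mul_sum]
  exact Finset.sum_congr rfl fun j _ => h1 _ _

theorem PT_add (F G : H →ₗ[R] H ⊗[R] H) : PT b (F + G) = PT b F + PT b G := by
  simp only [PT, LinearMap.add_apply, map_add, Finset.sum_add_distrib]

/-- **`E(x)` is an integral.** -/
theorem isInt_E (x : H) : IsInt R (E b x) := by
  intro h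
  have key : ∀ z : H ⊗[R] H, PT b (LinearMap.mulLeft R (phi R H z) ∘ₗ comul ∘ₗ LinearMap.mulRight R x) =
      E b (mulS R H z * x) := by
    intro z
    induction z with
    | zero =>
      simp [E, PT]
    | tmul p q =>
      have h1 : LinearMap.mulLeft R (phi R H (p ⊗ₜ q)) ∘ₗ comul ∘ₗ LinearMap.mulRight R x =
          (LinearMap.mulLeft R (HopfAlgebra.antipode R p)).rTensor H ∘ₗ (comul ∘ₗ LinearMap.mulRight R (q * x)) := by
        ext y
        simp only [LinearMap.comp_apply, LinearMap.mulLeft_apply, LinearMap.mulRight_apply, phi_tmul]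
        rw [mul_assoc, ← Bialgebra.comul_mul, show q * (y * x) = y * (q * x) by ring]
        generalize comul (R := R) (y * (q * x)) = w
        induction w with
        | zero => simp
        | tmul c d => simp
        | add c d hc hd => rw [mul_add, hc, hd, map_add]
      rw [h1, PT_comp, E]
      congr 1
      ext y
      simp only [LinearMap.comp_apply, LinearMap.mulLeft_apply, LinearMap.mulRight_apply]
      congr 1
      simp only [mulS, LinearMap.comp_apply, LinearMap.rTensor_tmul, LinearMap.mul'_apply]
      ring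
    | add z w hz hw =>
      have h1 : LinearMap.mulLeft R (phi R H (z + w)) ∘ₗ comul ∘ₗ LinearMap.mulRight R x =
          LinearMap.mulLeft R (phi R H z) ∘ₗ comul ∘ₗ LinearMap.mulRight R x +
          LinearMap.mulLeft R (phi R H w) ∘ₗ comul ∘ₗ LinearMap.mulRight R x := by
        ext y
        simp [add_mul]
      rw [h1, PT_add, hz, hw, E, E, E, ← PT_add]
      congr 1
      ext y
      simp [mul_add, add_mul, mul_assoc]
  have h2 := key (comul h)
  rw [phi_comul, ← mul_PT] at h2
  rw [E, h2]
  have h3 : mulS R H (comul h) = algebraMap R H (counit (R := R) h) := by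
    have := HopfAlgebra.mul_antipode_rTensor_comul (R := R) (A := H)
    exact congrArg (fun t => t h) this
  rw [h3, E]
  simp only [PT, Finset.mul_sum, LinearMap.comp_apply, LinearMap.mulRight_apply]
  refine Finset.sum_congr rfl fun j _ => ?_
  rw [← Algebra.smul_def, ← Algebra.smul_def, mul_smul_comm, map_smul, map_smul, map_smul]

theorem E_add (x y : H) : E b (x + y) = E b x + E b y := by
  rw [E, E, E, ← PT_add]
  congr 1
  ext z
  simp [mul_add]

theorem E_smul (r : R) (x : H) : E b (r • x) = r • E b x := by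
  simp only [E, PT, LinearMap.comp_apply, LinearMap.mulRight_apply, mul_smul_comm, map_smul, Finset.smul_sum]

/-- `E` as a linear map. -/
noncomputable def El : H →ₗ[R] H where
  toFun := E b
  map_add' := E_add b
  map_smul' := E_smul b

/-- **The trace of `S ∘ E` is `1`.** -/
theorem trace_E : ∑ k, b.coord k (HopfAlgebra.antipode R (E b (b k))) = 1 := by
  classical
  let f : H →ₗ[R] H ⊗[R] H := (HopfAlgebra.antipode R).lTensor H ∘ₗ comul
  let g : H ⊗[R] H →ₗ[R] H := LinearMap.mul' R H
  have h1 : g ∘ₗ f = Algebra.linearMap R H ∘ₗ counit := by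
    rw [← HopfAlgebra.mul_antipode_lTensor_comul]
  have := Module.Free.of_basis b
  have := Module.Finite.of_basis b
  have h2 : LinearMap.trace R H (g ∘ₗ f) = 1 := by
    rw [h1, LinearMap.trace_comp_comm']
    have : counit ∘ₗ Algebra.linearMap R H = LinearMap.id := by
      ext
      simp
    rw [this]
    nontriviality R
    simp
  rw [← LinearMap.trace_comp_comm', LinearMap.trace_eq_matrix_trace R (b.tensorProduct b), Matrix.trace] at h2
  rw [← h2, Fintype.sum_prod_type, Finset.sum_comm]
  refine Finset.sum_congr rfl fun k _ => ?_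
  have h3 : ∀ j, (LinearMap.toMatrix (b.tensorProduct b) (b.tensorProduct b) (f ∘ₗ g)).diag (j, k) =
      b.coord k (HopfAlgebra.antipode R (TensorProduct.lid R H ((b.coord j).rTensor H (comul (b j * b k))))) := by
    intro j
    rw [Matrix.diag_apply, LinearMap.toMatrix_apply, LinearMap.comp_apply, Module.Basis.tensorProduct_apply]
    change (b.tensorProduct b).repr ((HopfAlgebra.antipode R).lTensor H (comul (b j * b k))) (j, k) = _
    generalize comul (R := R) (b j * b k) = w
    induction w with
    | zero => simp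
    | tmul c d => simp [mul_comm]
    | add c d hc hd => simp only [map_add, Finsupp.add_apply, hc, hd]
  rw [Finset.sum_congr rfl fun j _ => h3 j, E, PT]
  simp only [map_sum, LinearMap.comp_apply, LinearMap.mulRight_apply]

include b in
/-- **Existence of a unimodular integral.** -/
theorem exists_int [IsLocalRing R] : ∃ (ε : H) (φ : H →ₗ[R] R), IsInt R ε ∧ φ ε = 1 := by
  have h1 := trace_E b
  obtain ⟨k, -, hk⟩ : ∃ k ∈ Finset.univ, IsUnit (b.coord k (HopfAlgebra.antipode R (E b (b k)))) := by
    by_contra hcon
    push Not at hcon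
    have h2 : (1 : R) ∈ IsLocalRing.maximalIdeal R := by
      rw [← h1]
      exact Ideal.sum_mem _ fun k hk => (IsLocalRing.mem_maximalIdeal _).2 (hcon k hk)
    exact (IsLocalRing.notMem_maximalIdeal.2 isUnit_one) h2
  obtain ⟨u, hu⟩ := hk
  refine ⟨E b (b k), (↑u⁻¹ : R) • (b.coord k ∘ₗ HopfAlgebra.antipode R), isInt_E b _, ?_⟩
  rw [LinearMap.smul_apply, LinearMap.comp_apply, ← hu, smul_eq_mul, Units.inv_mul]

end K451.HopfTr
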