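import Groth.Agent.Etdl.H429.FieldCase
import Groth.Agent.Lefpen.H717.ProjIrr
import Groth.Agent.CohqB.ProjBC
import Groth.Agent.S0023
import Groth.Agent.Grpsch.CubePush
import Mathlib.AlgebraicGeometry.Geometrically.Integral

/-!
# Projective space over a field: universal `f_* O = O`, vanishing `H¹`, geometric integrality
-/

set_option autoImplicit false
universe u

open CategoryTheory Limits AlgebraicGeometry MonoidalCategory CartesianMonoidalCategory
open Groth.Agent.Etdl.H429.Univ

namespace K451.ProjFib

theorem fibH1_projSpace (n : ℕ) (K : Type u) [CommRing K] :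
    FibH1 (CohB1.ProjSpace.toSpec n K) := by
  intro κ hκ g
  obtain ⟨φ, rfl⟩ := Spec.map_surjective g
  exact ⟨CohB1.ProjSpace n κ, Groth.Agent.CohqB.ProjBC.pmap φ.hom n,
    CohB1.ProjSpace.toSpec n κ, Groth.Agent.CohqB.ProjBC.isPullback_pmap φ.hom n,
    Groth.Agent.S0023.result n κ 1 one_pos⟩

instance geometricallyIntegral_projSpace (n : ℕ) (K : Type u) [CommRing K] :
    GeometricallyIntegral (CohB1.ProjSpace.toSpec n K) := by
  refine ⟨?_⟩
  intro κ _ g Z a b hZ
  obtain ⟨φ, rfl⟩ := Spec.map_surjective g
  have h := Groth.Agent.CohqB.ProjBC.isPullback_pmap φ.hom n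
  have h1 : IsIntegral (CohB1.ProjSpace n κ) := inferInstance
  have h2 : Nonempty Z := ⟨(h.isoIsPullback _ _ hZ).hom (Classical.arbitrary _)⟩
  exact isIntegral_of_isOpenImmersion (hZ.isoIsPullback _ _ h).hom

/-- Proper flat morphisms with geometrically integral fibres satisfy `f_* O = O` universally. -/
theorem univO {X S : Scheme.{u}} (f : X ⟶ S) [IsProper f] [Flat f]
    [LocallyOfFinitePresentation f] [GeometricallyIntegral f] : UnivO f := by
  intro T g V
  exact Groth.Agent.Grpsch.CubeData.isIso_app (pullback.snd f g) V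

/-- Morphisms from schemes with projective spaces as geometric fibres to group schemes are
constant on fibres. -/
theorem const_on_fibres {X S : Scheme.{u}} (f : X ⟶ S) [IsProper f] [Flat f]
    [LocallyOfFinitePresentation f]
    (hP : ∀ (K : Type u) [Field K] [IsAlgClosed K] (s : Spec (CommRingCat.of K) ⟶ S),
      ∃ (n : ℕ) (e : pullback f s ≅ CohB1.ProjSpace n K),
        e.hom ≫ CohB1.ProjSpace.toSpec n K = pullback.snd f s)
    (G : Over S) [GrpObj G] [LocallyOfFiniteType G.hom] [QuasiCompact G.hom]
    (φ : X ⟶ G.left) (hφ : φ ≫ G.hom = f) (x y : X) (hxy : f x = f y) : φ x = φ y := by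
  let K := AlgebraicClosure (S.residueField (f x))
  let b : Spec (CommRingCat.of K) ⟶ S :=
    Spec.map (CommRingCat.ofHom (algebraMap (S.residueField (f x)) K)) ≫ S.fromSpecResidueField (f x)
  have hb : ∀ z, b z = f x := fun z => by
    rw [Scheme.Hom.comp_apply, Scheme.fromSpecResidueField_apply]
  let G' := (Over.pullback b).obj G
  have hft : LocallyOfFiniteType G'.hom := by
    change LocallyOfFiniteType (Limits.pullback.snd G.hom b)
    infer_instance
  have hqc : QuasiCompact G'.hom := by
    change QuasiCompact (Limits.pullback.snd G.hom b)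
    infer_instance
  let _ : GrpObj G' := Functor.grpObjObj
  let X' : Over (Spec (CommRingCat.of K)) := Over.mk (pullback.snd f b)
  have hpr : IsProper X'.hom := by
    change IsProper (pullback.snd f b)
    infer_instance
  have hfl : Flat X'.hom := by
    change Flat (pullback.snd f b)
    infer_instance
  have hfp : LocallyOfFinitePresentation X'.hom := by
    change LocallyOfFinitePresentation (pullback.snd f b)
    infer_instance
  obtain ⟨n, e, he⟩ := hP K b
  have hsq : IsPullback e.hom X'.hom (CohB1.ProjSpace.toSpec n K) (𝟙 _) :=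
    IsPullback.of_horiz_isIso ⟨by rw [he, Category.comp_id]; rfl⟩
  have hgi : GeometricallyIntegral X'.hom := MorphismProperty.of_isPullback hsq inferInstance
  let ψ : X' ⟶ G' := Over.homMk (pullback.lift (pullback.fst f b ≫ φ) (pullback.snd f b) (by
    rw [Category.assoc, hφ, pullback.condition])) (pullback.lift_snd _ _ _)
  obtain ⟨c, hc⟩ := Groth.Agent.Etdl.H429.FieldCase.exists_const X' G' (univO X'.hom)
    ((fibH1_projSpace n K).baseChange hsq) ψ
  have key : pullback.fst f b ≫ φ = pullback.snd f b ≫ c.left ≫ pullback.fst G.hom b := by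
    have h1 : ψ.left ≫ pullback.fst G.hom b = pullback.fst f b ≫ φ := pullback.lift_fst _ _ _
    rw [← h1, hc]
    rfl
  let pt : Spec (CommRingCat.of K) := IsLocalRing.closedPoint K
  have hfib : ∀ z : X, f z = f x → φ z = (c.left ≫ pullback.fst G.hom b) pt := by
    intro z hz
    obtain ⟨w, hw1, hw2⟩ := Scheme.Pullback.exists_preimage_pullback z pt (f := f) (g := b)
      (by rw [hz, hb])
    rw [← hw1, ← Scheme.Hom.comp_apply, key, Scheme.Hom.comp_apply, hw2]
  rw [hfib x rfl, hfib y hxy.symm]

end K451.ProjFib
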