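import Groth.Agent.AbSch.K451.TopInv
import Groth.Agent.Models.GoodFact
import Groth.Agent.CycB.FiberStalk

/-!
# Regular sequences at closed points of the fibres of an abelian scheme
-/

set_option autoImplicit false
universe u
open CategoryTheory CategoryTheory.Limits AlgebraicGeometry

namespace K451.RegFib

open Groth.Agent K524.FinSupp RingTheory.Sequence

theorem hasReg_of_fiber {X S : Scheme.{u}} [IsLocallyNoetherian S] [IsLocallyNoetherian X] (f : X ⟶ S) [Flat f]
    (s : S) (z : f.fiber s) (g : ℕ) (h : HasReg ((f.fiber s).presheaf.stalk z) g) :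
    HasReg (X.presheaf.stalk (f.fiberι s z)) g := by
  obtain ⟨rs, hlen, hmem, hreg⟩ := h.of_equiv (CycB.FiberStalk.stalkEquiv f s z).symm
  let x := f.fiberι s z
  let mk := Ideal.Quotient.mk (CycB.FiberStalk.fibIdeal f x)
  obtain ⟨ws, hws⟩ : ∃ ws : List (X.presheaf.stalk x), ws.map mk = rs :=
    ⟨rs.map (Function.surjInv Ideal.Quotient.mk_surjective), by
      rw [List.map_map]
      conv_rhs => rw [← List.map_id rs]
      apply List.map_congr_left
      intro a _
      exact Function.surjInv_eq Ideal.Quotient.mk_surjective a⟩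
  let _ : Algebra (S.presheaf.stalk (f x)) (X.presheaf.stalk x) := (f.stalkMap x).hom.toAlgebra
  have i1 : IsLocalHom (algebraMap (S.presheaf.stalk (f x)) (X.presheaf.stalk x)) :=
    inferInstanceAs (IsLocalHom (f.stalkMap x).hom)
  have i2 : Module.Flat (S.presheaf.stalk (f x)) (X.presheaf.stalk x) := Flat.stalkMap f x
  have h1 : ∀ w ∈ ws, w ∈ IsLocalRing.maximalIdeal (X.presheaf.stalk x) := by
    intro w hw
    have h2 := hmem (mk w) (hws ▸ List.mem_map_of_mem hw)
    rw [IsLocalRing.mem_maximalIdeal, mem_nonunits_iff] at h2 ⊢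
    exact fun h3 => h2 (h3.map mk)
  subst hws
  have h2 := (Models.GoodFact.regular_of_fibre (A := S.presheaf.stalk (f x)) (Q := X.presheaf.stalk x) ws h1 hreg).1
  exact ⟨ws, by rwa [List.length_map] at hlen, h1, h2⟩

/-- Closed points of the fibres of an abelian scheme of relative dimension `g`. -/
theorem hasReg_abSch {Y : Scheme.{u}} [IsLocallyNoetherian Y] {X : Over Y} [GrpObj X] {g : ℕ} (hX : AgPol.IsAbSch X g)
    (y : Y) (z : X.hom.fiber y) (hz : IsClosed ({z} : Set (X.hom.fiber y))) :
    HasReg (X.left.presheaf.stalk (X.hom.fiberι y z)) g := by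
  have := hX.proper
  have := hX.smooth
  have hloc : IsLocallyNoetherian X.left := LocallyOfFiniteType.isLocallyNoetherian X.hom
  let A : Over (Spec (CommRingCat.of (Y.residueField y))) := (Over.pullback (Y.fromSpecResidueField y)).obj X
  have hA : AgPol.IsAbSch A g := TopInv.isAbSch_bc X hX _
  have := hA.smooth
  exact hasReg_of_fiber X.hom y z g (K524.Key.hasReg_stalk (k := Y.residueField y) A g (hX.fibreDim y) z hz)

end K451.RegFib
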