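import Groth.Agent.AbSch.K451.TopV

/-!
# The shear automorphism and the Mumford class
-/

set_option autoImplicit false
universe u
open CategoryTheory CategoryTheory.Limits AlgebraicGeometry MonoidalCategory CartesianMonoidalCategory MonObj

namespace K451.Shear

open Groth.Agent Groth.Agent.Grpsch.PicGrp K449.Cube K732.Prim K451.TopV K451.TopSide

variable {S : Scheme.{u}} {B : Over S} [GrpObj B] [IsCommMonObj B] {c : Pic B.left}

section

variable [IsProper B.hom] [Smooth B.hom] [GeometricallyIntegral B.hom]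

/-- The parallelogram law. -/
theorem parallelogram (h : pull (et B) c = 1) (hs : pl (𝟙 B ^ (-1 : ℤ)) c = c) {W : Over S} (x y : W ⟶ B) :
    pl (x * y) c * (pl x c)⁻¹ * (pl y c)⁻¹ * (pl y c)⁻¹ = pl x c * (pl (y * x⁻¹) c)⁻¹ := by
  have hinv : pl x⁻¹ c = pl x c := by
    have h3 : x⁻¹ = x ≫ (𝟙 B ^ (-1 : ℤ)) := by
      rw [zpow_neg_one, GrpObj.comp_inv, Category.comp_id]
    rw [h3, pl_comp, hs]
  have h1 := cube' c x y x⁻¹
  have hc : x * y * x⁻¹ = y := mul_inv_cancel_comm x y
  rw [hc, mul_inv_cancel, pl_one h, hinv] at h1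
  have h' := congrArg Additive.ofMul h1
  apply Additive.ofMul.injective
  simp only [ofMul_mul, ofMul_inv, ofMul_one] at h' ⊢
  linear_combination (norm := module) (-1 : ℤ) • h'

end

/-- The shear formula: `(x, y) ↦ (x, y - x)` on `A × B`. -/
theorem shear {A : Over S} {g : ℕ} (hB : AgPol.IsAbSch B g) (lam : A ⟶ B) (h : pull (et B) c = 1)
    (hs : pl (𝟙 B ^ (-1 : ℤ)) c = c) :
    pull ((fst A B ≫ lam) * snd A B).left c * (pull (fst A B ≫ lam).left c)⁻¹ * (pull (snd A B).left c)⁻¹ *
      (pull (snd A B).left c)⁻¹ =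
    pull (lift (fst A B) (snd A B * (fst A B ≫ lam)⁻¹)).left
      (pull (fst A B ≫ lam).left c * (pull (snd A B).left c)⁻¹) := by
  have := hB.proper
  have := hB.smooth
  have hgB : GeometricallyIntegral B.hom := K451.Prod.geometricallyIntegral_of_isAbSch hB
  have h1 := parallelogram h hs (fst A B ≫ lam) (snd A B)
  refine h1.trans ?_
  rw [map_mul, map_inv, ← pull_comp, ← pull_comp, ← Over.comp_left, ← Over.comp_left, lift_fst_assoc, lift_snd]

end K451.Shear
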