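import Groth.Agent.AbSch.K451.TopInv
import Groth.Agent.AbVar.K524.PicZeroVan
import Groth.Agent.AbSch.K449.Cube
import Groth.Agent.S0927
import Groth.Agent.S0033

/-!
# Classes with `μ^*c = p₁^*c p₂^*c` on an abelian scheme: base change and the translation isomorphism
-/

set_option autoImplicit false
universe u
open CategoryTheory CategoryTheory.Limits AlgebraicGeometry MonoidalCategory CartesianMonoidalCategory MonObj

namespace K451.TopDir

open Groth.Agent Groth.Agent.Grpsch.PicGrp K449.Cube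

variable {Y : Scheme.{u}} {X : Over Y} [GrpObj X]

/-- The condition `μ^*c = p₁^*c p₂^*c`. -/
def AddR (c : Pic X.left) : Prop := pl μ[X] c = pl (fst X X) c * pl (snd X X) c

theorem map_left_fst {T : Scheme.{u}} (j : T ⟶ Y) {A B : Over Y} (u : A ⟶ B) :
    ((Over.pullback j).map u).left ≫ pullback.fst B.hom j = pullback.fst A.hom j ≫ u.left :=
  pullback.lift_fst _ _ _

theorem AddR.bc {c : Pic X.left} (hc : AddR c) {T : Scheme.{u}} (j : T ⟶ Y) :
    AddR (X := (Over.pullback j).obj X) (pull (pullback.fst X.hom j) c) := by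
  let F := Over.pullback j
  have key : ∀ u : X ⊗ X ⟶ X, pl (Functor.LaxMonoidal.μ F X X ≫ F.map u) (pull (pullback.fst X.hom j) c) =
      pull ((Functor.LaxMonoidal.μ F X X).left ≫ pullback.fst (X ⊗ X).hom j) (pl u c) := by
    intro u
    rw [pl, pl, ← pull_comp, ← pull_comp, Over.comp_left, Category.assoc, Category.assoc]
    congr 2
    congr 1
    exact map_left_fst j u
  have h1 : (μ[F.obj X] : F.obj X ⊗ F.obj X ⟶ F.obj X) = Functor.LaxMonoidal.μ F X X ≫ F.map μ[X] := rfl
  have h2 : Functor.LaxMonoidal.μ F X X ≫ F.map (fst X X) = fst (F.obj X) (F.obj X) := Functor.Monoidal.μ_fst F X X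
  have h3 : Functor.LaxMonoidal.μ F X X ≫ F.map (snd X X) = snd (F.obj X) (F.obj X) := Functor.Monoidal.μ_snd F X X
  have k1 := key μ[X]
  have k2 := key (fst X X)
  have k3 := key (snd X X)
  rw [h2] at k2
  rw [h3] at k3
  change pl (Functor.LaxMonoidal.μ F X X ≫ F.map μ[X]) _ = _
  rw [k1, hc, map_mul, ← k2, ← k3]

theorem isPullback_tensor (A B : Over Y) : IsPullback (snd A B).left (fst A B).left B.hom A.hom :=
  (IsPullback.of_hasPullback A.hom B.hom).flip

/-- **Translation.** `f^* R^q f_* F = F ⊗ f^* R^q f_* F`. -/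
theorem nonempty_twist [Flat X.hom] [QuasiCompact X.hom] [QuasiSeparated X.hom] {F : X.left.Modules} (hF : PicF.IsInvertible F)
    (hc : AddR (mk F hF)) (q : ℕ) :
    Nonempty ((Scheme.Modules.pullback X.hom).obj ((Coh.Rpush X.hom q).obj F) ≅
      CohB1.tensorMod F ((Scheme.Modules.pullback X.hom).obj ((Coh.Rpush X.hom q).obj F))) := by
  have hq : Coh.IsQCoh F := Ega2.QCohLocal.isQCoh_of_isInvertible hF
  let p := (fst X X).left
  let r := (snd X X).left
  have hp : QuasiCompact p := MorphismProperty.of_isPullback (isPullback_tensor X X) inferInstance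
  have hp' : QuasiSeparated p := MorphismProperty.of_isPullback (isPullback_tensor X X) inferInstance
  let G := (Scheme.Modules.pullback r).obj F
  have hG : PicF.IsInvertible G := Fdesc.LocGen.isInvertible_pullback r hF
  have hGq : Coh.IsQCoh G := Ega2.QCohLocal.isQCoh_of_isInvertible hG
  obtain ⟨e1⟩ := Groth.Agent.S0033.result X.hom X.hom r p (isPullback_tensor X X) F q
  let σ := (K524.PicZeroVan.shear (𝟙 X)).hom.left
  have hσ : IsIso σ := inferInstanceAs (IsIso ((Over.forget Y).map (K524.PicZeroVan.shear (𝟙 X)).hom))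
  have hsq : IsPullback σ p p (𝟙 X.left) := by
    refine IsPullback.of_horiz_isIso ⟨?_⟩
    have h := congrArg (fun u => Over.Hom.left u) (K524.PicZeroVan.shear_hom_fst (𝟙 X))
    rw [Category.comp_id]
    exact h
  obtain ⟨e2⟩ := Groth.Agent.S0033.result p (𝟙 X.left) σ p hsq G q
  have h3 : mk ((Scheme.Modules.pullback σ).obj G) (Fdesc.LocGen.isInvertible_pullback σ hG) =
      mk (CohB1.tensorMod ((Scheme.Modules.pullback p).obj F) G) (Fdesc.LocGen.isInvertible_tensorMod (Fdesc.LocGen.isInvertible_pullback p hF) hG) := by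
    have h4 : pull σ (pull r (mk F hF)) = pull p (mk F hF) * pull r (mk F hF) := by
      have h5 := hc
      rw [AddR, show μ[X] = (K524.PicZeroVan.shear (𝟙 X)).hom ≫ snd X X by
        rw [K524.PicZeroVan.shear_hom_snd, Category.comp_id, K524.PicZeroVan.mu_eq], pl_comp] at h5
      exact h5
    exact h4
  obtain ⟨e3⟩ := (mk_eq_iff _ _).1 h3
  obtain ⟨e4⟩ := Groth.Agent.S0927.result p G F (K451.DetPic.isFinLocFree_of_rank (K451.DetPic.rank_one_iff.2 hF)) q
  exact ⟨e1 ≪≫ ((Scheme.Modules.pullbackId _).app _).symm ≪≫ e2 ≪≫ (Coh.Rpush p q).mapIso e3 ≪≫ e4.symm ≪≫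
    Ega2.Tens.mapTIso (Iso.refl F) e1.symm⟩

end K451.TopDir
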