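import Groth.Agent.AbSch.K451.TopO
import Groth.Agent.Sga67.SelfIntT

/-!
# Base change for the top direct image
-/

set_option autoImplicit false
universe u
open CategoryTheory CategoryTheory.Limits AlgebraicGeometry MonoidalCategory Pretriangulated
attribute [local instance] HasDerivedCategory.standard

namespace K451.TopBC

open Groth.Agent K353.OnSub K353.Calc Groth.Agent.Dcoh

variable {X Y : Scheme.{u}}

theorem nonempty_HD_lpull_inD (h : X ⟶ Y) [DCoh.HasLpull h] (G : Y.Modules) :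
    Nonempty (DCoh.HD ((DCoh.Lpull h).obj (DCoh.inD Y G)) 0 ≅ (Scheme.Modules.pullback h).obj G) := by
  let _ := Groth.Agent.Dcoh.DerPull.lpullCommShift h
  have := Groth.Agent.Dcoh.DerPull.lpull_isTriangulated h
  have h1 := Sga67.SelfIntT.isIso_aug0_app h G
  exact ⟨@asIso _ _ _ _ _ h1⟩

theorem nonempty_lpull_inD (h : X ⟶ Y) [DCoh.HasLpull h] (G : Y.Modules) (hG : FlatMod.IsFlat G) :
    Nonempty ((DCoh.Lpull h).obj (DCoh.inD Y G) ≅ DCoh.inD X ((Scheme.Modules.pullback h).obj G)) := by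
  have := Sga67.SelfIntT.isIso_aug_app h G hG
  exact ⟨asIso ((Sga67.SelfIntT.aug h).app G)⟩

theorem nonempty_lpull_shift (h : X ⟶ Y) [DCoh.HasLpull h] (A : DCoh.D Y) (n : ℤ) :
    Nonempty (((DCoh.Lpull h).obj A)⟦n⟧ ≅ (DCoh.Lpull h).obj (A⟦n⟧)) := by
  obtain ⟨_, _⟩ := Groth.Agent.PerfC.ProjAbs291.isTriang_Lpull h
  exact ⟨(((DCoh.Lpull h).commShiftIso n).app A).symm⟩

theorem isLE_lpull (h : X ⟶ Y) [DCoh.HasLpull h] (K : DCoh.D Y) (n : ℤ) [K.IsLE n] : ((DCoh.Lpull h).obj K).IsLE n :=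
  Groth.Agent.PerfC.RelFlatLpull.isLE_lpull (Groth.Agent.PerfB.PullData.pullData h) K n

/-- `H^g(Lh^* C) ≅ h^* H^g(C)` for `C` in degrees `≤ g`. -/
theorem nonempty_top_pull (h : X ⟶ Y) [DCoh.HasLpull h] (C : DCoh.D Y) (g : ℤ) [C.IsLE g] :
    Nonempty (DCoh.HD ((DCoh.Lpull h).obj C) g ≅ (Scheme.Modules.pullback h).obj (DCoh.HD C g)) := by
  obtain ⟨_, _⟩ := Groth.Agent.PerfC.ProjAbs291.isTriang_Lpull h
  obtain ⟨A, B, a, b, c, hT, hA, hB, h1, h2⟩ := Groth.Agent.LoccohB.DQCohBasic.exists_trunc C (g - 1)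
  have hBg : B.IsGE g := by rwa [sub_add_cancel] at hB
  have hBl : B.IsLE g := by
    rw [DerivedCategory.isLE_iff]
    intro i hi
    have h3 := h2 i (by omega)
    exact (DerivedCategory.isZero_of_isLE C g i hi).of_iso (asIso ((DerivedCategory.homologyFunctor Y.Modules i).map b)).symm
  have hT' := (DCoh.Lpull h).map_distinguished _ hT
  have h4 : IsIso ((DerivedCategory.homologyFunctor X.Modules g).map ((DCoh.Lpull h).map b)) := by
    have hA' : ((DCoh.Lpull h).obj A).IsLE (g - 1) := isLE_lpull h A (g - 1)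
    have h5 : Mono ((DerivedCategory.homologyFunctor X.Modules g).map ((DCoh.Lpull h).map b)) :=
      (DerivedCategory.HomologySequence.mono_homologyMap_mor₂_iff _ hT' g).2
        ((DerivedCategory.isZero_of_isLE ((DCoh.Lpull h).obj A) (g - 1) g (by omega)).eq_of_src _ _)
    have h6 : Epi ((DerivedCategory.homologyFunctor X.Modules g).map ((DCoh.Lpull h).map b)) :=
      (DerivedCategory.HomologySequence.epi_homologyMap_mor₂_iff _ hT' g (g + 1) rfl).2
        ((DerivedCategory.isZero_of_isLE ((DCoh.Lpull h).obj A) (g - 1) (g + 1) (by omega)).eq_of_tgt _ _)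
    exact isIso_of_mono_of_epi _
  obtain ⟨e⟩ := Groth.Agent.LoccohB.DCalc.exists_iso_single B g
  have h3 := h2 g (by omega)
  let e1 : B ≅ (DCoh.inD Y (DCoh.HD B g))⟦-g⟧ := e ≪≫
    (((DerivedCategory.singleFunctors Y.Modules).shiftIso (-g) g 0 (by omega)).app _).symm
  obtain ⟨e2⟩ := nonempty_lpull_shift h (DCoh.inD Y (DCoh.HD B g)) (-g)
  obtain ⟨e3⟩ := nonempty_HD_lpull_inD h (DCoh.HD B g)
  exact ⟨asIso ((DerivedCategory.homologyFunctor X.Modules g).map ((DCoh.Lpull h).map b)) ≪≫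
    (DerivedCategory.homologyFunctor X.Modules g).mapIso ((DCoh.Lpull h).mapIso e1 ≪≫ e2.symm) ≪≫
    Groth.Agent.LoccohB.DQCohBasic.homologyShiftIso _ (-g) g 0 (by omega) ≪≫ e3 ≪≫
    (Scheme.Modules.pullback h).mapIso (asIso ((DerivedCategory.homologyFunctor Y.Modules g).map b)).symm⟩

theorem isLE_Rpush (f : X ⟶ Y) [DCoh.HasRpush f] [HasInjectiveResolutions X.Modules] (F : X.Modules) (g : ℕ)
    (hdim : ∀ p : ℕ, g < p → IsZero ((Coh.Rpush f p).obj F)) :
    ((DCoh.Rpush f).obj (DCoh.inD X F)).IsLE g := by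
  rw [DerivedCategory.isLE_iff]
  intro i hi
  obtain ⟨n, rfl⟩ := Int.eq_ofNat_of_zero_le (show 0 ≤ i by omega)
  exact (hdim n (by omega)).of_iso (Groth.Agent.PerfC.RpushSingle.iso f n _)

/-- **Base change for the top direct image.** -/
theorem nonempty_top_bc {X' Y' : Scheme.{u}} {f : X ⟶ Y} {f' : X' ⟶ Y'} {h : Y' ⟶ Y} {h' : X' ⟶ X}
    (sq : IsPullback h' f' f h) [QuasiCompact f] [QuasiSeparated f] [Flat f]
    [HasInjectiveResolutions X.Modules] [HasInjectiveResolutions X'.Modules] (F : X.Modules)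
    (hF : FlatMod.IsFlat F) (hq : Coh.IsQCoh F) (g : ℕ)
    (hdim : ∀ p : ℕ, g < p → IsZero ((Coh.Rpush f p).obj F)) :
    Nonempty ((Coh.Rpush f' g).obj ((Scheme.Modules.pullback h').obj F) ≅
      (Scheme.Modules.pullback h).obj ((Coh.Rpush f g).obj F)) := by
  have i1 := hasRpush f
  have i2 := hasRpush f'
  have i3 := hasLpull h
  have i4 := hasLpull h'
  have hF' : qc X (DCoh.inD X F) := PerfB.StructFlat.isQCohD_inD hq
  obtain ⟨e⟩ := (bc (Or.inl ‹_›) sq).app hF'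
  obtain ⟨e1⟩ := nonempty_lpull_inD h' F hF
  have := isLE_Rpush f F g hdim
  obtain ⟨e2⟩ := nonempty_top_pull h ((DCoh.Rpush f).obj (DCoh.inD X F)) g
  exact ⟨(Groth.Agent.PerfC.RpushSingle.iso f' g _).symm ≪≫
    (DerivedCategory.homologyFunctor Y'.Modules (g : ℤ)).mapIso ((DCoh.Rpush f').mapIso e1.symm ≪≫ e.symm) ≪≫ e2 ≪≫
    (Scheme.Modules.pullback h).mapIso (Groth.Agent.PerfC.RpushSingle.iso f g F)⟩

end K451.TopBC
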