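import Groth.Agent.AbSch.K451.TopAdd
import Groth.Agent.AbSch.K451.CycSheaf
import Groth.Agent.AbSch.K451.Prod

/-!
# Direct images of classes in `Pic⁰` of an abelian scheme
-/

set_option autoImplicit false
universe u
open CategoryTheory CategoryTheory.Limits AlgebraicGeometry MonoidalCategory CartesianMonoidalCategory MonObj

namespace K451.TopDir

open Groth.Agent Groth.Agent.Grpsch.PicGrp K449.Cube K524.Kun K451.CycSheaf
open scoped Groth.Agent.Dcoh.MonCat

variable {Y : Scheme.{u}} {X : Over Y} [GrpObj X] {g : ℕ} (hX : AgPol.IsAbSch X g)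
  {F : X.left.Modules} (hF : PicF.IsInvertible F) (hc : AddR (mk F hF))

theorem eq_zero_of_isZero {Z : Scheme.{u}} {M : Z.Modules} (h : IsZero M) {U : Z.Opens} (z : Γ(M, U)) : z = 0 := by
  have h1 : (𝟙 M : M ⟶ M) = 0 := h.eq_of_src _ _
  have h2 : (𝟙 M : M ⟶ M).app U z = z := rfl
  rw [h1] at h2
  exact h2.symm

include hX hc in
/-- Nontrivial classes on the fibres have no cohomology. -/
theorem van_of_ne (y : Y) (h : pull (X.hom.fiberι y) (mk F hF) ≠ 1) (p : ℕ) :
    Van (pull (X.hom.fiberι y) (mk F hF)) p := by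
  let A : Over (Spec (CommRingCat.of (Y.residueField y))) := (Over.pullback (Y.fromSpecResidueField y)).obj X
  have hA : AgPol.IsAbSch A g := TopInv.isAbSch_bc X hX _
  have h1 : IsProper A.hom := hA.proper
  have h2 : GeometricallyIntegral A.hom := K451.Prod.geometricallyIntegral_of_isAbSch hA
  exact K524.PicZeroVan.van (k := Y.residueField y) (A := A) (hc.bc _) h p

include hX hc in
theorem fiberRank_eq_zero (y : Y) (h : pull (X.hom.fiberι y) (mk F hF) ≠ 1) (p : ℕ) :
    CohIII.fiberRank X.hom F p y = 0 := by
  have h1 := van_of_ne hX hF hc y h p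
  rw [pull_mk, van_mk] at h1
  have : Subsingleton (CohIII.fiberH X.hom F y p) := h1
  exact Module.finrank_zero_of_subsingleton

include hX hc in
/-- Vanishing below the top degree. -/
theorem isZero_below [IsLocallyNoetherian Y]
    (H : ∀ y : Y, pull (X.hom.fiberι y) (mk F hF) = 1 → K524.FinSupp.HasReg (Y.presheaf.stalk y) g)
    (p : ℕ) (hp : p < g) : IsZero ((Coh.Rpush X.hom p).obj F) := by
  have := hX.proper
  have := hX.smooth
  have hcoh := Groth.Agent.S2329.isCoh_of_isInvertible hF
  have hfl := Grpsch.CubeClosed.isFlatOver_of_isInvertible X.hom hF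
  refine K524.FinSupp.isZero_Rpush X.hom F hcoh hfl g (fun y ⟨q, _, hq⟩ => H y ?_) p hp
  by_contra h
  exact hq (fiberRank_eq_zero hX hF hc y h q)

include hX hc in
/-- The fibres of the top direct image are generated by one element. -/
theorem exists_cyc_fiber [IsLocallyNoetherian Y] (y : Y) :
    ∃ w : Γ((Scheme.Modules.pullback (Y.fromSpecResidueField y)).obj ((Coh.Rpush X.hom g).obj F), ⊤), Cyc _ ⊤ w := by
  let A : Over (Spec (CommRingCat.of (Y.residueField y))) := (Over.pullback (Y.fromSpecResidueField y)).obj X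
  have hA : AgPol.IsAbSch A g := TopInv.isAbSch_bc X hX _
  have h1 : IsProper A.hom := hA.proper
  have h1' : Smooth A.hom := hA.smooth
  obtain ⟨e⟩ := TopInv.nonempty_top_bc X hX (Y.fromSpecResidueField y) F hF
  by_cases h : pull (X.hom.fiberι y) (mk F hF) = 1
  · rw [pull_mk, mk_eq_one_iff] at h
    obtain ⟨i⟩ := h
    have h2 := TopInv.exists_gen_field (K := Y.residueField y) A hA
    exact TopInv.exists_gen_iso ((Coh.Rpush A.hom g).mapIso i.symm ≪≫ e) h2
  · have h3 : IsZero ((Coh.Rpush A.hom g).obj ((Scheme.Modules.pullback (X.hom.fiberι y)).obj F)) := by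
      have hF' := Fdesc.LocGen.isInvertible_pullback (X.hom.fiberι y) hF
      have hloc : IsLocallyNoetherian A.left := LocallyOfFiniteType.isLocallyNoetherian A.hom
      have hcoh := Groth.Agent.S2329.isCoh_of_isInvertible (X := A.left) hF'
      have hfl := Grpsch.CubeClosed.isFlatOver_of_isInvertible A.hom (L := (Scheme.Modules.pullback (X.hom.fiberι y)).obj F) hF'
      refine K524.FinSupp.isZero_Rpush_of_fiberRank A.hom _ hcoh hfl g fun y' => ?_
      have h4 : AddR (X := A) (mk ((Scheme.Modules.pullback (X.hom.fiberι y)).obj F) hF') := hc.bc _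
      refine fiberRank_eq_zero (X := A) hA hF' h4 y' (fun h5 => h ?_) g
      have h6 : IsIso (A.hom.fiberι y') := K524.Key.isIso_fiberι_spec (K := Y.residueField y) A.hom y'
      have h7 : pull (inv (A.hom.fiberι y')) (pull (A.hom.fiberι y') (mk ((Scheme.Modules.pullback (X.hom.fiberι y)).obj F) hF')) = 1 := by
        rw [h5, map_one]
      rw [← pull_comp, IsIso.inv_hom_id] at h7
      rw [pull_mk]
      exact (pull_id _).symm.trans h7
    exact ⟨0, fun z => ⟨0, by rw [zero_smul]; exact (eq_zero_of_isZero (h3.of_iso e.symm) z).symm⟩⟩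

/-- The top direct image is coherent. -/
theorem isCoh_top [IsLocallyNoetherian Y] (hX : AgPol.IsAbSch X g) {F : X.left.Modules} (hF : PicF.IsInvertible F) :
    Coh.IsCoh ((Coh.Rpush X.hom g).obj F) := by
  have := hX.proper
  have hloc : IsLocallyNoetherian X.left := LocallyOfFiniteType.isLocallyNoetherian X.hom
  exact Groth.Agent.S0036.result X.hom _ (Groth.Agent.S2329.isCoh_of_isInvertible hF) g

section Scheme

variable [IsLocallyNoetherian Y]

/-- The ideal of the locus where the class is trivial: the annihilator of the top direct image. -/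
noncomputable def topIdeal : Y.IdealSheafData :=
  FormalA.AnnIdeal.annIdeal ((Coh.Rpush X.hom g).obj F) (isCoh_top hX hF).1 (isCoh_top hX hF).2

include hc in
/-- The top direct image is invertible on its annihilator scheme. -/
theorem isInvertible_top :
    PicF.IsInvertible ((Scheme.Modules.pullback (topIdeal hX hF).subschemeι).obj ((Coh.Rpush X.hom g).obj F)) :=
  isInvertible_pullback_ann _ _ fun y => exists_cyc_of_fiber (isCoh_top hX hF) y (exists_cyc_fiber hX hF hc y)

/-- The top direct image is the direct image of an invertible module on the annihilator scheme. -/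
noncomputable def topIso :
    (Scheme.Modules.pushforward (topIdeal hX hF).subschemeι).obj
      ((Scheme.Modules.pullback (topIdeal hX hF).subschemeι).obj ((Coh.Rpush X.hom g).obj F)) ≅ (Coh.Rpush X.hom g).obj F :=
  FormalA.AnnIdeal.pushPullIso _ _ _

include hX hc in
/-- If the top direct image becomes invertible on `T`, the class becomes trivial on `X_T`. -/
theorem pull_eq_one_of_isInvertible {T : Scheme.{u}} (i : T ⟶ Y)
    (h : PicF.IsInvertible ((Scheme.Modules.pullback i).obj ((Coh.Rpush X.hom g).obj F))) :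
    pull (pullback.fst X.hom i) (mk F hF) = 1 := by
  have := hX.proper
  have := hX.smooth
  let Q := (Coh.Rpush X.hom g).obj F
  obtain ⟨e⟩ := nonempty_twist hF hc g
  let i' := pullback.fst X.hom i
  let f' := pullback.snd X.hom i
  let J := (Scheme.Modules.pullback f').obj ((Scheme.Modules.pullback i).obj Q)
  have hJ : PicF.IsInvertible J := Fdesc.LocGen.isInvertible_pullback f' h
  let e1 : (Scheme.Modules.pullback i').obj ((Scheme.Modules.pullback X.hom).obj Q) ≅ J :=
    (Scheme.Modules.pullbackComp i' X.hom).app Q ≪≫ (Scheme.Modules.pullbackCongr pullback.condition).app Q ≪≫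
      ((Scheme.Modules.pullbackComp f' i).app Q).symm
  have e2 : (Scheme.Modules.pullback i').obj (CohB1.tensorMod F ((Scheme.Modules.pullback X.hom).obj Q)) ≅
      CohB1.tensorMod ((Scheme.Modules.pullback i').obj F) ((Scheme.Modules.pullback i').obj ((Scheme.Modules.pullback X.hom).obj Q)) :=
    letI := Groth.Agent.Dcoh.MonPull.monPull i'
    (Functor.Monoidal.μIso (Scheme.Modules.pullback i') F _).symm
  have e3 : J ≅ CohB1.tensorMod ((Scheme.Modules.pullback i').obj F) J :=
    e1.symm ≪≫ (Scheme.Modules.pullback i').mapIso e ≪≫ e2 ≪≫ Ega2.Tens.mapTIso (Iso.refl _) e1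
  have h4 : mk J hJ = pull i' (mk F hF) * mk J hJ :=
    (mk_eq_iff hJ (Fdesc.LocGen.isInvertible_tensorMod (Fdesc.LocGen.isInvertible_pullback i' hF) hJ)).2 ⟨e3⟩
  exact (mul_eq_right (b := mk J hJ)).1 h4.symm

include hX in
/-- If the class becomes trivial on `X_T`, the top direct image becomes invertible on `T`. -/
theorem isInvertible_of_pull_eq_one {T : Scheme.{u}} [IsLocallyNoetherian T] (i : T ⟶ Y)
    (h : pull (pullback.fst X.hom i) (mk F hF) = 1) :
    PicF.IsInvertible ((Scheme.Modules.pullback i).obj ((Coh.Rpush X.hom g).obj F)) := by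
  obtain ⟨e⟩ := TopInv.nonempty_top_bc X hX i F hF
  rw [pull_mk, mk_eq_one_iff] at h
  obtain ⟨e'⟩ := h
  exact TopInv.isInvertible_iso ((Coh.Rpush ((Over.pullback i).obj X).hom g).mapIso e'.symm ≪≫ e)
    (TopInv.isInvertible_topO ((Over.pullback i).obj X) (TopInv.isAbSch_bc X hX i))

include hc in
/-- **The class is trivial over the annihilator scheme.** -/
theorem pull_eq_one : pull (pullback.fst X.hom (topIdeal hX hF).subschemeι) (mk F hF) = 1 :=
  pull_eq_one_of_isInvertible hX hF hc _ (isInvertible_top hX hF hc)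

/-- **Universal property of the annihilator scheme.** -/
theorem exists_lift {T : Scheme.{u}} [IsLocallyNoetherian T] (t : T ⟶ Y)
    (h : pull (pullback.fst X.hom t) (mk F hF) = 1) :
    ∃ u : T ⟶ (topIdeal hX hF).subscheme, u ≫ (topIdeal hX hF).subschemeι = t :=
  exists_lift_ann _ _ t (isInvertible_of_pull_eq_one hX hF t h)

end Scheme

end K451.TopDir
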