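import Groth.Agent.AbSch.K451.DInv
import Groth.Agent.AbSch.K451.TopInv

/-!
# The top direct image of the structure sheaf of an abelian scheme is dual to the Hodge module
-/

set_option autoImplicit false
universe u
open CategoryTheory CategoryTheory.Limits AlgebraicGeometry MonoidalCategory Pretriangulated
attribute [local instance] HasDerivedCategory.standard
open scoped Groth.Agent.Dcoh.MonCat Groth.Agent.Dcoh.ModD

namespace K451.TopDual

open Groth.Agent K353.OnSub K353.Calc Groth.Agent.Dcoh K451.TopO K451.DInv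

variable {X Y : Scheme.{u}}

theorem bijective_whisker {A C Q K : DCoh.D Y} (g : ℤ) {f : A ⟶ C} {c : C ⟶ Q} {h : Q ⟶ A⟦(1 : ℤ)⟧}
    (hT : Triangle.mk f c h ∈ distTriang (DCoh.D Y)) [A.IsLE (g - 1)] [K.IsLE (-g)] :
    Function.Bijective (fun τ : K ⊗ Q ⟶ 𝟙_ (DCoh.D Y) => K ◁ c ≫ τ) := by
  obtain ⟨_, _⟩ := Groth.Agent.Dual.H379.TwistMain.isTriang_tensorRight K
  obtain ⟨β⟩ := braid K
  have h1 : (A ⊗ K).IsLE (-1) := by
    have := Groth.Agent.Dual.H379.TensBound.isLE_tensor A K (g - 1) (-g)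
    rwa [show (g - 1 + -g : ℤ) = -1 by omega] at this
  have hT' := (tensorRight K).map_distinguished _ hT
  have h2 : Function.Bijective (fun τ : Q ⊗ K ⟶ 𝟙_ (DCoh.D Y) => (c ▷ K) ≫ τ) :=
    bijective_precomp hT' (𝟙_ (DCoh.D Y))
      (fun x => DerivedCategory.TStructure.t.zero (X := A ⊗ K) x (-1) 0 (by omega))
      (fun x => by
        have h3 : ((A ⊗ K)⟦(1 : ℤ)⟧).IsLE (-2) := DerivedCategory.TStructure.t.isLE_shift (A ⊗ K) (-1) 1 (-2) (by omega)
        exact DerivedCategory.TStructure.t.zero (X := (A ⊗ K)⟦(1 : ℤ)⟧) x (-2) 0 (by omega))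
  have h3 : ∀ τ : K ⊗ Q ⟶ 𝟙_ (DCoh.D Y), K ◁ c ≫ τ = (β.app C).inv ≫ (c ▷ K) ≫ (β.app Q).hom ≫ τ := by
    intro τ
    have h4 := β.hom.naturality c
    change (c ▷ K) ≫ β.hom.app Q = β.hom.app C ≫ K ◁ c at h4
    change _ = β.inv.app C ≫ (c ▷ K) ≫ β.hom.app Q ≫ τ
    rw [← Category.assoc (c ▷ K), h4, Category.assoc, Iso.inv_hom_id_app_assoc]
  constructor
  · intro τ τ' hτ
    change K ◁ c ≫ τ = K ◁ c ≫ τ' at hτ
    rw [h3, h3, Iso.cancel_iso_inv_left] at hτ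
    have h5 := h2.1 hτ
    exact (Iso.cancel_iso_hom_left _ _ _).1 h5
  · intro σ
    obtain ⟨τ, hτ⟩ := h2.2 ((β.app C).hom ≫ σ)
    refine ⟨(β.app Q).inv ≫ τ, ?_⟩
    change K ◁ c ≫ _ = σ
    rw [h3, Iso.hom_inv_id_assoc]
    change (c ▷ K) ≫ τ = _ at hτ
    rw [hτ, Iso.inv_hom_id_assoc]

/-- `H^i` of a shifted module. -/
theorem nonempty_HD_shift (M : Y.Modules) (n m : ℤ) (h : n + m = 0) :
    Nonempty (DCoh.HD ((DCoh.inD Y M)⟦n⟧) m ≅ M) :=
  ⟨Groth.Agent.LoccohB.DQCohBasic.homologyShiftIso (DCoh.inD Y M) n m 0 h ≪≫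
    (DerivedCategory.singleFunctorCompHomologyFunctorIso Y.Modules 0).app M⟩

/-- **Duality.** -/
theorem nonempty_dual [IsNoetherian Y] (g : ℕ) (f : X ⟶ Y) [IsProper f] [SmoothOfRelativeDimension g f]
    [HasInjectiveResolutions X.Modules]
    (L : X.Modules) (hL : ExtPow.IsExtPow g (Omega.sheaf f) L) (ω : Y.Modules) (hω : PicF.IsInvertible ω)
    (eL : (Coh.push f).obj L ≅ ω)
    (hdim : ∀ p : ℕ, g < p → IsZero ((Coh.Rpush f p).obj (Coh.structureModule X)))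
    (hN : PicF.IsInvertible ((Coh.Rpush f g).obj (Coh.structureModule X))) :
    Nonempty (CohB1.tensorMod ((Coh.Rpush f g).obj (Coh.structureModule X)) ω ≅ Coh.structureModule Y) := by
  have hR := hasRpush f
  have hP := hasLpull f
  have hc : CompactSpace X := QuasiCompact.compactSpace_of_compactSpace f
  have hq : QuasiSeparatedSpace X := quasiSeparatedSpace_of_quasiSeparated f
  have h : DCoh.RpushPreservesQCoh f := fun K hK => S0998.result f K hK
  have hs : DCoh.HasShriek f h := S1766.result X Y f h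
  let O : DCoh.DQCoh Y := ⟨𝟙_ (DCoh.D Y), Groth.Agent.Dual.H379.DQMon.isQCohD_unit⟩
  obtain ⟨e⟩ := S3635.result Y X g f h _ (DCoh.shriekAdj f h) O ⟨(DualX.unitIso Y).symm⟩ L hL
  obtain ⟨Θ, hΘ⟩ := exists_theta f h _ (DCoh.shriekAdj f h) O _ e
  let C : DCoh.D Y := (DCoh.Rpush f).obj (DCoh.inD X (Coh.structureModule X))
  let W : DCoh.D Y := (DCoh.Rpush f).obj ((DCoh.inD X L)⟦(g : ℤ)⟧)
  have hCLE : C.IsLE g := by
    rw [DerivedCategory.isLE_iff]
    intro i hi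
    obtain ⟨n, rfl⟩ := Int.eq_ofNat_of_zero_le (show 0 ≤ i by omega)
    exact (hdim n (by omega)).of_iso (Groth.Agent.PerfC.RpushSingle.iso f n _)
  have hWGE : W.IsGE (-g) := by
    have h1 : ((DCoh.inD X L)⟦(g : ℤ)⟧).IsGE (-g) := DerivedCategory.TStructure.t.isGE_shift (DCoh.inD X L) 0 g (-g) (by omega)
    exact Groth.Agent.PerfC.RpushTrunc.isGE_Rpush f _ _
  have eW : DCoh.HD W (-g) ≅ ω :=
    Groth.Agent.LoccohB.DQCohBasic.HDRpushShiftIso f (DCoh.inD X L) g (-g) 0 (by omega) ≪≫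
      Groth.Agent.PerfC.RpushSingle.iso f 0 L ≪≫ ((Scheme.Modules.pushforward f).rightDerivedZeroIsoSelf).app L ≪≫ eL
  let N := (Coh.Rpush f g).obj (Coh.structureModule X)
  have eC : DCoh.HD C g ≅ N := Groth.Agent.PerfC.RpushSingle.iso f g _
  obtain ⟨N', hN', ⟨eN⟩⟩ := Grpsch.PicGrp.exists_inverse hN
  -- truncations
  obtain ⟨A, Q, a, c, t, hT, hA, hQ, -, hQ2⟩ := Groth.Agent.LoccohB.DQCohBasic.exists_trunc C ((g : ℤ) - 1)
  have hQg : Q.IsGE g := by rwa [sub_add_cancel] at hQ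
  have hQl : Q.IsLE g := by
    rw [DerivedCategory.isLE_iff]
    intro i hi
    have h3 := hQ2 i (by omega)
    exact (DerivedCategory.isZero_of_isLE C g i hi).of_iso (asIso ((DerivedCategory.homologyFunctor Y.Modules i).map c)).symm
  obtain ⟨A', B', a', c', t', hT', hA', hB', hA2, -⟩ := Groth.Agent.LoccohB.DQCohBasic.exists_trunc W (-(g : ℤ))
  have hA'g : A'.IsGE (-g) := by
    rw [DerivedCategory.isGE_iff]
    intro i hi
    have h3 := hA2 i (by omega)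
    exact (DerivedCategory.isZero_of_isGE W (-g) i hi).of_iso (asIso ((DerivedCategory.homologyFunctor Y.Modules i).map a'))
  have hR1 : ((DCoh.inD Y N)⟦(-g : ℤ)⟧).IsGE g := DerivedCategory.TStructure.t.isGE_shift (DCoh.inD Y N) 0 (-g) g (by omega)
  have hR2 : ((DCoh.inD Y N)⟦(-g : ℤ)⟧).IsLE g := DerivedCategory.TStructure.t.isLE_shift (DCoh.inD Y N) 0 (-g) g (by omega)
  have hR3 : ((DCoh.inD Y ω)⟦(g : ℤ)⟧).IsGE (-g) := DerivedCategory.TStructure.t.isGE_shift (DCoh.inD Y ω) 0 g (-g) (by omega)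
  have hR4 : ((DCoh.inD Y ω)⟦(g : ℤ)⟧).IsLE (-g) := DerivedCategory.TStructure.t.isLE_shift (DCoh.inD Y ω) 0 g (-g) (by omega)
  have hR5 : ((DCoh.inD Y N')⟦(g : ℤ)⟧).IsLE (-g) := DerivedCategory.TStructure.t.isLE_shift (DCoh.inD Y N') 0 g (-g) (by omega)
  obtain ⟨eNs⟩ := nonempty_HD_shift N (-g) g (by omega)
  obtain ⟨eωs⟩ := nonempty_HD_shift ω g (-g) (by omega)
  obtain ⟨eNs'⟩ := nonempty_HD_shift N' g (-g) (by omega)
  have iQ : IsIso ((DerivedCategory.homologyFunctor Y.Modules (g : ℤ)).map c) := hQ2 g (by omega)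
  have iA : IsIso ((DerivedCategory.homologyFunctor Y.Modules (-g : ℤ)).map a') := hA2 (-g) (by omega)
  obtain ⟨iQ'⟩ := Groth.Agent.LoccohB.DCalc.nonempty_iso_of_both (g : ℤ) Q ((DCoh.inD Y N)⟦(-g : ℤ)⟧)
    ((asIso ((DerivedCategory.homologyFunctor Y.Modules (g : ℤ)).map c)).symm ≪≫ eC ≪≫ eNs.symm)
  obtain ⟨iA'⟩ := Groth.Agent.LoccohB.DCalc.nonempty_iso_of_both (-g : ℤ) A' ((DCoh.inD Y ω)⟦(g : ℤ)⟧)
    ((asIso ((DerivedCategory.homologyFunctor Y.Modules (-g : ℤ)).map a')) ≪≫ eW ≪≫ eωs.symm)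
  let P := (DCoh.inD Y N')⟦(g : ℤ)⟧
  obtain ⟨i0⟩ := nonempty_shift_inv hN hN' eN g (-g) (by omega)
  obtain ⟨i1⟩ := tensorRight_congr (X := Y) iQ'
  let i : P ⊗ Q ≅ 𝟙_ (DCoh.D Y) := (i1.app P) ≪≫ i0
  obtain ⟨i2⟩ := nonempty_braid Q P
  have hE : (tensorRight Q).IsEquivalence := isEquivalence_of_inv i (i2 ≪≫ i)
  have qcP : qc Y P := Groth.Agent.LoccohB.DQCohBasic.isQCohD_shift (isQCohD_of_isInvertible hN') _
  have qcω : qc Y A' := by
    have := Groth.Agent.LoccohB.DQCohBasic.isQCohD_shift (isQCohD_of_isInvertible hω) (g : ℤ)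
    exact (DCoh.IsQCohD (X := Y)).prop_of_iso iA'.symm this
  let Z : DCoh.D Y → Prop := fun K => qc Y K ∧ K.IsLE (-g)
  have b1 : ∀ K : DCoh.D Y, Z K → Function.Bijective (fun b : K ⟶ P => K ◁ c ≫ (b ▷ Q) ≫ i.hom) := by
    intro K hK
    have := hK.2
    have h1 := bijective_whisker (K := K) (g : ℤ) hT
    have h2 : Function.Bijective (fun b : K ⟶ P => (b ▷ Q) ≫ i.hom) := by
      have h3 : Function.Bijective (fun b : K ⟶ P => (tensorRight Q).map b) :=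
        ⟨(tensorRight Q).map_injective, (tensorRight Q).map_surjective⟩
      have h4 : Function.Bijective (fun x : K ⊗ Q ⟶ P ⊗ Q => x ≫ i.hom) :=
        ⟨fun x y hxy => (cancel_mono i.hom).1 hxy, fun y => ⟨y ≫ i.inv, by simp⟩⟩
      exact h4.comp h3
    exact h1.comp h2
  have b2 : ∀ K : DCoh.D Y, Z K → Function.Bijective (fun τ : K ⟶ A' => τ ≫ a') := by
    intro K hK
    have := hK.2
    refine bijective_postcomp hT' K (fun x => DerivedCategory.TStructure.t.zero x (-g) (-g + 1) (by omega)) fun x => ?_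
    have h3 : (B'⟦(-1 : ℤ)⟧).IsGE (-g + 1 + 1) := DerivedCategory.TStructure.t.isGE_shift B' (-g + 1) (-1) (-g + 1 + 1) (by omega)
    exact DerivedCategory.TStructure.t.zero x (-g) (-g + 1 + 1) (by omega)
  obtain ⟨j⟩ := nonempty_iso_of_homEquiv (C := DCoh.D Y) Z (P := P) (R := A') ⟨qcP, hR5⟩ ⟨qcω, hA'⟩
    (fun K hK => (Equiv.ofBijective _ (b1 K hK)).trans ((Θ K hK.1).trans (Equiv.ofBijective _ (b2 K hK)).symm))
    (fun K K' hK hK' x y => by
      simp only [Equiv.trans_apply]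
      rw [Equiv.symm_apply_eq]
      change _ = (x ≫ (Equiv.ofBijective _ (b2 K' hK')).symm _) ≫ a'
      rw [Category.assoc]
      have h1 : (Equiv.ofBijective _ (b2 K' hK')).symm (Θ K' hK'.1 (K' ◁ c ≫ (y ▷ Q) ≫ i.hom)) ≫ a' =
        Θ K' hK'.1 (K' ◁ c ≫ (y ▷ Q) ≫ i.hom) := (Equiv.ofBijective _ (b2 K' hK')).apply_symm_apply _
      refine Eq.trans ?_ (congrArg (fun z => x ≫ z) h1.symm)
      rw [← hΘ K K' hK.1 hK'.1]
      congr 1
      change K ◁ c ≫ ((x ≫ y) ▷ Q) ≫ i.hom = (x ▷ C) ≫ K' ◁ c ≫ (y ▷ Q) ≫ i.hom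
      rw [comp_whiskerRight, Category.assoc, whisker_exchange_assoc])
  have k : N' ≅ ω := eNs'.symm ≪≫ (DerivedCategory.homologyFunctor Y.Modules (-g : ℤ)).mapIso (j ≪≫ iA') ≪≫ eωs
  exact ⟨Ega2.Tens.mapTIso (Iso.refl _) k.symm ≪≫ eN⟩

open MonObj in
/-- `R^g f_* O ⊗ ω = O` for an abelian scheme of relative dimension `g`. -/
theorem nonempty_dual_abSch {Y : Scheme.{u}} [IsNoetherian Y] (X : Over Y) [GrpObj X] {g : ℕ} (hX : AgPol.IsAbSch X g)
    (ω : Y.Modules) (hω : ExtPow.IsExtPow g (TopInv.cot X) ω) :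
    Nonempty (CohB1.tensorMod ((Coh.Rpush X.hom g).obj (Coh.structureModule X.left)) ω ≅ Coh.structureModule Y) := by
  have := hX.proper
  have := hX.smooth
  have := K451.RelDim.smoothOfRelativeDimension hX
  have hi : PicF.IsInvertible ω := K451.DetMat.isInvertible_of_isExtPow (Vancyc.H878.Triv.isFinLocFreeOfRank_pullback _
      (K451.RelDim.isFinLocFreeOfRank_omega hX)) hω
  obtain ⟨e2⟩ := TopInv.nonempty_push_pull X hX ω hi
  exact nonempty_dual g X.hom _ (TopInv.isExtPow_pull X ω hω (TopInv.isFinLocFree_cot X hX)) ω hi e2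
    (fun p hp => TopInv.isZero_above X hX _ Fdesc.LocGen.isInvertible_structureModule p hp) (TopInv.isInvertible_topO X hX)

end K451.TopDual
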