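import Groth.Agent.AbSch.K451.TopPair
import Groth.Agent.AbSch.K451.GeomFin
import Groth.Agent.AbVar.K512.PhiSurj
import Groth.Agent.AbVar.K528.MumZero
import Groth.Agent.AbDual.K732.AV
import Groth.Agent.S1841

/-!
# Finiteness of the set of points of an abelian scheme where the Poincaré class is trivial
-/

set_option autoImplicit false
universe u
open CategoryTheory CategoryTheory.Limits AlgebraicGeometry MonoidalCategory CartesianMonoidalCategory MonObj

namespace K451.TopFin

open Groth.Agent Groth.Agent.Grpsch.PicGrp K449.Cube K732.Prim K732.BC K732.Dual K732.PicZero K451.TopDir K451.TopPair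

section Field

variable {k : Type u} [Field k] [IsAlgClosed k] {A At : Over (Spec (CommRingCat.of k))} [GrpObj A] [GrpObj At]
  [IsProper A.hom] [Smooth A.hom] [GeometricallyConnected A.hom]
  {φ : ∀ T : Over (Spec (CommRingCat.of k)), PicF.Cl (PicF.XT A.hom T) → (T ⟶ At)}
  (hD : AbDual.IsDualAV Scheme.fppfPrecoverage A At φ)
  {ξ : Pic (PicF.XT A.hom At)} (h1 : ξ ∈ pz A.hom At) (h2 : ξ ∈ rg A At) (h3 : cm φ ξ = 𝟙 At)

include hD h1 h2 h3

/-- Over an algebraically closed field the Poincaré class is trivial at finitely many points of `A`. -/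
theorem finite_triv : Set.Finite {a : 𝟙_ (Over (Spec (CommRingCat.of k))) ⟶ A |
    ∀ (W : Over (Spec (CommRingCat.of k))) (y : W ⟶ At), ev (toUnit W ≫ a) y ξ = 1} := by
  have := K732.AV.geomInt A
  have hcomm : IsCommMonObj A := isCommMonObj_of_isProper_of_geometricallyIntegral A
  obtain ⟨L, hL⟩ := Groth.Agent.S1841.result k A
  let c := mk L hL.1
  let m := K528.MumZero.mumCl A c
  have hm1 : m ∈ pz A.hom A := K528.MumZero.fibZero_mumCl A c
  have hev : ∀ (W : Over (Spec (CommRingCat.of k))) (x y : W ⟶ A), ev x y m = pl (x * y) c * (pl x c)⁻¹ * (pl y c)⁻¹ :=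
    fun W x y => K528.MumZero.pull_lift_mumCl A c x y
  have hm2 : m ∈ rg A A := by
    rw [mem_rg_iff, hev, _root_.one_mul, Groth.Agent.Grpsch.Cube.pl_one, inv_one, _root_.mul_one, mul_inv_cancel]
  have h5 := eq_pull_poinc hD (K732.AV.hF A) h1 h2 h3 hm1 hm2
  refine (K512.PhiSurj.finite_of_isAmple L hL).subset fun a ha => ?_
  have h6 := ha A (cm φ m)
  have h7 : ev (toUnit A ≫ a) (𝟙 A) m = 1 := by
    rw [h5, ev_XTmap, Category.id_comp]
    exact h6
  rw [hev] at h7
  have h8 : pl (toUnit A ≫ a) c = 1 := by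
    rw [pl_comp]
    have : pl a c = 1 := pic_spec_local k _
    rw [this, map_one]
  have h9 : pl (𝟙 A) c = c := pull_id c
  rw [h8, h9, inv_one, _root_.mul_one, mul_inv_eq_one, mul_comm (toUnit A ≫ a)] at h7
  exact h7

end Field

open K732.Bidual

/-- A class trivial along `V ⟶ A` is trivial at all points of `V`. -/
theorem ev_eq_one {S : Scheme.{u}} {A At : Over S} (ξ : Pic (PicF.XT A.hom At)) {V : Scheme.{u}} (i : V ⟶ A.left)
    (h : pull (pullback.fst (Red.bc A.hom At).hom i) (sw A At ξ) = 1) {W : Over S} (a : W ⟶ A) (y : W ⟶ At)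
    (w : W.left ⟶ V) (hw : w ≫ i = a.left) : ev a y ξ = 1 := by
  rw [← ev_sw, ev_def]
  have h1 : (lift y a).left = pullback.lift (lift y a).left w (by
      rw [hw]
      exact congrArg CommaMorphism.left (lift_snd y a)) ≫ pullback.fst (Red.bc A.hom At).hom i :=
    (pullback.lift_fst _ _ _).symm
  exact (congrArg (fun t => pull t (sw A At ξ)) h1).trans (by rw [pull_comp, h, map_one])

/-- The locus of `A` where the Poincaré class is trivial is finite over the base. -/
theorem isFinite_locus {S : Scheme.{u}} {A At : Over S} [GrpObj A] [GrpObj At]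
    [IsProper A.hom] [Smooth A.hom] [GeometricallyConnected A.hom]
    {φ : ∀ T : Over S, PicF.Cl (PicF.XT A.hom T) → (T ⟶ At)}
    (hD : AbDual.IsDualAV Scheme.fppfPrecoverage A At φ)
    {ξ : Pic (PicF.XT A.hom At)} (h1 : ξ ∈ pz A.hom At) (h2 : ξ ∈ rg A At) (h3 : cm φ ξ = 𝟙 At)
    {V : Scheme.{u}} (i : V ⟶ A.left) [IsClosedImmersion i]
    (h : pull (pullback.fst (Red.bc A.hom At).hom i) (sw A At ξ) = 1) : IsFinite (i ≫ A.hom) := by
  refine K451.GeomFin.isFinite_of_geom _ fun k _ _ t => ?_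
  have i1 : IsProper (Red.bc t A).hom := inferInstanceAs (IsProper (pullback.snd A.hom t))
  have i2 : Smooth (Red.bc t A).hom := inferInstanceAs (Smooth (pullback.snd A.hom t))
  have i3 : GeometricallyConnected (Red.bc t A).hom := inferInstanceAs (GeometricallyConnected (pullback.snd A.hom t))
  have hfin := finite_triv (A := Red.bc t A) (At := Red.bc t At) (isDualAV_bc (k := t) hD) (bcXi_mem_pz h1) (bcXi_mem_rg h2)
    (by rw [cm_bcXi hD h1, h3]; exact (Over.pullback t).map_id _)
  let f : {v : Spec (CommRingCat.of k) ⟶ V // v ≫ i ≫ A.hom = t} →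
      {a : 𝟙_ (Over (Spec (CommRingCat.of k))) ⟶ Red.bc t A |
        ∀ (W : Over (Spec (CommRingCat.of k))) (y : W ⟶ Red.bc t At), ev (toUnit W ≫ a) y (bcXi t A At ξ) = 1} := fun v =>
    ⟨up (k := t) (U := 𝟙_ _) (Over.homMk (v.1 ≫ i) (by
      change (v.1 ≫ i) ≫ A.hom = 𝟙 _ ≫ t
      rw [Category.assoc, v.2, Category.id_comp])), by
      intro W y
      obtain ⟨y, rfl⟩ := exists_up y
      rw [comp_up, ev_bcXi]
      refine ev_eq_one ξ i h _ _ ((toUnit W).left ≫ v.1) ?_
      rw [Category.assoc]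
      rfl⟩
  have hfin' := hfin.to_subtype
  refine Finite.of_injective f fun v w hvw => ?_
  have h4 := congrArg Subtype.val hvw
  have h5 := up_inj h4
  have h6 : v.1 ≫ i = w.1 ≫ i := congrArg CommaMorphism.left h5
  exact Subtype.ext ((cancel_mono i).1 h6)

end K451.TopFin
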