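import Groth.Agent.AbSch.K451.TopSide
import Groth.Agent.AbSch.K451.TopDual
import Groth.Agent.Curves.K333.InvEpi
import Groth.Agent.CurvesB.SubClosed
import Groth.Agent.EGA2.K38.DirImg
import Groth.Agent.Ega1.QcqsPush

/-!
# `R^g f_* O` of an abelian scheme and of its dual
-/

set_option autoImplicit false
universe u
open CategoryTheory CategoryTheory.Limits AlgebraicGeometry MonoidalCategory CartesianMonoidalCategory MonObj

namespace K451.TopMain

open Groth.Agent Groth.Agent.Grpsch.PicGrp K449.Cube K732.Prim K732.BC K732.Dual K732.PicZero K451.TopDir K451.TopPair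
  K732.Bidual K451.TopSide

section Mod

theorem isEquivalence_push {X Y : Scheme.{u}} (h : X ⟶ Y) [IsIso h] :
    (Scheme.Modules.pushforward h).IsEquivalence := by
  have h1 : Scheme.Modules.pushforward (inv h) ⋙ Scheme.Modules.pushforward h ≅ 𝟭 _ :=
    Scheme.Modules.pushforwardComp (inv h) h ≪≫ Scheme.Modules.pushforwardCongr (IsIso.inv_hom_id h) ≪≫
      Scheme.Modules.pushforwardId Y
  have h2 : Scheme.Modules.pushforward h ⋙ Scheme.Modules.pushforward (inv h) ≅ 𝟭 _ :=
    Scheme.Modules.pushforwardComp h (inv h) ≪≫ Scheme.Modules.pushforwardCongr (IsIso.hom_inv_id h) ≪≫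
      Scheme.Modules.pushforwardId X
  exact (CategoryTheory.Equivalence.mk (Scheme.Modules.pushforward h) (Scheme.Modules.pushforward (inv h))
    h2.symm h1).isEquivalence_functor

/-- The direct image under an isomorphism is the inverse image under its inverse. -/
theorem nonempty_push_iso {X Y : Scheme.{u}} (h : X ⟶ Y) (s : Y ⟶ X) (h1 : s ≫ h = 𝟙 Y) (h2 : h ≫ s = 𝟙 X) (M : X.Modules) :
    Nonempty ((Scheme.Modules.pushforward h).obj M ≅ (Scheme.Modules.pullback s).obj M) := by
  have hi : IsIso h := ⟨s, h2, h1⟩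
  have := isEquivalence_push h
  have := (Scheme.Modules.pullbackPushforwardAdjunction h).counit_isIso_of_R_fully_faithful
  have hi : IsIso ((Scheme.Modules.pullbackPushforwardAdjunction h).counit.app M) := inferInstance
  exact ⟨((Scheme.Modules.pullbackId Y).app _).symm ≪≫
    ((Scheme.Modules.pullbackCongr h1).app _).symm ≪≫
    ((Scheme.Modules.pullbackComp s h).app _).symm ≪≫
    (Scheme.Modules.pullback s).mapIso (@asIso _ _ _ _ _ hi)⟩

/-- If the direct image of an invertible module under a morphism with a section is invertible, it is the inverse image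
under the section. -/
theorem nonempty_of_section {V S : Scheme.{u}} (h : V ⟶ S) [IsAffineHom h] [IsSeparated h] (s : S ⟶ V) (hs : s ≫ h = 𝟙 S)
    {J : V.Modules} (hJ : PicF.IsInvertible J) (hp : PicF.IsInvertible ((Scheme.Modules.pushforward h).obj J)) :
    Nonempty ((Scheme.Modules.pushforward h).obj J ≅ (Scheme.Modules.pullback s).obj J) := by
  have i1 : IsClosedImmersion (s ≫ h) := by rw [hs]; infer_instance
  have i2 : IsClosedImmersion s := IsClosedImmersion.of_comp s h
  have hJq : Coh.IsQCoh J := Ega2.QCohLocal.isQCoh_of_isInvertible hJ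
  have hs' : PicF.IsInvertible ((Scheme.Modules.pullback s).obj J) := Fdesc.LocGen.isInvertible_pullback s hJ
  have hq : Coh.IsQCoh ((Scheme.Modules.pullback s).obj J) := Ega2.QCohLocal.isQCoh_of_isInvertible hs'
  have hq' : Coh.IsQCoh ((Scheme.Modules.pushforward s).obj ((Scheme.Modules.pullback s).obj J)) :=
    Ega1.QcqsPush.isQCoh_pushforward s _ hq
  have e1 : Epi ((Scheme.Modules.pushforward h).map (CurvesB.SubClosed.unitι s J)) :=
    K38.DirImg.epi_pushforward h hJq hq' _
  let e : (Scheme.Modules.pushforward h).obj ((Scheme.Modules.pushforward s).obj ((Scheme.Modules.pullback s).obj J)) ≅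
      (Scheme.Modules.pullback s).obj J :=
    (Scheme.Modules.pushforwardComp s h).app _ ≪≫ (Scheme.Modules.pushforwardCongr hs).app _ ≪≫
      (Scheme.Modules.pushforwardId S).app _
  have e2 : Epi ((Scheme.Modules.pushforward h).map (CurvesB.SubClosed.unitι s J) ≫ e.hom) := epi_comp _ _
  have := K333.InvEpi.isIso_of_epi hp hs' ((Scheme.Modules.pushforward h).map (CurvesB.SubClosed.unitι s J) ≫ e.hom)
  exact ⟨asIso ((Scheme.Modules.pushforward h).map (CurvesB.SubClosed.unitι s J) ≫ e.hom)⟩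

end Mod

section Swap

variable {S : Scheme.{u}} {A T : Over S} [GrpObj A] [GrpObj T] [IsProper A.hom] [IsProper T.hom] [Smooth A.hom] [Smooth T.hom]

omit [GrpObj A] [GrpObj T] [Smooth A.hom] [Smooth T.hom] in
theorem nonempty_swap {F : (Red.bc T.hom A).left.Modules} (hF : PicF.IsInvertible F) (m : ℕ) :
    Nonempty ((Coh.Rpush ((Red.bc T.hom A).hom ≫ T.hom) m).obj F ≅
      (Coh.Rpush ((Red.bc A.hom T).hom ≫ A.hom) m).obj
        ((Scheme.Modules.pullback (pullbackSymmetry T.hom A.hom).hom).obj F)) := by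
  let σ : (Red.bc A.hom T).left ⟶ (Red.bc T.hom A).left := (pullbackSymmetry T.hom A.hom).hom
  have hσ : IsIso σ := inferInstanceAs (IsIso (pullbackSymmetry T.hom A.hom).hom)
  have i1 : IsProper (Red.bc T.hom A).hom := inferInstanceAs (IsProper (pullback.snd A.hom T.hom))
  have hsq : IsPullback σ ((Red.bc A.hom T).hom ≫ A.hom) ((Red.bc T.hom A).hom ≫ T.hom) (𝟙 S) := by
    refine IsPullback.of_horiz_isIso ⟨?_⟩
    rw [Category.comp_id]
    change (pullbackSymmetry T.hom A.hom).hom ≫ pullback.snd A.hom T.hom ≫ T.hom = pullback.snd T.hom A.hom ≫ A.hom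
    rw [pullbackSymmetry_hom_comp_snd_assoc, pullback.condition]
  have hO : Coh.IsQCoh F := Ega2.QCohLocal.isQCoh_of_isInvertible hF
  obtain ⟨e⟩ := Groth.Agent.S0033.result ((Red.bc T.hom A).hom ≫ T.hom) (𝟙 S) σ ((Red.bc A.hom T).hom ≫ A.hom) hsq F m
  exact ⟨((Scheme.Modules.pullbackId S).app _).symm ≪≫ e⟩

end Swap

section Main

variable {S : Scheme.{u}} [IsNoetherian S] {A At : Over S} [GrpObj A] [GrpObj At]
  {g : ℕ} (hA : AgPol.IsAbSch A g) (hAt : AgPol.IsAbSch At g)
  {φ : ∀ T : Over S, PicF.Cl (PicF.XT A.hom T) → (T ⟶ At)}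
  (hD : AbDual.IsDualAV Scheme.fppfPrecoverage A At φ)
  {ξ : Pic (PicF.XT A.hom At)} (h1 : ξ ∈ pz A.hom At) (h2 : ξ ∈ rg A At) (h3 : cm φ ξ = 𝟙 At)

omit [AlgebraicGeometry.IsNoetherian S] [GrpObj A] in
include h1 hD h3 in
/-- The class is trivial along `V ⟶ At` only if `V ⟶ At` is trivial. -/
theorem eq_of_triv {V : Scheme.{u}} (i : V ⟶ At.left)
    (h : pull (pullback.fst (Red.bc At.hom A).hom i) ξ = 1) : (i ≫ At.hom) ≫ et At = i := by
  let v : Over.mk (i ≫ At.hom) ⟶ At := Over.homMk i rfl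
  have h4 : pull (PicF.XTmap A.hom v) ξ = 1 := by
    refine ext_ev fun W a y => ?_
    rw [ev_XTmap, map_one, ev_def]
    have h5 : (lift a (y ≫ v)).left = pullback.lift (lift a (y ≫ v)).left y.left (by
        exact congrArg CommaMorphism.left (lift_snd a (y ≫ v))) ≫ pullback.fst (Red.bc At.hom A).hom i :=
      (pullback.lift_fst _ _ _).symm
    exact (congrArg (fun t => pull t ξ) h5).trans (by rw [pull_comp, h, map_one])
  have h5 := cm_pull hD v h1
  rw [h4, h3, Category.comp_id, cm_one hD] at h5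
  have h6 := congrArg CommaMorphism.left h5
  refine Eq.trans ?_ h6
  exact (one_left (A := Over.mk (i ≫ At.hom)) (T := At)).symm

include hA hD h1 h2 h3 in
/-- The dual side. -/
theorem side_at [IsLocallyNoetherian At.left] {F : (Red.bc At.hom A).left.Modules} (hF : PicF.IsInvertible F) (hξ : mk F hF = ξ) :
    IsFinite ((topIdeal (isAbSch (T := At) hA) hF).subschemeι ≫ At.hom) ∧
    Nonempty ((Scheme.Modules.pushforward At.hom).obj ((Coh.Rpush (Red.bc At.hom A).hom g).obj F) ≅
      (Coh.Rpush A.hom g).obj (Coh.structureModule A.left)) := by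
  have := hA.proper
  have := hA.smooth
  have := hA.geomConnected
  have hgi : GeometricallyIntegral A.hom := K451.Prod.geometricallyIntegral_of_isAbSch hA
  have hX := isAbSch (T := At) hA
  have hb : Bil (A := A) (T := At) (mk F hF) := by
    rw [hξ]
    exact fun W a b y => K814.Pair.ev_mul_left h1 h2 a b y
  have he : ev (A := A) (T := At) (𝟙 A) (1 : A ⟶ At) (mk F hF) = 1 := by
    rw [hξ]
    exact K814.Pair.ev_one_right hD h1 h2 h3 _
  have hc := addR_of_bil hb
  let i := (topIdeal hX hF).subschemeι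
  have h4 : pull (pullback.fst (Red.bc At.hom A).hom i) ξ = 1 := by
    have := pull_eq_one hX hF hc
    rw [hξ] at this
    exact this
  have h5 := eq_of_triv hD h1 h3 i h4
  obtain ⟨s, hs⟩ := exists_lift hX hF (et At) (pull_et he)
  have h6 : s ≫ i ≫ At.hom = 𝟙 S := by
    rw [reassoc_of% hs, et_hom]
  have h7 : (i ≫ At.hom) ≫ s = 𝟙 _ := by
    rw [← cancel_mono i, Category.assoc, hs, Category.id_comp]
    exact h5
  have h8 : IsIso (i ≫ At.hom) := ⟨s, h7, h6⟩
  refine ⟨inferInstanceAs (IsFinite (i ≫ At.hom)), ?_⟩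
  let Q := (Coh.Rpush (Red.bc At.hom A).hom g).obj F
  obtain ⟨e1⟩ := nonempty_push_iso (i ≫ At.hom) s h6 h7 ((Scheme.Modules.pullback i).obj Q)
  obtain ⟨e2⟩ := nonempty_et hA hF he
  exact ⟨(Scheme.Modules.pushforward At.hom).mapIso (topIso hX hF).symm ≪≫
    (Scheme.Modules.pushforwardComp i At.hom).app _ ≪≫ e1 ≪≫
    (Scheme.Modules.pullbackComp s i).app Q ≪≫ (Scheme.Modules.pullbackCongr hs).app Q ≪≫ e2⟩

include hA hAt hD h1 h2 h3 in
/-- `R^g f_* O` is the same for an abelian scheme and for its dual. -/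
theorem nonempty_top : Nonempty ((Coh.Rpush A.hom g).obj (Coh.structureModule A.left) ≅
    (Coh.Rpush At.hom g).obj (Coh.structureModule At.left)) := by
  have := hA.proper
  have := hA.smooth
  have := hA.geomConnected
  have := hAt.proper
  have := hAt.smooth
  have hgi : GeometricallyIntegral A.hom := K451.Prod.geometricallyIntegral_of_isAbSch hA
  have n1 : IsLocallyNoetherian A.left := LocallyOfFiniteType.isLocallyNoetherian A.hom
  have n2 : IsLocallyNoetherian At.left := LocallyOfFiniteType.isLocallyNoetherian At.hom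
  obtain ⟨F, hF, hξ⟩ := exists_mk ξ
  obtain ⟨hfin, ⟨e1⟩⟩ := side_at hA hD h1 h2 h3 hF hξ.symm
  have hb : Bil (A := A) (T := At) (mk F hF) := by
    rw [← hξ]
    exact fun W a b y => K814.Pair.ev_mul_left h1 h2 a b y
  have f1 : Flat (Red.bc At.hom A).hom := inferInstanceAs (Flat (pullback.snd A.hom At.hom))
  have f2 : Flat (Red.bc A.hom At).hom := inferInstanceAs (Flat (pullback.snd At.hom A.hom))
  obtain ⟨e2⟩ := nonempty_comp (Red.bc At.hom A).hom At.hom F g (isZero_lt (A := A) (T := At) hA hAt hF hb hfin)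
  let F' : (Red.bc A.hom At).left.Modules := (Scheme.Modules.pullback (pullbackSymmetry At.hom A.hom).hom).obj F
  have hF' : PicF.IsInvertible F' := Fdesc.LocGen.isInvertible_pullback _ hF
  have hξ' : mk F' hF' = sw A At ξ := by
    rw [hξ]
    exact (pull_mk _ hF).symm
  have hb' : Bil (A := At) (T := A) (mk F' hF') := by
    rw [hξ']
    intro W y z a
    rw [ev_sw, ev_sw, ev_sw]
    exact K814.Pair.ev_mul_right hD h1 h2 h3 a y z
  have he' : ev (A := At) (T := A) (𝟙 At) (1 : At ⟶ A) (mk F' hF') = 1 := by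
    rw [hξ', ev_sw]
    exact ev_one_of_mem h2 _
  have hX' := isAbSch (A := At) (T := A) hAt
  let i := (topIdeal hX' hF').subschemeι
  have h4 : pull (pullback.fst (Red.bc A.hom At).hom i) (sw A At ξ) = 1 := by
    rw [← hξ']
    exact pull_eq_one hX' hF' (addR_of_bil hb')
  have hfin' : IsFinite (i ≫ A.hom) := K451.TopFin.isFinite_locus hD h1 h2 h3 i h4
  obtain ⟨e3⟩ := nonempty_comp (Red.bc A.hom At).hom A.hom F' g (isZero_lt (A := At) (T := A) hAt hA hF' hb' hfin')
  obtain ⟨e4⟩ := nonempty_swap (A := A) (T := At) hF g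
  let Q := (Coh.Rpush (Red.bc A.hom At).hom g).obj F'
  let e5 : (Scheme.Modules.pushforward A.hom).obj Q ≅ (Scheme.Modules.pushforward (i ≫ A.hom)).obj ((Scheme.Modules.pullback i).obj Q) :=
    (Scheme.Modules.pushforward A.hom).mapIso (topIso hX' hF').symm ≪≫ (Scheme.Modules.pushforwardComp i A.hom).app _
  let e6 : (Scheme.Modules.pushforward A.hom).obj Q ≅ (Coh.Rpush A.hom g).obj (Coh.structureModule A.left) :=
    e3.symm ≪≫ e4.symm ≪≫ e2 ≪≫ e1
  have hp : PicF.IsInvertible ((Scheme.Modules.pushforward (i ≫ A.hom)).obj ((Scheme.Modules.pullback i).obj Q)) :=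
    TopInv.isInvertible_iso (e6.symm ≪≫ e5) (TopInv.isInvertible_topO A hA)
  obtain ⟨s, hs⟩ := exists_lift hX' hF' (et A) (pull_et he')
  have h6 : s ≫ i ≫ A.hom = 𝟙 S := by
    rw [reassoc_of% hs, et_hom]
  obtain ⟨e7⟩ := nonempty_of_section (i ≫ A.hom) s h6 (isInvertible_top hX' hF' (addR_of_bil hb')) hp
  obtain ⟨e8⟩ := nonempty_et hAt hF' he'
  exact ⟨e6.symm ≪≫ e5 ≪≫ e7 ≪≫ (Scheme.Modules.pullbackComp s i).app Q ≪≫ (Scheme.Modules.pullbackCongr hs).app Q ≪≫ e8⟩

include hA hAt hD in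
/-- **The invertible modules `ω` of an abelian scheme and of its dual are isomorphic.** -/
theorem nonempty_omega (ωA ωAt : S.Modules) (hωA : ExtPow.IsExtPow g (TopInv.cot A) ωA)
    (hωAt : ExtPow.IsExtPow g (TopInv.cot At) ωAt) : Nonempty (ωA ≅ ωAt) := by
  have := hA.proper
  have := hA.smooth
  have := hA.geomConnected
  obtain ⟨ξ, h1, h2, h3⟩ := exists_poinc hD (K732.AV.hF A)
  obtain ⟨e⟩ := nonempty_top hA hAt hD h1 h2 h3
  obtain ⟨e1⟩ := TopDual.nonempty_dual_abSch A hA ωA hωA
  obtain ⟨e2⟩ := TopDual.nonempty_dual_abSch At hAt ωAt hωAt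
  have i1 : PicF.IsInvertible ωA := K451.DetMat.isInvertible_of_isExtPow (Vancyc.H878.Triv.isFinLocFreeOfRank_pullback _
      (K451.RelDim.isFinLocFreeOfRank_omega hA)) hωA
  have i2 : PicF.IsInvertible ωAt := K451.DetMat.isInvertible_of_isExtPow (Vancyc.H878.Triv.isFinLocFreeOfRank_pullback _
      (K451.RelDim.isFinLocFreeOfRank_omega hAt)) hωAt
  have j1 := TopInv.isInvertible_topO A hA
  have j2 := TopInv.isInvertible_topO At hAt
  have k1 : mk _ j1 * mk ωA i1 = 1 := (mk_eq_one_iff (Fdesc.LocGen.isInvertible_tensorMod j1 i1)).2 ⟨e1⟩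
  have k2 : mk _ j2 * mk ωAt i2 = 1 := (mk_eq_one_iff (Fdesc.LocGen.isInvertible_tensorMod j2 i2)).2 ⟨e2⟩
  have k3 : mk _ j1 = mk _ j2 := (mk_eq_iff j1 j2).2 ⟨e⟩
  rw [k3] at k1
  exact (mk_eq_iff i1 i2).1 (mul_left_cancel (k1.trans k2.symm))

end Main

end K451.TopMain
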