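import Groth.Agent.AbSch.K451.TopDir
import Groth.Agent.AbDual.K732.BC
import Groth.Agent.AgPol.K814.Pair

/-!
# Biadditive classes on a product
-/

set_option autoImplicit false
universe u
open CategoryTheory CategoryTheory.Limits AlgebraicGeometry MonoidalCategory CartesianMonoidalCategory MonObj

namespace K451.TopPair

open Groth.Agent Groth.Agent.Grpsch.PicGrp K449.Cube K732.Prim K732.BC K451.TopDir

variable {S : Scheme.{u}} {A T : Over S}

/-- The class is additive in the first variable. -/
def Bil [GrpObj A] (c : Pic (PicF.XT A.hom T)) : Prop :=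
  ∀ (W : Over S) (a b : W ⟶ A) (y : W ⟶ T), ev (a * b) y c = ev a y c * ev b y c

/-- The structure morphism as a point. -/
def str (k : T.left ⟶ S) (hk : k = T.hom) (U : Over T.left) : dn k U ⟶ T :=
  Over.homMk U.hom (by subst hk; rfl)

theorem pl_up {U : Over T.left} (a : dn T.hom U ⟶ A) (c : Pic (PicF.XT A.hom T)) :
    pl (up a : U ⟶ Red.bc T.hom A) c = ev a (str T.hom rfl U) c := by
  rw [ev_def]
  have h : (up a : U ⟶ Red.bc T.hom A).left = (lift a (str T.hom rfl U)).left := by
    apply pullback.hom_ext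
    · rw [up_left_fst]
      exact (congrArg CommaMorphism.left (lift_fst a (str T.hom rfl U))).symm
    · rw [up_left_snd]
      exact (congrArg CommaMorphism.left (lift_snd a (str T.hom rfl U))).symm
  exact congrArg (fun t => pull t c) h

theorem addR_of_bil [GrpObj A] {c : Pic (PicF.XT A.hom T)} (h : Bil c) :
    AddR (X := Red.bc T.hom A) c := by
  obtain ⟨a, ha⟩ := exists_up (k := T.hom) (fst (Red.bc T.hom A) (Red.bc T.hom A))
  obtain ⟨b, hb⟩ := exists_up (k := T.hom) (snd (Red.bc T.hom A) (Red.bc T.hom A))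
  have h1 : (μ[Red.bc T.hom A] : Red.bc T.hom A ⊗ Red.bc T.hom A ⟶ Red.bc T.hom A) = up (a * b) := by
    rw [up_mul, ha, hb, K524.PicZeroVan.mu_eq]
  rw [AddR, h1, ← ha, ← hb, pl_up, pl_up, pl_up]
  exact h _ _ _ _

end K451.TopPair
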