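import Groth.Agent.AbSch.K451.TopFin
import Groth.Agent.AbSch.K451.RegFib
import Groth.Agent.CohqA.InjLift
import Groth.Agent.Sga4h.Edge
import Groth.Agent.Sga4h.LerayAcyc

/-!
# Direct images of a biadditive class along one projection
-/

set_option autoImplicit false
universe u
open CategoryTheory CategoryTheory.Limits AlgebraicGeometry MonoidalCategory CartesianMonoidalCategory MonObj

namespace K451.TopSide

open Groth.Agent Groth.Agent.Grpsch.PicGrp K449.Cube K732.Prim K732.BC K732.Dual K732.PicZero K451.TopDir K451.TopPair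
  K732.Bidual

/-- Leray in the first non-vanishing degree. -/
theorem nonempty_comp {X Y Z : Scheme.{u}} (f : X ⟶ Y) (g : Y ⟶ Z) [Flat f] (F : X.Modules) (m : ℕ)
    (h : ∀ p, p < m → IsZero ((Coh.Rpush f p).obj F)) :
    Nonempty ((Coh.Rpush (f ≫ g) m).obj F ≅ (Scheme.Modules.pushforward g).obj ((Coh.Rpush f m).obj F)) :=
  ⟨((Sga4h.LerayAcyc.rightDerivedCongr (Scheme.Modules.pushforwardComp f g).symm m).app F) ≪≫
    Sga4h.Edge.rightDerivedCompIso (Scheme.Modules.pushforward f) (Scheme.Modules.pushforward g)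
      (fun I hI => CohqA.InjLift.injective_pushforward f I hI) F m h⟩

/-- Points of a closed subscheme finite over the base are closed in the fibres. -/
theorem isClosed_asFiber {V B S : Scheme.{u}} (i : V ⟶ B) [IsClosedImmersion i] (p : B ⟶ S) [IsFinite (i ≫ p)] (v : V) :
    IsClosed ({p.asFiber (i v)} : Set (p.fiber (p (i v)))) := by
  have h1 : IsClosed (i '' closure {v}) := i.isClosedEmbedding.isClosedMap _ isClosed_closure
  have h2 : ({p.asFiber (i v)} : Set (p.fiber (p (i v)))) = p.fiberι (p (i v)) ⁻¹' (i '' closure {v}) := by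
    ext z
    constructor
    · rintro rfl
      refine ⟨v, subset_closure rfl, ?_⟩
      simp
    · rintro ⟨v', hv', hz⟩
      have h3 : (i ≫ p) v' = (i ≫ p) v := by
        rw [Scheme.Hom.comp_apply, Scheme.Hom.comp_apply, hz]
        have := Scheme.Hom.range_fiberι p (p (i v))
        have h4 : p.fiberι (p (i v)) z ∈ Set.range (p.fiberι (p (i v))) := ⟨z, rfl⟩
        rw [this] at h4
        exact h4
      have h5 : v = v' := by
        have hd : DiscreteTopology ((i ≫ p) ⁻¹' {(i ≫ p) v}) := ((i ≫ p).isDiscrete_preimage_singleton _).to_subtype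
        have h6 : (⟨v, rfl⟩ : (i ≫ p) ⁻¹' {(i ≫ p) v}) ⤳ ⟨v', h3⟩ :=
          Topology.IsInducing.subtypeVal.specializes_iff.1 (specializes_iff_mem_closure.2 hv')
        exact congrArg Subtype.val h6.eq
      subst h5
      apply (p.fiberι (p (i v))).isEmbedding.injective
      rw [← hz]
      simp
  rw [h2]
  exact h1.preimage (p.fiberι _).continuous


section Side

variable {S : Scheme.{u}} [IsLocallyNoetherian S] {A T : Over S} [GrpObj A] [GrpObj T] [IsLocallyNoetherian T.left]
  {g : ℕ} (hA : AgPol.IsAbSch A g)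
  (hT : AgPol.IsAbSch T g) {F : (Red.bc T.hom A).left.Modules} (hF : PicF.IsInvertible F) (hb : Bil (A := A) (T := T) (mk F hF))

omit [IsLocallyNoetherian S] [GrpObj T] [IsLocallyNoetherian T.left] in
include hA in
theorem isAbSch : AgPol.IsAbSch (Red.bc T.hom A) g := TopInv.isAbSch_bc A hA T.hom

include hT in
theorem hasReg (hfin : IsFinite ((topIdeal (isAbSch (T := T) hA) hF).subschemeι ≫ T.hom)) (y : T.left)
    (h : pull ((Red.bc T.hom A).hom.fiberι y) (mk F hF) = 1) : K524.FinSupp.HasReg (T.left.presheaf.stalk y) g := by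
  obtain ⟨w, hw⟩ := exists_lift (isAbSch (T := T) hA) hF (T.left.fromSpecResidueField y) h
  let v := w (IsLocalRing.closedPoint _)
  have hv : (topIdeal (isAbSch (T := T) hA) hF).subschemeι v = y := by
    have h1 := congrArg (fun t => t (IsLocalRing.closedPoint _)) hw
    simp only at h1
    exact h1.trans (Scheme.fromSpecResidueField_apply _ _)
  have h2 := isClosed_asFiber (topIdeal (isAbSch (T := T) hA) hF).subschemeι T.hom v
  rw [hv] at h2
  have h3 := RegFib.hasReg_abSch hT (T.hom y) (T.hom.asFiber y) h2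
  rw [Scheme.Hom.fiberι_asFiber] at h3
  exact h3

include hT hb in
theorem isZero_lt (hfin : IsFinite ((topIdeal (isAbSch (T := T) hA) hF).subschemeι ≫ T.hom)) (p : ℕ) (hp : p < g) :
    IsZero ((Coh.Rpush (Red.bc T.hom A).hom p).obj F) :=
  isZero_below (isAbSch hA) hF (addR_of_bil hb) (fun y hy => hasReg hA hT hF hfin y hy) p hp

end Side

section Eta

variable {S : Scheme.{u}} {A T : Over S} [GrpObj A] [GrpObj T]

/-- The unit section of `T`. -/
noncomputable abbrev et (T : Over S) [GrpObj T] : S ⟶ T.left := (η[T] : 𝟙_ (Over S) ⟶ T).left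

theorem et_hom (T : Over S) [GrpObj T] : et T ≫ T.hom = 𝟙 S := Over.w (η[T] : 𝟙_ (Over S) ⟶ T)

omit [GrpObj A] in
theorem one_left : (1 : A ⟶ T).left = A.hom ≫ et T := by
  rw [Hom.one_def, Over.comp_left]
  congr 1

omit [GrpObj A] in
theorem fst_et : pullback.fst (Red.bc T.hom A).hom (et T) =
    (pullback.fst (Red.bc T.hom A).hom (et T) ≫ pullback.fst A.hom T.hom) ≫ (lift (𝟙 A) (1 : A ⟶ T)).left := by
  have h0 : pullback.fst (Red.bc T.hom A).hom (et T) ≫ pullback.snd A.hom T.hom =
    pullback.snd (Red.bc T.hom A).hom (et T) ≫ et T := pullback.condition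
  apply pullback.hom_ext
  · rw [Category.assoc]
    refine Eq.trans ?_ (congrArg (_ ≫ ·) (congrArg CommaMorphism.left (lift_fst (𝟙 A) (1 : A ⟶ T))).symm)
    exact (Category.comp_id _).symm
  · rw [Category.assoc]
    refine Eq.trans ?_ (congrArg (_ ≫ ·) (congrArg CommaMorphism.left (lift_snd (𝟙 A) (1 : A ⟶ T))).symm)
    refine Eq.trans ?_ (congrArg (_ ≫ ·) (one_left (A := A) (T := T))).symm
    rw [Category.assoc, reassoc_of% (pullback.condition (f := A.hom) (g := T.hom)), reassoc_of% h0, reassoc_of% (et_hom T)]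
    exact h0

theorem pull_et {c : Pic (PicF.XT A.hom T)} (h : ev (𝟙 A) (1 : A ⟶ T) c = 1) :
    pull (pullback.fst (Red.bc T.hom A).hom (et T)) c = 1 := by
  rw [fst_et, pull_comp]
  exact (congrArg _ h).trans (map_one _)

variable [IsLocallyNoetherian T.left]

/-- The restriction of the top direct image to the unit section. -/
theorem nonempty_et {g : ℕ} (hA : AgPol.IsAbSch A g) {F : (Red.bc T.hom A).left.Modules} (hF : PicF.IsInvertible F)
    (h : ev (A := A) (T := T) (𝟙 A) (1 : A ⟶ T) (mk F hF) = 1) :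
    Nonempty ((Scheme.Modules.pullback (et T)).obj ((Coh.Rpush (Red.bc T.hom A).hom g).obj F) ≅
      (Coh.Rpush A.hom g).obj (Coh.structureModule A.left)) := by
  have := hA.proper
  obtain ⟨e1⟩ := TopInv.nonempty_top_bc (Red.bc T.hom A) (isAbSch (T := T) hA) (et T) F hF
  have h1 := pull_et h
  rw [pull_mk, mk_eq_one_iff] at h1
  obtain ⟨e2⟩ := h1
  let C : Over S := (Over.pullback (et T)).obj (Red.bc T.hom A)
  have hsq : IsPullback (pullback.fst (Red.bc T.hom A).hom (et T) ≫ pullback.fst A.hom T.hom) C.hom A.hom (𝟙 S) := by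
    have h3 := (IsPullback.of_hasPullback (Red.bc T.hom A).hom (et T)).paste_horiz (IsPullback.of_hasPullback A.hom T.hom)
    rw [et_hom] at h3
    exact h3
  have hO : Coh.IsQCoh (Coh.structureModule A.left) := Ega2.QCohLocal.isQCoh_of_isInvertible Fdesc.LocGen.isInvertible_structureModule
  obtain ⟨e3⟩ := Groth.Agent.S0033.result A.hom (𝟙 S) _ C.hom hsq (Coh.structureModule A.left) g
  obtain ⟨e4⟩ := TopInv.nonempty_pullO (pullback.fst (Red.bc T.hom A).hom (et T) ≫ pullback.fst A.hom T.hom)
  refine ⟨e1.symm ≪≫ (Coh.Rpush C.hom g).mapIso (e2 ≪≫ e4.symm) ≪≫ e3.symm ≪≫ (Scheme.Modules.pullbackId S).app _⟩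

end Eta

end K451.TopSide
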