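import Groth.Agent.AbSch.K451.TopSide
import Groth.Agent.AlgGrp.K400.Quot
import Groth.Agent.Variety.K425.Chart
import Groth.Agent.Sga5.AmpleFib

/-!
# The Mumford class of a symmetric rigidified module pulled back by an isogeny
-/

set_option autoImplicit false
universe u
open CategoryTheory CategoryTheory.Limits AlgebraicGeometry MonoidalCategory CartesianMonoidalCategory MonObj

namespace K451.TopV

open Groth.Agent Groth.Agent.Grpsch.PicGrp K449.Cube K732.Prim K732.BC K732.Dual K732.PicZero K451.TopDir K451.TopPair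
  K732.Bidual K451.TopSide
open K528.MumZero (mumCl)

section Mum

variable {S : Scheme.{u}} {B : Over S} [GrpObj B] {c : Pic B.left}

theorem ev_mum (c : Pic B.left) {W : Over S} (x y : W ⟶ B) :
    ev x y (mumCl B c) = pl (x * y) c * (pl x c)⁻¹ * (pl y c)⁻¹ := K528.MumZero.pull_lift_mumCl B c x y

theorem pl_one (h : pull (et B) c = 1) (W : Over S) : pl (1 : W ⟶ B) c = 1 := by
  have h1 : (1 : W ⟶ B).left = W.hom ≫ et B := K451.TopSide.one_left (A := W) (T := B)
  refine (congrArg (fun t => pull t c) h1).trans ?_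
  rw [pull_comp, h, map_one]

variable [IsProper B.hom] [Smooth B.hom] [GeometricallyIntegral B.hom]

theorem cube' (L : Pic B.left) {T : Over S} (a b c : T ⟶ B) :
    pl (a * b * c) L * pl a L * pl b L * pl c L =
      pl (a * b) L * pl (a * c) L * pl (b * c) L * pl 1 L := by
  have := cubeExpr_eq_one_of_geometricallyIntegral L a b c
  rwa [cubeExpr, mul_inv_eq_one] at this

theorem ev_mul_left (h : pull (et B) c = 1) {W : Over S} (a b y : W ⟶ B) :
    ev (a * b) y (mumCl B c) = ev a y (mumCl B c) * ev b y (mumCl B c) := by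
  have h1 := cube' c a b y
  rw [pl_one h] at h1
  rw [ev_mum, ev_mum, ev_mum]
  have h' := congrArg Additive.ofMul h1
  apply Additive.ofMul.injective
  simp only [ofMul_mul, ofMul_inv, ofMul_one] at h' ⊢
  linear_combination (norm := module) h'

omit [IsProper B.hom] [Smooth B.hom] [GeometricallyIntegral B.hom] in
theorem ev_comm [IsCommMonObj B] {W : Over S} (a y : W ⟶ B) : ev a y (mumCl B c) = ev y a (mumCl B c) := by
  rw [ev_mum, ev_mum, _root_.mul_comm y a, mul_right_comm]

theorem ev_pow_left (h : pull (et B) c = 1) {W : Over S} (a y : W ⟶ B) (n : ℕ) :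
    ev (a ^ n) y (mumCl B c) = ev a y (mumCl B c) ^ n := by
  induction n with
  | zero =>
    rw [pow_zero, pow_zero, ev_mum, _root_.one_mul, pl_one h, inv_one, _root_.mul_one, mul_inv_cancel]
  | succ n ih => rw [pow_succ, ev_mul_left h, ih, pow_succ]

/-- `⟨y, y⟩ = 2 c(y)` for a symmetric class. -/
theorem ev_self (h : pull (et B) c = 1) (hs : pl (𝟙 B ^ (-1 : ℤ)) c = c) {W : Over S} (y : W ⟶ B) :
    ev y y (mumCl B c) = pl y c ^ 2 := by
  have h1 := cube' c y y y⁻¹
  have h2 : pl y⁻¹ c = pl y c := by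
    have h3 : y⁻¹ = y ≫ (𝟙 B ^ (-1 : ℤ)) := by
      rw [zpow_neg_one, GrpObj.comp_inv, Category.comp_id]
    rw [h3, pl_comp, hs]
  rw [mul_assoc y y y⁻¹, mul_inv_cancel, _root_.mul_one, h2, pl_one h, _root_.mul_one, _root_.mul_one, _root_.mul_one] at h1
  rw [ev_mum]
  have h' := congrArg Additive.ofMul h1
  apply Additive.ofMul.injective
  simp only [ofMul_mul, ofMul_inv, ofMul_pow] at h' ⊢
  linear_combination (norm := module) (-1 : ℤ) • h'

end Mum

/-- A class trivial along `V ⟶ T` is trivial at all points of `V`. -/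
theorem ev_eq_one {S : Scheme.{u}} {A T : Over S} (ζ : Pic (PicF.XT A.hom T)) {V : Scheme.{u}} (i : V ⟶ T.left)
    (h : pull (pullback.fst (Red.bc T.hom A).hom i) ζ = 1) {W : Over S} (a : W ⟶ A) (y : W ⟶ T)
    (w : W.left ⟶ V) (hw : w ≫ i = y.left) : ev a y ζ = 1 := by
  rw [ev_def]
  have h1 : (lift a y).left = pullback.lift (lift a y).left w (by
      rw [hw]
      exact congrArg CommaMorphism.left (lift_snd a y)) ≫ pullback.fst (Red.bc T.hom A).hom i :=
    (pullback.lift_fst _ _ _).symm
  exact (congrArg (fun t => pull t ζ) h1).trans (by rw [pull_comp, h, map_one])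

section Finite

variable {k : Type u} [Field k] [IsAlgClosed k] {A B : Over (Spec (CommRingCat.of k))} [GrpObj A] [GrpObj B]
  [IsProper A.hom] [GeometricallyIntegral A.hom] [LocallyOfFiniteType B.hom]

/-- Over an algebraically closed field, the class is trivial at finitely many points. -/
theorem finite_triv (lam : A ⟶ B) [IsMonHom lam] [IsFinite lam.left] [Surjective lam.left] (M : B.left.Modules)
    (hM : CohB1.IsAmple M) : Set.Finite {b : 𝟙_ (Over (Spec (CommRingCat.of k))) ⟶ B |
    ∀ (W : Over (Spec (CommRingCat.of k))) (a : W ⟶ A), ev (a ≫ lam) (toUnit W ≫ b) (mumCl B (mk M hM.1)) = 1} := by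
  have hcomm : IsCommMonObj A := isCommMonObj_of_isProper_of_geometricallyIntegral A
  let L := (Scheme.Modules.pullback lam.left).obj M
  have hL : CohB1.IsAmple L := Sga5.AmpleFib.isAmple_pullback lam.left hM
  have hfin := K512.PhiSurj.finite_of_isAmple L hL
  refine (hfin.image (fun x => x ≫ lam)).subset fun b hb => ?_
  obtain ⟨x, hx⟩ := K512.Pts.exists_lift lam b
  refine ⟨x, ?_, hx⟩
  have h7 := hb A (𝟙 A)
  have h8 : mk L hL.1 = pl lam (mk M hM.1) := (pull_mk lam.left hM.1).symm
  have h9 : pl (toUnit A ≫ x) (mk L hL.1) = 1 := by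
    rw [pl_comp]
    have : pl x (mk L hL.1) = 1 := pic_spec_local k _
    rw [this, map_one]
  have h10 : pl (𝟙 A) (mk L hL.1) = mk L hL.1 := pull_id _
  rw [← hx, ← Category.assoc, ev_mum, ← MonObj.mul_comp, pl_comp, pl_comp, pl_comp, ← h8, h9, h10, inv_one,
    _root_.mul_one, mul_inv_eq_one] at h7
  exact h7

end Finite

theorem isMonHom_pow {S : Scheme.{u}} {A : Over S} [GrpObj A] [IsCommMonObj A] (n : ℕ) : IsMonHom (𝟙 A ^ n : A ⟶ A) where
  one_hom := by rw [MonObj.comp_pow, Category.comp_id, MonObj.one_eq_one, one_pow]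
  mul_hom := by
    rw [MonObj.comp_pow, Category.comp_id, MonObj.mul_eq_mul, MonObj.comp_mul,
      tensorHom_fst, tensorHom_snd, MonObj.comp_pow, MonObj.comp_pow, Category.comp_id,
      Category.comp_id, mul_pow]

section Main

variable {S : Scheme.{u}} {A B : Over S} [GrpObj A] [GrpObj B]

/-- The class `(lam × 1)^* (Mumford class)`. -/
noncomputable def zet (lam : A ⟶ B) (c : Pic B.left) : Pic (PicF.XT A.hom B) := pull (AbDual.bcMap lam B) (mumCl B c)

omit [GrpObj A] in
theorem ev_zet (lam : A ⟶ B) (c : Pic B.left) {W : Over S} (a : W ⟶ A) (y : W ⟶ B) :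
    ev a y (zet lam c) = pl ((a ≫ lam) * y) c * (pl (a ≫ lam) c)⁻¹ * (pl y c)⁻¹ := by
  rw [zet, ev_bcMap, ev_mum]

omit [GrpObj B] in
theorem pl_up' {T : Scheme.{u}} {t : T ⟶ S} {M : B.left.Modules} (hM : PicF.IsInvertible M)
    (hM' : PicF.IsInvertible ((Scheme.Modules.pullback (pullback.fst B.hom t)).obj M)) {W : Over T} (b : dn t W ⟶ B) :
    pl (up b : W ⟶ Red.bc t B) (mk ((Scheme.Modules.pullback (pullback.fst B.hom t)).obj M) hM') = pl b (mk M hM) := by
  have h1 : mk ((Scheme.Modules.pullback (pullback.fst B.hom t)).obj M) hM' = pull (pullback.fst B.hom t) (mk M hM) :=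
    (pull_mk _ hM).symm
  rw [h1]
  refine (pull_comp _ _ _).symm.trans ?_
  exact congrArg (fun t => pull t (mk M hM)) (up_left_fst b)

variable {g : ℕ} (hA : AgPol.IsAbSch A g) (hB : AgPol.IsAbSch B g) (lam : A ⟶ B) [IsMonHom lam]

/-- Finiteness over the base of a closed subscheme where the class is trivial. -/
theorem isFinite_locus [IsProper A.hom] [GeometricallyIntegral A.hom] [IsProper B.hom]
    [IsFinite lam.left] [Surjective lam.left]
    {M : B.left.Modules} (hM : PicF.IsInvertible M) (hamp : RelAmple.IsRelAmple B.hom M)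
    {V : Scheme.{u}} (i : V ⟶ B.left) [IsClosedImmersion i]
    (h : pull (pullback.fst (Red.bc B.hom A).hom i) (zet lam (mk M hM)) = 1) : IsFinite (i ≫ B.hom) := by
  refine K451.GeomFin.isFinite_of_geom _ fun k _ _ t => ?_
  have i1 : IsProper (Red.bc t A).hom := inferInstanceAs (IsProper (pullback.snd A.hom t))
  have i2 : GeometricallyIntegral (Red.bc t A).hom := inferInstanceAs (GeometricallyIntegral (pullback.snd A.hom t))
  have i3 : IsProper (Red.bc t B).hom := inferInstanceAs (IsProper (pullback.snd B.hom t))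
  let lam' : Red.bc t A ⟶ Red.bc t B := (Over.pullback t).map lam
  have hsq : IsPullback lam'.left (pullback.fst A.hom t) (pullback.fst B.hom t) lam.left :=
    Grpsch.AbBC.isPullback_pullback_map t lam
  have i4 : IsFinite lam'.left := MorphismProperty.of_isPullback hsq.flip inferInstance
  have i5 : Surjective lam'.left := MorphismProperty.of_isPullback hsq.flip inferInstance
  have hamp' : CohB1.IsAmple ((Scheme.Modules.pullback (pullback.fst B.hom t)).obj M) :=
    K425.Chart.isAmple_pullback_of_relAmple hamp t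
  have hfin := finite_triv lam' ((Scheme.Modules.pullback (pullback.fst B.hom t)).obj M) hamp'
  let f : {v : Spec (CommRingCat.of k) ⟶ V // v ≫ i ≫ B.hom = t} →
      {b : 𝟙_ (Over (Spec (CommRingCat.of k))) ⟶ Red.bc t B |
        ∀ (W : Over (Spec (CommRingCat.of k))) (a : W ⟶ Red.bc t A), ev (a ≫ lam') (toUnit W ≫ b)
          (mumCl (Red.bc t B) (mk ((Scheme.Modules.pullback (pullback.fst B.hom t)).obj M) hamp'.1)) = 1} := fun v =>
    ⟨up (k := t) (U := 𝟙_ _) (Over.homMk (v.1 ≫ i) (by
      change (v.1 ≫ i) ≫ B.hom = 𝟙 _ ≫ t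
      rw [Category.assoc, v.2, Category.id_comp])), by
      intro W a
      obtain ⟨a, rfl⟩ := exists_up a
      rw [← up_comp, comp_up, ev_mum, ← up_mul, pl_up' hM, pl_up' hM, pl_up' hM, ← ev_zet]
      refine ev_eq_one _ i h _ _ ((toUnit W).left ≫ v.1) ?_
      rw [Category.assoc]
      rfl⟩
  have hfin' := hfin.to_subtype
  refine Finite.of_injective f fun v w hvw => ?_
  have h4 := congrArg Subtype.val hvw
  have h5 := up_inj h4
  have h6 : v.1 ≫ i = w.1 ≫ i := congrArg CommaMorphism.left h5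
  exact Subtype.ext ((cancel_mono i).1 h6)

/-- The top direct image of the structure sheaf commutes with base change, for any cartesian square. -/
theorem nonempty_topO_sq [IsLocallyNoetherian S] {A : Over S} [GrpObj A] {g : ℕ} (hA : AgPol.IsAbSch A g)
    {X T : Scheme.{u}} {p : X ⟶ A.left} {q : X ⟶ T} {t : T ⟶ S} (hsq : IsPullback p q A.hom t) :
    Nonempty ((Coh.Rpush q g).obj (Coh.structureModule X) ≅
      (Scheme.Modules.pullback t).obj ((Coh.Rpush A.hom g).obj (Coh.structureModule A.left))) := by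
  have := hA.proper
  have := hA.smooth
  have hO := Fdesc.LocGen.isInvertible_structureModule (X := A.left)
  obtain ⟨e⟩ := TopBC.nonempty_top_bc hsq _ (Ega3B.SectExact.isFlat_of_isInvertible hO)
    (Groth.Agent.S2329.isCoh_of_isInvertible hO).1 g (fun p hp => TopInv.isZero_above A hA _ hO p hp)
  obtain ⟨e'⟩ := TopInv.nonempty_pullO p
  exact ⟨(Coh.Rpush q g).mapIso e'.symm ≪≫ e⟩

include hA hB in
/-- **Direct images of the pull back of the Mumford class of a symmetric rigidified module along an isogeny.** -/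
theorem exists_locus [IsLocallyNoetherian S] [IsCommMonObj A] [IsCommMonObj B]
    [IsFinite lam.left] [Flat lam.left] [Surjective lam.left]
    (m : ℕ) (hker : ∀ (T : Over S) (x : T ⟶ A), x ≫ lam = 1 → x ^ m = 1)
    {M : B.left.Modules} (hM : PicF.IsInvertible M) (hrig : pull (et B) (mk M hM) = 1)
    (hsym : pl (𝟙 B ^ (-1 : ℤ)) (mk M hM) = mk M hM) (hamp : RelAmple.IsRelAmple B.hom M) :
    ∃ (V : Scheme.{u}) (i : V ⟶ B.left) (_ : IsClosedImmersion i) (_ : IsFinite (i ≫ B.hom)),
      (∀ (F : (Red.bc B.hom A).left.Modules) (hF : PicF.IsInvertible F), mk F hF = zet lam (mk M hM) →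
        (∀ p : ℕ, p ≠ g → IsZero ((Coh.Rpush (Red.bc B.hom A).hom p).obj F)) ∧
        Nonempty ((Coh.Rpush (Red.bc B.hom A).hom g).obj F ≅ (Scheme.Modules.pushforward i).obj
          ((Scheme.Modules.pullback (i ≫ B.hom)).obj ((Coh.Rpush A.hom g).obj (Coh.structureModule A.left))))) ∧
      pull i (mk M hM) ^ (2 * m) = 1 := by
  have := hA.proper
  have := hA.smooth
  have := hB.proper
  have := hB.smooth
  have hgA : GeometricallyIntegral A.hom := K451.Prod.geometricallyIntegral_of_isAbSch hA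
  have hgB : GeometricallyIntegral B.hom := K451.Prod.geometricallyIntegral_of_isAbSch hB
  have n1 : IsLocallyNoetherian A.left := LocallyOfFiniteType.isLocallyNoetherian A.hom
  have n2 : IsLocallyNoetherian B.left := LocallyOfFiniteType.isLocallyNoetherian B.hom
  obtain ⟨F₀, hF₀, hζ₀⟩ := exists_mk (zet lam (mk M hM))
  have hX := isAbSch (T := B) hA
  have hb : Bil (A := A) (T := B) (mk F₀ hF₀) := by
    rw [← hζ₀]
    intro W a b y
    rw [zet, ev_bcMap, ev_bcMap, ev_bcMap, MonObj.mul_comp, ev_mul_left hrig]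
  have hc := addR_of_bil hb
  let i := (topIdeal hX hF₀).subschemeι
  have h4 : pull (pullback.fst (Red.bc B.hom A).hom i) (zet lam (mk M hM)) = 1 := by
    have := pull_eq_one hX hF₀ hc
    rw [← hζ₀] at this
    exact this
  have hfin : IsFinite (i ≫ B.hom) := isFinite_locus lam hM hamp i h4
  refine ⟨_, i, inferInstance, hfin, fun F hF hζ => ?_, ?_⟩
  · obtain ⟨e⟩ := (mk_eq_iff hF hF₀).1 (hζ.trans hζ₀)
    refine ⟨fun p hp => ?_, ?_⟩
    · rcases Nat.lt_or_gt_of_ne hp with hp | hp
      · exact (isZero_lt (A := A) (T := B) hA hB hF₀ hb hfin p hp).of_iso ((Coh.Rpush _ p).mapIso e)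
      · exact TopInv.isZero_above (Red.bc B.hom A) hX F hF p hp
    · have hsq := (IsPullback.of_hasPullback (Red.bc B.hom A).hom i).paste_horiz (IsPullback.of_hasPullback A.hom B.hom)
      obtain ⟨e1⟩ := nonempty_topO_sq hA hsq
      obtain ⟨e2⟩ := TopInv.nonempty_top_bc (Red.bc B.hom A) hX i F₀ hF₀
      rw [hζ₀, pull_mk, mk_eq_one_iff] at h4
      obtain ⟨e3⟩ := h4
      exact ⟨(Coh.Rpush _ g).mapIso e ≪≫ (topIso hX hF₀).symm ≪≫ (Scheme.Modules.pushforward i).mapIso
        (e2.symm ≪≫ (Coh.Rpush _ g).mapIso e3 ≪≫ e1)⟩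
  · have hpow : IsMonHom (𝟙 A ^ m) := isMonHom_pow m
    obtain ⟨lam', hl, hlam⟩ := K400.Quot.exists_desc_hom lam (𝟙 A ^ m) (fun T x hx => by
      rw [MonObj.comp_pow, Category.comp_id]
      exact hker T x hx)
    have hlam' : lam' ≫ lam = 𝟙 B ^ m := by
      have : Epi lam := Groth.Agent.Sga3.H962.Fpqc.epi_of_flat_surjective _
      rw [← cancel_epi lam, ← Category.assoc, hlam, MonObj.comp_pow, Category.comp_id, MonObj.pow_comp, Category.id_comp]
    let y : Over.mk (i ≫ B.hom) ⟶ B := Over.homMk i rfl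
    have h5 := ev_eq_one (zet lam (mk M hM)) i h4 (y ≫ lam') y (𝟙 _) (Category.id_comp _)
    rw [zet, ev_bcMap, Category.assoc, hlam', MonObj.comp_pow, Category.comp_id, ev_pow_left hrig, ev_self hrig hsym,
      ← pow_mul] at h5
    exact h5

end Main

end K451.TopV
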