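import Groth.Agent.AbSch.K451.FinPts
import Groth.Agent.Sga7.H729.TorsionSec
import Groth.Prelude.Def_AbDual
import Mathlib.AlgebraicGeometry.Morphisms.QuasiFinite

/-!
# Torsion points of the generic and the closed fibre over a normal local domain
-/

set_option autoImplicit false
universe u

open CategoryTheory Limits MonoidalCategory CartesianMonoidalCategory MonObj AlgebraicGeometry

namespace K451.TorsCount

open Groth.Agent.Sga7.H729.TorsionSec Groth.Agent.Sga67.TorsionLift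

variable {R K k : Type u} [CommRing R] [IsDomain R] [IsLocalRing R] [IsIntegrallyClosed R]
  [Field K] [Algebra R K] [IsFractionRing R K] [Field k] [Algebra R k]

/-- A torsion point over the fraction field extends. -/
theorem exists_ext (A : Over (Spec (CommRingCat.of R))) [GrpObj A] (n : ℕ)
    [IsFinite (𝟙 A ^ n).left] (z : sp R K ⟶ A) (hz : z ^ n = 1) :
    ∃ a : 𝟙_ (Over (Spec (CommRingCat.of R))) ⟶ A, a ^ n = 1 ∧ toUnit _ ≫ a = z := by
  obtain ⟨z', hz1, hz2⟩ := exists_ker_pt z hz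
  obtain ⟨a', ha, hz'⟩ := FinPts.exists_section (kerHom A n) z' hz2
  have haw : (a' ≫ pullback.fst _ _) ≫ A.hom = (𝟙_ (Over (Spec (CommRingCat.of R)))).hom := by
    have h1 : (𝟙 A ^ n).left ≫ A.hom = A.hom := Over.w _
    have h2 : (η[A] : 𝟙_ (Over (Spec (CommRingCat.of R))) ⟶ A).left ≫ A.hom = 𝟙 _ := Over.w _
    calc (a' ≫ pullback.fst _ _) ≫ A.hom = a' ≫ pullback.fst _ _ ≫ (𝟙 A ^ n).left ≫ A.hom := by
          rw [Category.assoc, h1]
      _ = a' ≫ pullback.snd _ _ ≫ (η[A] : 𝟙_ (Over (Spec (CommRingCat.of R))) ⟶ A).left ≫ A.hom := by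
          rw [pullback.condition_assoc]
      _ = 𝟙 _ := by
          rw [h2, Category.comp_id]
          exact ha
  let a : 𝟙_ (Over (Spec (CommRingCat.of R))) ⟶ A := Over.homMk (a' ≫ pullback.fst _ _) haw
  refine ⟨a, ?_, ?_⟩
  · rw [← comp_pow_id]
    ext1
    change (a' ≫ pullback.fst _ _) ≫ (𝟙 A ^ n).left = (𝟙 _) ≫ (η[A] : 𝟙_ (Over (Spec (CommRingCat.of R))) ⟶ A).left
    rw [Category.assoc, pullback.condition, ← Category.assoc]
    congr 1
  · ext1
    change (sp R K).hom ≫ a' ≫ pullback.fst _ _ = z.left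
    rw [← hz1, ← hz', Category.assoc]
    rfl

omit [IsDomain R] [IsLocalRing R] [IsIntegrallyClosed R] in
theorem finite_torsPts (A : Over (Spec (CommRingCat.of R))) [GrpObj A] [IsCommMonObj A] (n : ℕ)
    [IsFinite (𝟙 A ^ n).left] : Finite (AbDual.torsPts A n (sp R k)) := by
  have key : ∀ z : AbDual.torsPts A n (sp R k),
      ∃ z' : {z' : Spec (CommRingCat.of k) ⟶ _ //
        z' ≫ kerHom A n = Spec.map (CommRingCat.ofHom (algebraMap R k))},
        z'.1 ≫ pullback.fst _ _ = z.1.left := by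
    intro z
    obtain ⟨z', h1, h2⟩ := exists_ker_pt (G := A) (n := n) z.1 z.2
    exact ⟨⟨z', h2⟩, h1⟩
  choose Φ hΦ using key
  have := FinPts.finite_pts (kerHom A n) k
  refine Finite.of_injective Φ fun z z' h => ?_
  refine Subtype.ext (Over.OverMorphism.ext ?_)
  rw [← hΦ z, ← hΦ z', h]

theorem card_le (A : Over (Spec (CommRingCat.of R))) [GrpObj A] [IsCommMonObj A] (n : ℕ)
    [IsFinite (𝟙 A ^ n).left] [Etale (𝟙 A ^ n).left] [IsLocalHom (algebraMap R k)] :
    Nat.card (AbDual.torsPts A n (sp R K)) ≤ Nat.card (AbDual.torsPts A n (sp R k)) := by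
  have := finite_torsPts (R := R) (k := k) A n
  have key : ∀ z : AbDual.torsPts A n (sp R K), ∃ a : 𝟙_ (Over (Spec (CommRingCat.of R))) ⟶ A,
      a ^ n = 1 ∧ toUnit _ ≫ a = z.1 := fun z => exists_ext A n z.1 z.2
  choose Φ hΦ1 hΦ2 using key
  refine Nat.card_le_card_of_injective (fun z => (⟨toUnit (sp R k) ≫ Φ z, ?_⟩ :
    AbDual.torsPts A n (sp R k))) fun z z' h => ?_
  · change (toUnit (sp R k) ≫ Φ z) ^ n = 1
    rw [← MonObj.comp_pow, hΦ1, MonObj.comp_one]
  · refine Subtype.ext ?_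
    rw [← hΦ2 z, ← hΦ2 z', sec_ext_of_pow_eq_one (n := n) (T := k) (Φ z) (Φ z') (hΦ1 z) (hΦ1 z')
      (congrArg Subtype.val h)]

end K451.TorsCount
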