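import Groth.Agent.Sga67.PushTwistD

/-!
# Restriction of sections along a section of `p` with `O_S = p_* O_X`

If `e` is a section of `p : X ⟶ S`, `O_S = p_* O_X` and `M ≅ p^* c` with `c` finite locally free then
`Γ(X, M) → Γ(S, e^* M)` is bijective.
-/

set_option autoImplicit false
universe u

open CategoryTheory Limits AlgebraicGeometry Opposite

namespace K451.UnitSec

theorem pullbackComp_inv_unit {X Q P : Scheme.{u}} (j : X ⟶ Q) (g : Q ⟶ P) (M : P.Modules)
    (V : P.Opens) (m : Γ(M, V)) :
    ((Scheme.Modules.pullbackComp j g).inv.app M).app ((j ≫ g) ⁻¹ᵁ V)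
      (((Scheme.Modules.pullbackPushforwardAdjunction (j ≫ g)).unit.app M).app V m) =
      ((Scheme.Modules.pullbackPushforwardAdjunction j).unit.app
        ((Scheme.Modules.pullback g).obj M)).app (g ⁻¹ᵁ V)
        (((Scheme.Modules.pullbackPushforwardAdjunction g).unit.app M).app V m) := by
  have h := unit_conjugateEquiv ((Scheme.Modules.pullbackPushforwardAdjunction g).comp
    (Scheme.Modules.pullbackPushforwardAdjunction j)) (Scheme.Modules.pullbackPushforwardAdjunction (j ≫ g))
    (Scheme.Modules.pullbackComp j g).inv M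
  rw [Scheme.Modules.conjugateEquiv_pullbackComp_inv] at h
  exact congr((Scheme.Modules.Hom.app $h V) m).symm

theorem bijective_app_of_isIso {X : Scheme.{u}} {M N : X.Modules} (φ : M ⟶ N) [IsIso φ]
    (U : X.Opens) : Function.Bijective (φ.app U) := by
  have h1 : ∀ x, (inv φ).app U (φ.app U x) = x := fun x => by
    have := congr((Scheme.Modules.Hom.app $(IsIso.hom_inv_id φ) U) x)
    exact this
  have h2 : ∀ x, φ.app U ((inv φ).app U x) = x := fun x => by
    have := congr((Scheme.Modules.Hom.app $(IsIso.inv_hom_id φ) U) x)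
    exact this
  exact ⟨Function.LeftInverse.injective h1, Function.RightInverse.surjective h2⟩

/-- The statement for `p^* c`. -/
theorem bijective_unit_pullback {X S : Scheme.{u}} (p : X ⟶ S) (e : S ⟶ X) (he : e ≫ p = 𝟙 S)
    (hp : ∀ W : S.Opens, Function.Bijective (p.app W)) {c : S.Modules}
    (hc : FlatMod.IsFinLocFree c) :
    Function.Bijective (((Scheme.Modules.pullbackPushforwardAdjunction e).unit.app
      ((Scheme.Modules.pullback p).obj c)).app (⊤ : X.Opens)) := by
  have hb := Groth.Agent.VarietyB.TensCoh.HasBases.of_isFinLocFree hc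
  have h1 : IsIso ((Scheme.Modules.pullbackPushforwardAdjunction p).unit.app c) :=
    Groth.Agent.Sga67.PushTwist.isIso_unit p (fun W _ => hp W) hb
  have hi : IsIso (e ≫ p) := by rw [he]; infer_instance
  have h2 : IsIso ((Scheme.Modules.pullbackPushforwardAdjunction (e ≫ p)).unit.app c) :=
    Groth.Agent.Sga67.PushTwist.isIso_unit (e ≫ p)
      (fun W _ => ConcreteCategory.bijective_of_isIso ((e ≫ p).app W)) hb
  have h3 := bijective_app_of_isIso ((Scheme.Modules.pullbackPushforwardAdjunction p).unit.app c) ⊤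
  have h4 := bijective_app_of_isIso
    ((Scheme.Modules.pullbackPushforwardAdjunction (e ≫ p)).unit.app c) ⊤
  have h5 := bijective_app_of_isIso ((Scheme.Modules.pullbackComp e p).inv.app c)
    ((e ≫ p) ⁻¹ᵁ ⊤)
  have h6 : (⇑(((Scheme.Modules.pullbackPushforwardAdjunction e).unit.app
      ((Scheme.Modules.pullback p).obj c)).app (p ⁻¹ᵁ ⊤)) ∘
      ⇑(((Scheme.Modules.pullbackPushforwardAdjunction p).unit.app c).app ⊤)) =
      ⇑(((Scheme.Modules.pullbackComp e p).inv.app c).app ((e ≫ p) ⁻¹ᵁ ⊤)) ∘
      ⇑(((Scheme.Modules.pullbackPushforwardAdjunction (e ≫ p)).unit.app c).app ⊤) := by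
    funext m
    exact (pullbackComp_inv_unit e p c ⊤ m).symm
  have h7 := h5.comp h4
  have h8 : Function.Bijective (⇑(((Scheme.Modules.pullbackPushforwardAdjunction e).unit.app
      ((Scheme.Modules.pullback p).obj c)).app (p ⁻¹ᵁ ⊤)) ∘
      ⇑(((Scheme.Modules.pullbackPushforwardAdjunction p).unit.app c).app ⊤)) := by
    rw [h6]
    exact h7
  exact (Function.Bijective.of_comp_iff _ h3).mp h8

/-- The statement for modules isomorphic to some `p^* c`. -/
theorem bijective_unit {X S : Scheme.{u}} (p : X ⟶ S) (e : S ⟶ X) (he : e ≫ p = 𝟙 S)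
    (hp : ∀ W : S.Opens, Function.Bijective (p.app W)) {c : S.Modules}
    (hc : FlatMod.IsFinLocFree c) {M : X.Modules}
    (iso : M ≅ (Scheme.Modules.pullback p).obj c) :
    Function.Bijective (((Scheme.Modules.pullbackPushforwardAdjunction e).unit.app M).app
      (⊤ : X.Opens)) := by
  have h1 := bijective_unit_pullback p e he hp hc
  have h2 := bijective_app_of_isIso iso.hom ⊤
  have h3 := bijective_app_of_isIso ((Scheme.Modules.pullback e).map iso.hom) (e ⁻¹ᵁ ⊤)
  have h4 : ⇑(((Scheme.Modules.pullback e).map iso.hom).app (e ⁻¹ᵁ ⊤)) ∘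
      ⇑(((Scheme.Modules.pullbackPushforwardAdjunction e).unit.app M).app (⊤ : X.Opens)) =
      ⇑(((Scheme.Modules.pullbackPushforwardAdjunction e).unit.app
      ((Scheme.Modules.pullback p).obj c)).app (⊤ : X.Opens)) ∘ ⇑(iso.hom.app ⊤) := by
    funext m
    have := (Scheme.Modules.pullbackPushforwardAdjunction e).unit.naturality iso.hom
    exact congr((Scheme.Modules.Hom.app $this ⊤) m).symm
  have h5 := h1.comp h2
  rw [← h4] at h5
  exact (Function.Bijective.of_comp_iff' h3 _).mp h5

end K451.UnitSec
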